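import Mathlib
import Cfsg.Agent.H81.LyO
import Cfsg.Agent.H81.LyF

/-!
# The class of long root elements of `G₂(5)`; an involution and an element of order three
-/

set_option autoImplicit false
set_option maxRecDepth 1000000
set_option linter.all false
set_option Elab.async false

namespace Cfsg.Agent.H81.Ly

open Cfsg.Agent.H42 Cfsg.Agent.H46 Cfsg.Agent.H81.DCE MulAction
open Cfsg.Agent.H44 (ev Sat gen wgen lettersIn invW)

theorem enum_conj {O : Ops} {G : Type*} [Group G] [Finite G] (C : Coded O G) {K : Subgroup G}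
    {mv : ℕ → ℕ → ℕ} {m : ℕ} (hm : 0 < m) (hmv : C.cjPts.Moves K mv m) {ga ga' : ℕ → ℕ} {g : ℕ → G}
    {r : ℕ} (hr : 0 < r) (h1 : ∀ a < r, C.R (ga a) (g a)) (h2 : ∀ a < r, C.R (ga' a) (g a)⁻¹) {v : ℕ} {x : G}
    (hx : C.R v x) {par gi dep : ℕ → ℕ} {n : ℕ} (hn : (orbit (⊤ : Subgroup G) (Cj.mk x)).ncard ≤ n)
    (hs : ∀ i < n, sortP (fun i => O.key (tabF (fun a => O.mul (O.mul (ga (Nat.mod a r)) v) (ga' (Nat.mod a r)))
      (fun j v => mv (Nat.mod j m) v) par gi dep i)) n i = true) (y : G) (hy : IsConj x y) :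
    ∃ i < n, C.R (tabF (fun a => O.mul (O.mul (ga (Nat.mod a r)) v) (ga' (Nat.mod a r)))
      (fun j v => mv (Nat.mod j m) v) par gi dep i) y := by
  have h3 : C.cjPts.PTab (orbit (⊤ : Subgroup G) (Cj.mk x))
      (tabF (fun a => O.mul (O.mul (ga (Nat.mod a r)) v) (ga' (Nat.mod a r)))
        (fun j v => mv (Nat.mod j m) v) par gi dep) n := by
    intro i _
    refine tabF_induction par gi dep (fun v => ∃ z ∈ orbit (⊤ : Subgroup G) (Cj.mk x), C.cjPts.P v z)
      (fun a => ?_) ?_ i
    · have ha : Nat.mod a r < r := Nat.mod_lt a hr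
      exact ⟨_, ⟨⟨_, Subgroup.mem_top _⟩, rfl⟩, P_conj C (h1 _ ha) (h2 _ ha) hx⟩
    · rintro j v ⟨_, ⟨k, rfl⟩, hz⟩
      obtain ⟨g, _, hg'⟩ := hmv _ (Nat.mod_lt j hm)
      exact ⟨_, ⟨⟨g * k, Subgroup.mem_top _⟩, mul_smul g (k : G) _⟩, hg' _ _ hz⟩
  obtain ⟨k, rfl⟩ := isConj_iff.mp hy
  exact h3.penum_of_card C.cjPts (Set.toFinite _) (inj_of_sortP hs) hn (Cj.mk (k * x * k⁻¹))
    ⟨⟨k, Subgroup.mem_top _⟩, rfl⟩

theorem comm_of_gens {O : Ops} {G : Type*} [Group G] [Finite G] (C : Coded O G) {gn : ℕ → ℕ} {m a : ℕ} {c : G}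
    (hc : C.R a c) {l : List ℕ} (h : allB (fun j => anyL (fun e => O.conjB (gn j) a (O.pow a e)) l) m = true) :
    ∀ s ∈ Subgroup.closure (C.gens gn m), Commute (s * c * s⁻¹) c := by
  have h7 : Subgroup.closure (C.gens gn m) ≤ Subgroup.normalizer (Subgroup.closure {c} : Set G) := by
    refine closure_le_normalizer ?_
    rintro s ⟨j, hj, hs⟩ u hu
    obtain ⟨e, -, he⟩ := anyL_iff.mp (of_allB h hj)
    rw [Set.mem_singleton_iff.mp hu, C.conj_of_conjB hs hc (C.R_pow hc e) he]
    exact Subgroup.pow_mem _ (Subgroup.subset_closure (Set.mem_singleton _)) _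
  intro s hs
  have h8 := (Subgroup.mem_normalizer_iff.mp (h7 hs) c).mp (Subgroup.subset_closure (Set.mem_singleton _))
  obtain ⟨n, hn⟩ := Subgroup.mem_closure_singleton.mp h8
  rw [← hn]
  exact (Commute.refl _).zpow_left n

theorem key7 (a : ℕ) : M7.O.key a = a := rfl

/-- The table of the long root elements. -/
noncomputable def cl : ℕ → ℕ := clT 1 7 4 gw1 tF1_p tF1_g tF1_d

theorem enum_cl (y : K0) (hy : IsConj (kk 5) y) : ∃ i < 15624, C7.R (cl i) y := by
  have hgw : allB (fun a => lettersIn 76 (gw1 a)) 4 = true := by decide +kernel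
  have hs := fun n hn => of_allB sortF1 (i := n) hn
  obtain ⟨i, hi, h⟩ := enum_conj C7 (by norm_num) (moves_sg sgB1) (by norm_num) (ga := fun a => M7.O.word c7 (gw1 a))
    (ga' := fun a => M7.O.word c7 (invW D.iv (gw1 a))) (g := fun a => ev kk (gw1 a))
    (fun a ha => R_word7 (of_allB hgw ha)) (fun a ha => R_inv7 (of_allB hgw ha))
    (R_kk 5 (by norm_num) (by norm_num)) (par := tF1_p) (gi := tF1_g) (dep := tF1_d) ncard_le
    (by unfold clT at hs; exact hs) y hy
  refine ⟨i, hi, ?_⟩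
  unfold cl clT
  rw [key7]
  exact h

theorem ncard_cl_le {T : Set K0} (hT : ∀ y ∈ T, IsConj (kk 5) y) (q : ℕ → Bool)
    (hq : ∀ a, ∀ y ∈ T, C7.R a y → q a = true) : T.ncard ≤ cnt (fun i => q (cl i)) 15624 :=
  C7.ncard_le_cnt (fun y hy => enum_cl y (hT y hy)) _ fun _ _ y hy h => hq _ y hy h

theorem Cp_eq : Cp = Subgroup.centralizer {kk 5} := by rw [good1.1, top_inf_eq, Cj.stabilizer_mk]

theorem card_Cp_eq : Nat.card Cp = 375000 := by
  have h1 := card_eq_orbit_mul (⊤ : Subgroup K0) (Cj.mk (kk 5))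
  have hs := fun n hn => of_allB sortF1 (i := n) hn
  have hgw : allB (fun a => lettersIn 76 (gw1 a)) 4 = true := by decide +kernel
  have h2 := (cover_conj C7 (by norm_num) (moves_sg sgB1) (by norm_num) (ga := fun a => M7.O.word c7 (gw1 a))
    (ga' := fun a => M7.O.word c7 (invW D.iv (gw1 a))) (g := fun a => ev kk (gw1 a))
    (fun a ha => R_word7 (of_allB hgw ha)) (fun a ha => R_inv7 (of_allB hgw ha))
    (R_kk 5 (by norm_num) (by norm_num)) (par := tF1_p) (gi := tF1_g) (dep := tF1_d) ncard_le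
    (by unfold clT at hs; exact hs)).1
  rw [← good1.1, Subgroup.card_top, card_K0, le_antisymm ncard_le h2] at h1
  omega

theorem stab1_comm : ∀ s ∈ SS.stab 1, Commute (s * kk 5 * s⁻¹) (kk 5) := by
  have hg : C7.Tab (Subgroup.closure (C7.gens (sg 1) 7)) (sg 1) 7 := C7.tab_closure ((tab_sg sgB1).exists C7)
  have h : allB (sortP (fun i => tabP yc (fun j v => M7.O.mul (M7.O.mul (sg 1 j) v) (sg' 1 j)) 7
      tYT_p tYT_g tYT_d i) 480) 480 = true := by decide +kernel
  have h0 : allB (fun j => M7.O.wordChk (sg 1) 7 (H44.nth [] [[0, 0, 0, 0, 1, 1, 0, 1, 1, 1], [2, 4, 6, 3, 4, 6], [4, 6, 3, 4, 0, 6], [1, 3, 3, 4, 3, 6, 4, 6]] j) (cy j)) 4 = true := by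
    decide +kernel
  have h1 : 480 ≤ (orbit (Subgroup.closure (C7.gens (sg 1) 7)) (Cj.mk (ev kk yW))).ncard :=
    C7.cjPts.le_orbit (by norm_num) (C7.moves_conj hg (fun j hj => by
      obtain ⟨g, -, hg⟩ := tab_sg sgB1 j hj
      exact ⟨_, C7.R_pow hg _⟩) (andB_iff.mp sgB1).2) (root := yc) R_y
      (fun x => x) fun i hi => of_allB h hi
  have h2 : C7.Tab (Subgroup.closure (C7.gens (sg 1) 7)) cy 4 :=
    fun j hj => Coded.Tab.of_wordChk C7 hg (of_allB h0 hj)
  have h3 := mul_card_le_card (K := CY) h1 (le_inf (h2.closure_le C7) CY_le)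
  have h4 := card_CY
  have h5 : Subgroup.closure (C7.gens (sg 1) 7) = SS.stab 1 :=
    Subgroup.eq_of_le_of_card_ge ((tab_sg sgB1).closure_le C7) (by rw [card_stab.1]; omega)
  have h6 : allB (fun j => anyL (fun e => M7.O.conjB (sg 1 j) (c7 5) (M7.O.pow (c7 5) e)) [1, 2, 3, 4]) 7 = true := by
    decide +kernel
  exact h5 ▸ comm_of_gens C7 (R_kk 5 (by norm_num) (by norm_num)) h6

/-- The involution. -/
noncomputable def tK : K0 := ev kk [3, 3, 3, 3]
/-- The element of order three. -/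
noncomputable def xK : K0 := ev kk [4, 2, 3, 1]
def t7 : ℕ := (nat_lit 0x4000000000000000000000000000400000000000000000000000000010000000000000000000000000001000000000000000000000000000100000000000000000000000000040000000000000000000000000004)
def x7 : ℕ := (nat_lit 0x1000000000000000000000400400000000000000000000000000000000001000000000000000000004000800000000000000001001000100000000000000000000000000000010000000000000000000004004)
def xi7 : ℕ := (nat_lit 0x4000400000000000000000001000000000000000000000000000000010010001000000000000000008004000000000000000000001000000000000000000000000000000000040004000000000000000000010000)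

theorem R_t7 : C7.R t7 tK := by
  have h : t7 = M7.O.word c7 [3, 3, 3, 3] := by decide +kernel
  rw [h]; exact R_word7 (by decide)
theorem R_x7 : C7.R x7 xK := by
  have h : x7 = M7.O.word c7 [4, 2, 3, 1] := by decide +kernel
  rw [h]; exact R_word7 (by decide)
theorem R_xi7 : C7.R xi7 xK⁻¹ := by
  have h : xi7 = M7.O.word c7 (invW D.iv [4, 2, 3, 1]) := by decide +kernel
  rw [h]; exact R_inv7 (by decide)
theorem R_ti7 : C7.R t7 tK⁻¹ := by
  have h : t7 = M7.O.word c7 (invW D.iv [3, 3, 3, 3]) := by decide +kernel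
  rw [h]; exact R_inv7 (by decide)

theorem phi_tK : phi tK = el 23 := by
  rw [tK, phi_ev (by decide)]
  exact CL.eq_of_eqB (R_psi (by decide)) (R_el (by norm_num)) (by decide +kernel)

theorem phi_xK : phi xK = el 24 := by
  rw [xK, phi_ev (by decide)]
  exact CL.eq_of_eqB (R_psi (by decide)) (R_el (by norm_num)) (by decide +kernel)

noncomputable def tT_t : BT := (.node (nat_lit 1) (.leaf (nat_lit 0x91c784376432b640a8ca80fda84a860ec1c08de09143653ba2058ddca52eb13ca45da055a44e6451adf3a09fa5e2b5b29134a83b615eb5ab55aab12e912da4108dc7a417a222adcab5a280746073b59f8076b59aadd98dd78827a8268649711ba646b599d118b113959285698564655ea817a017b10f84f4c4e680d955899588a605a0daa524b107b585cdbfb583957fa1e2b0ff81e08dba2800a5c290fdd577c801a546ad99a0f8b5efa0f695eaa4798d926873b16d45899169b5e5d16ca87084a6849ab5e2b5e1916475dea6317161ad9db15fa15ba860b15b45aaa15cb156a4daa1a281a1a4ca8858cd8dad8ba855c266685188504d89d5c98d88a080842d8428b5c2b1468d648141c604954181438515753bb53f6d614189a44aa4358a32843ec24ca020b5359534d0b6b0b5ca2650b380e5b52c60e3a47bd0adad4e8474a46bb0a790a6b522b5268269a03d64a4ad5bca1a803eb09eaa15951c462a6084a5569515951490988d4f84d07092ad31a4c984d98d2db50ba662aa05950db504c51260a48d41b08b8164a9f9841db085708494fd89f885bab07f41aa8d1ca0798541a07c6d1b9571aa68a460a0c260c165de85e0a5e6b56ba107ad25a1c89564b0e7a1ca7561820ea20d755e8210b0df85a1d55ac0ddb55daa52a125a1248cfd90d9cd12a650954faa4dad0f8d0dad0aaa47ad0990d090c8a40fb546a4050000))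
 (.node (nat_lit 2) (.leaf (nat_lit 0x863a6c9270519050d4cea9c889c7647381f8b4c994c8b04c8941a640a04a89439449ac66a5708c64a93c7238b43dac7cc4129232943ea59f85948c7494376c73b435522aac6f6258892da43984498c506c51b4318171b42cb21f921ea924a921ac60c1b49427b426ac5a85f8b420860a691b851ca513941a920f941dac39b417ac3b920aa10fa1d5b2056638a6346c32ac4691fea548ac4ac55391fdb1fca46fac45b1f9a8fa91f888fd3400a58bb478b47cb47ba50ab479b26894746238b4779476ac2f8c2d8969b46f85b88964cc2b8c28a4dfb46b7467925c69618114a95f85eaa5e1a95bc5e885dc84862c006492a02cd45e894fc6169458b24dd24cb45274518134b246a94ea4558450b44cb44bb240d63b963ab1be823aa8c4763891b8a55ca01091baa4708476a47c6467b631857fa58a962b611bae68a4a748b3b1ac81dc562a8427841a802da420ce44c0f3b61f91a1ae4088a6a4cbb617b19ac8a068a4865cb199817fa17ea6689610960f960e9192a4ffb18f6092a48d6484b18b9188a88da614860f5189a53ca19d95feb602a19a95fd6e38c45eae378886b5f7a0348e32603295f8ae14a55fb66ea8f8d1f291ea8e0e81bab1ec966981fe88ecb1e6b662ae2264c144b3c8e9b1e3b1e2b1db809a71de765891dcadf9a5c3a5d585c781d764e3a21c8df884ec88d9b64d8e0aae08a8d39649c0b7b1caa0b5a0b4))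
 (.leaf (nat_lit 0xb046b04a9049a0c4d0478ce5b4c274c189baa10ba41cacf6a1cdd4bd903eb03ba5b6b039acf290377032b4b18064b03454b3a44cb02fa452902dacd189a190288cc8a5efb4a78232a480acdfa23474a4b49b861e8cd9d49da999b0199498a0ca8992949aacb4a98ba98fb0177492a98a4cb38988a250b00f8571d00b65618027a026b005b4829486a97e74843000a12ca97ac596a12eb07cb07ba5208514ac9fd4f390747073b07794f4c5cca5d2a5d8b07094ecaca784e58ca6a14ca4e7906474e370676ca48194a060b0606c84ac858c86b05aa0a78498ac80a0a99058d057a16b))))
noncomputable def tT_r : ℕ → ℕ := memo (look tT_t (nat_lit 256) (nat_lit 16) (nat_lit 65535))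
noncomputable def tT_p (i : ℕ) : ℕ := bits (tT_r i) (nat_lit 0) (nat_lit 1023)
noncomputable def tT_g (i : ℕ) : ℕ := bits (tT_r i) (nat_lit 10) (nat_lit 7)
noncomputable def tT_d (i : ℕ) : ℕ := bits (tT_r i) (nat_lit 13) (nat_lit 7)

noncomputable def tX_t : BT := (.node (nat_lit 1) (.leaf (nat_lit 0x591046fa41765164533e315e52be64e652b056e168f35ae154e166f652bf62c752bd6af968e652b26af652c46af458e164f352c162b768f652c252c542af73987191739778c871a4719871a5739d739a739c739f71a07ac871a673a274c873a773a473a673a871a27196739176c861905ab251dc41ee4aaf51ef41e344af5ac441dd48af41de51eb5abf5abe51e541f258c154c254c158be58bd46af54bd41e731db64a25a9668a16112510e510a510b510c6aad5109610564975496589651046aa16101510268aa6aa260fb60fc50fd50fe40fa6020768c7a8e6026602d601b6027687d647d6028602f70227891601c7a82602a667d6024748c6a7d60257888601f788b5019513e686e5135512e51406a7061326a6e51426a716a6b5864566468675464512f51415a64667c51316143513c513a6133412c28572856245636543a503a4f3a4e164b3a4c1a4b36613a62184b144b384e265c34612a5c38632a5a285c26562a572a56004b60a864327634621e663274477649722374496220722262287a38622560a0622d621f60a96a32622760ad622f6221609d5219638068285a19661f53856a2f661c537f637a56195379538d53885383641e638258195378538c54196a2053865381637c437762a162a572ae7a0d629d62a872ac64006800761162aa6a00729e62a278186298781162a062a962ad7a10660062a776035296))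
 (.leaf (nat_lit 0x49de3bdb47ee39db4127312a411449f04bf2312245e24bea311747e347e245dd37db35db47de47dd49e3311e31264be321137035626979cd79cc65c26bc2627a6274626e626d7bd67047626c69c267c2626b7bd5627870346271627c703d627077d2526471488bae73d48156815975a97ba98bad7151815473d5715a87b0714c73cb73c47155715d73c977a9714d73d673c7715b61456067699062f662e360787b996790606d62e662ec72f5607962e8606b6b90659062ea607c62f16069606c7ba262f362f952e153e0598543dd477753f353df53e543f043e245774977578843ea50b243e753ec43de53e95587558659865b7943e34b7733db3324456d332233263b5e47684568431b496d3319332a476747664566332b375e355e43214320496733174b66495f395e23136b45694560ea60e37b4670ee7b5d7b5c60f770f070e960e260f970f270eb754d60f660f4754a60e67b4a60f160ef654550e1436c573f437643624367452c4b2c53614366536b43745735592e536a492c472c553f5b3f5b3e4373593f4368436d4372335e29132b133054352237192713392b22573b2a225c324e39263519205c3b24304e3726324f2513391e225a3250491b3052104b570e590444fa571041725510416c41734afa416d417448fa58fe53364168516f41625b0a5b09)))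
noncomputable def tX_r : ℕ → ℕ := memo (look tX_t (nat_lit 256) (nat_lit 16) (nat_lit 65535))
noncomputable def tX_p (i : ℕ) : ℕ := bits (tX_r i) (nat_lit 0) (nat_lit 511)
noncomputable def tX_g (i : ℕ) : ℕ := bits (tX_r i) (nat_lit 9) (nat_lit 7)
noncomputable def tX_d (i : ℕ) : ℕ := bits (tX_r i) (nat_lit 12) (nat_lit 15)

theorem card_Cp_t : Nat.card ↥(Cp ⊓ Subgroup.centralizer {tK}) ≤ 600 := by
  have h : allB (sortP (fun i => M7.O.key (M7.O.tabC cg cg' 7 t7 tT_p tT_g tT_d i)) 625) 625 = true := by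
    decide +kernel
  have h1 := C7.mul_card_centralizer_le (by norm_num) (C7.moves_cmv tab_cg R_cg' (by decide +kernel)) R_t7
    fun i hi => of_allB h hi
  rw [card_Cp_eq] at h1
  omega

theorem card_Cp_x : Nat.card ↥(Cp ⊓ Subgroup.centralizer {xK}) ≤ 750 := by
  have h : allB (sortP (fun i => M7.O.key (M7.O.tabC cg cg' 7 x7 tX_p tX_g tX_d i)) 500) 500 = true := by
    decide +kernel
  have h1 := C7.mul_card_centralizer_le (by norm_num) (C7.moves_cmv tab_cg R_cg' (by decide +kernel)) R_x7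
    fun i hi => of_allB h hi
  rw [card_Cp_eq] at h1
  omega

/-- The centraliser acts on the long root elements commuting with the element. -/
theorem card_cent_le {a n m : ℕ} {k : K0} (ha : C7.R a k) (hc : M7.O.commB (c7 5) a = true)
    (hn : cnt (fun i => M7.O.commB (cl i) a) 15624 ≤ n) (hm : Nat.card ↥(Cp ⊓ Subgroup.centralizer {k}) ≤ m) :
    Nat.card (Subgroup.centralizer {k}) ≤ n * m := by
  have h0 := (C7.commB_iff (R_kk 5 (by norm_num) (by norm_num)) ha).mp hc
  have h1 : {y : K0 | IsConj (kk 5) y ∧ y * k = k * y}.ncard ≤ n :=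
    (ncard_cl_le (fun _ hy => hy.1) (fun b => M7.O.commB b a) fun _ y hy h => (C7.commB_iff h ha).mpr hy.2).trans hn
  have h2 := card_le_mul_of_orbit_subset (Subgroup.centralizer {k}) (Cj.mk (kk 5))
    (S := ({y : K0 | IsConj (kk 5) y ∧ y * k = k * y} : Set (Cj K0))) (Set.toFinite _) h1 (fun g hg => by
      have h3 := Subgroup.mem_centralizer_singleton_iff.mp hg
      refine ⟨isConj_iff.mpr ⟨g, rfl⟩, ?_⟩
      show g * kk 5 * g⁻¹ * k = k * (g * kk 5 * g⁻¹)
      have h4 : g⁻¹ * k = k * g⁻¹ := by rw [inv_mul_eq_iff_eq_mul, ← mul_assoc, h3, mul_inv_cancel_right]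
      rw [mul_assoc, h4, ← mul_assoc, mul_assoc g, h0, ← mul_assoc, h3]
      simp only [mul_assoc])
  rw [Cj.stabilizer_mk, ← Cp_eq, inf_comm] at h2
  exact h2.trans (Nat.mul_le_mul_left _ hm)

/-- The fixed points in the first suborbit. -/
theorem fix1_le {a a' n : ℕ} {k : K0} (ha : C7.R a k) (ha' : C7.R a' k⁻¹)
    (hn : cnt (fun i => M7.O.commB (M7.O.mul (M7.O.mul a (cl i)) a') (cl i)) 15624 ≤ n) :
    (fixQ (SS.stab 1) k).ncard * 300000 ≤ n * 375000 := by
  have h1 := ncard_fixQ_le_comm (SS.stab 1) k (kk 5) stab1_comm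
    (T := {y | IsConj (kk 5) y ∧ Commute (k * y * k⁻¹) y}) fun y h1 h2 => ⟨h1, h2⟩
  have h2 := (ncard_cl_le (T := {y | IsConj (kk 5) y ∧ Commute (k * y * k⁻¹) y}) (fun _ hy => hy.1)
    (fun b => M7.O.commB (M7.O.mul (M7.O.mul a b) a') b) fun _ y hy h =>
      (C7.commB_iff (C7.R_mul (C7.R_mul ha h) ha') h).mpr hy.2).trans hn
  rw [card_stab.1, ← Cp_eq, card_Cp_eq] at h1
  exact h1.trans (Nat.mul_le_mul_right _ h2)

/-- The fixed points in the other suborbits. -/
theorem fix_le {S : Subgroup K0} {f : ℕ → ℕ} {n c : ℕ} (hf : C7.Tab S f n) (hs : allB (sortP f n) n = true)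
    (hn : Nat.card S = n) {k : K0} (q : ℕ → Bool) (hq : ∀ a y, IsConj k y → C7.R a y → q a = true)
    (hc : cnt (fun i => q (f i)) n ≤ c) :
    (fixQ S k).ncard * n ≤ c * Nat.card (Subgroup.centralizer {k}) := by
  have h1 := ncard_fixQ_le_conj S k (T := {y | y ∈ S ∧ IsConj k y}) fun y h1 h2 => ⟨h1, h2⟩
  have h2 := C7.enum_of_sort hf (fun i hi => of_allB hs hi) hn.le
  have h3 := (C7.ncard_le_cnt (T := {y | y ∈ S ∧ IsConj k y}) (fun y hy => h2 y hy.1) (fun i => q (f i))
    fun _ _ y hy h => hq _ y hy.2 h).trans hc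
  rw [hn] at h1
  exact h1.trans (Nat.mul_le_mul_right _ h3)

theorem card_cent_phi_le (k : K0) : Nat.card (Subgroup.centralizer {phi k}) ≤
    (1 + (fixQ (SS.stab 1) k).ncard + (fixQ (SS.stab 2) k).ncard + (fixQ (SS.stab 3) k).ncard +
      (fixQ (SS.stab 4) k).ncard) * Nat.card (Subgroup.centralizer {k}) := by
  obtain ⟨h1, h2⟩ := card_centralizer_le phi phi_injective k
  have h3 := SS.ncard_fix_le cover k
  have h4 : (fixQ (SS.stab 0) k).ncard ≤ 1 := by
    rw [← index0]; exact Set.ncard_le_card _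
  rw [Fin.sum_univ_five, SS_φ] at h3
  have h5 : {ω : Cfsg.Spor.Ly ⧸ phi.range | phi k • ω = ω}.ncard =
      {ω : Cfsg.Spor.Ly ⧸ SS.H | phi k • ω = ω}.ncard := by rw [SS_H]
  rw [h1]
  refine Nat.mul_le_mul_right _ ((Set.ncard_le_ncard h2 (Set.toFinite _)).trans (h5.le.trans (h3.trans ?_)))
  exact Nat.add_le_add_right (Nat.add_le_add_right (Nat.add_le_add_right (Nat.add_le_add_right h4 _) _) _) _

end Cfsg.Agent.H81.Ly
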