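import Mathlib
import Cfsg.Agent.H81.LyO

/-!
# The Schur multiplier of the Lyons group is trivial
-/

set_option autoImplicit false
set_option maxRecDepth 1000000
set_option linter.all false
set_option Elab.async false

namespace Cfsg.Agent.H81.Ly

open Cfsg.Agent.H42 Cfsg.Agent.H46 Cfsg.Agent.H74
open scoped MatrixGroups

/-- Rules. -/
def c5_rule : List (List (List ℕ)) :=
  [[[], [1, 2, 3, 4, 4, 4, 4, 5, 5, 5, 5], [2, 3, 3, 4, 4, 5, 5], [3, 4, 4], [4], [5]],
   [[], [], [2], [3], [4, 5, 5, 5, 5], [5]],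
   [[], [], [], [3, 5, 5], [4], [5]],
   [[], [], [], [], [4], [5]],
   [[], [], [], [], [], [5]],
   [[], [], [], [], [], []]]

/-- Fused subgroups. -/
def c5_fq : List (List (List ℕ)) :=
  [[[0], [1], [2], [3], [4], [5]]]

/-- Their images. -/
def c5_fq' : List (List (List ℕ)) :=
  [[[0], [1, 1], [2, 2], [3, 3], [4, 4], [5, 5, 5, 5]]]

/-- Rows. -/
def c5_sA : List Spec :=
  [⟨1, [0], [], 1, 1, 78124⟩,
   ⟨1, [1], [], 2, 1, 78124⟩,
   ⟨1, [2], [], 3, 1, 78124⟩,
   ⟨1, [3], [], 10, 1, 78124⟩,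
   ⟨1, [4], [], 0, 1, 78124⟩,
   ⟨1, [5], [], 7, 1, 78124⟩,
   ⟨3, [4, 0], [0, 4], 4, 1, 78124⟩,
   ⟨3, [2, 1], [1, 2], 8, 1, 52083⟩,
   ⟨3, [3, 1], [1, 3], 9, 1, 52083⟩,
   ⟨3, [4, 2], [2, 4], 16, 1, 52083⟩,
   ⟨3, [4, 3], [3, 4], 22, 1, 52083⟩,
   ⟨3, [5, 0], [0, 5], 5, 1, 52083⟩,
   ⟨0, [3], [2, 1], 11, 1, 39062⟩,
   ⟨0, [5], [3, 0], 29, 1, 39063⟩,
   ⟨3, [3, 0], [0, 3, 4, 4], 40, 1, 39063⟩,
   ⟨3, [4, 4, 4, 4, 4], [], 28, 1, 78124⟩,
   ⟨3, [5, 2], [2, 5], 17, 1, 33482⟩,
   ⟨3, [5, 3], [3, 5], 23, 1, 33482⟩,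
   ⟨3, [2, 2, 2, 2, 2], [], 14, 1, 78124⟩,
   ⟨3, [3, 3, 3, 3, 3], [], 21, 1, 78124⟩,
   ⟨3, [5, 5, 5, 5, 5], [], 35, 1, 52083⟩,
   ⟨3, [4, 1], [1, 4, 5, 5, 5, 5], 41, 1, 58594⟩,
   ⟨3, [3, 2], [2, 3, 5, 5], 15, 1, 52083⟩,
   ⟨3, [2, 0], [0, 2, 3, 3, 4, 4, 5, 5], 39, 1, 39063⟩,
   ⟨3, [1, 0], [0, 1, 2, 3, 4, 4, 4, 4, 5, 5, 5, 5], 38, 1, 1⟩]

/-- Rows. -/
def c5_sB : List Spec :=
  []

/-- Rows. -/
def c5_sC : List Spec :=
  []

/-- The certificate. -/
noncomputable def c5 : Cert where
  q := 4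
  n := 6
  nf := 1
  b := 44
  M := 78125
  D := 5
  fuel := 1002
  rule := fun i j => getLL (getL3 c5_rule i) j
  fq := fun i j => getLL (getL3 c5_fq i) j
  fq' := fun i j => getLL (getL3 c5_fq' i) j
  nrm := nrmL 44 42 78125
  nri := getL [0, 0, 0, 1, 0, 1]
  nrj := getL [1, 2, 3, 4, 0, 1]
  B := getL [0x100000000000000000000000000000000000000000000, 0x10000000000000000000000000000000000000000000000000000000, 0x4c4f0000000989e0000000989900000013128, 0xe4e3000000098990000000989400000000000, 0x98940000000000000000000000, 0x4c4a000000000000000000000000000000000]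
  nU := 0
  U := getL []
  ord := getL []
  sA := c5_sA
  sB := c5_sB
  sC := c5_sC

theorem c5_nrm : Nrm c5.b c5.R c5.M c5.nrm := by
  dsimp only [c5, Cert.R]
  exact nrm_nrmL 44 42 78125

theorem c5_chk : c5.chk 1 = true := by decide +kernel

/-- Words for the root elements. -/
noncomputable def c5w : ℕ → List ℕ := getLL [[2, 2, 3, 1, 4, 1, 1], [9, 14, 9, 16], [5, 13, 10], [9, 9, 13, 16, 16], [5, 12, 16, 9], [6]]

/-- Their matrices. -/
noncomputable def c5x : ℕ → ℕ := getL [(nat_lit 0x1000400000000000000000000000100000000000000000000000000010004001000000000000000000001000800000000000000000000000100000000000000000000000000010004000000000000000000000001), (nat_lit 0x1000000000000000000000000000100040000000000000000000000010000000000000000000000000001000000000000000000000000000100040000000000000000000000010000000000000000000000000001), (nat_lit 0x1000000100000000000000000000100000040000004000000000000010000000000000000000000000001000000200000000000000000000100000040000000000000000000010000000000000000000000000001),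 (nat_lit 0x10000000001000000000010000001000000000040000000000000000100000000004000000000000000010000000000c0000000000000000100000000000000000000000000010000000000000000000000000001), (nat_lit 0x1000000000000040000000000000100000000000000000000000000010000000000000100000000000001000000000000000000000000000100000000000000000000000000010000000000000000000000000001), (nat_lit 0x1000000000000000010000000000100000000000000001000000000010000000000000000000000000001000000000000000000000000000100000000000000000000000000010000000000000000000000000001)]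

theorem R_c5x : ∀ j < 6, C7.R (c5x j) (H44.ev kk (c5w j)) := by
  have h : allB (fun j => andB (H44.lettersIn 76 (c5w j)) (Nat.beq (M7.O.word c7 (c5w j)) (c5x j))) 6 = true := by
    decide +kernel
  intro j hj
  obtain ⟨h1, h2⟩ := andB_iff.mp (of_allB h hj)
  exact beq_iff.mp h2 ▸ R_word7 h1

theorem C7_R {a : ℕ} {g : K0} : C7.R a g ↔ M7.CG.R a (rho g) := Iff.rfl

theorem rho_injective : Function.Injective rho := exists_rho.choose_spec.1

theorem c5_pc : c5.PcG (fun j => H44.ev kk (c5w j)) (fun _ => H44.ev kk [4, 4]) := by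
  refine (pcG_map_iff rho rho_injective).mp (Cert.pcG_of_relChk M7.CG (xs := c5x)
    (gs := fun _ => M7.O.word c7 [4, 4]) (fun j hj => C7_R.mp (R_c5x j hj))
    (fun _ _ => C7_R.mp (R_word7 (by decide))) (by decide +kernel) (by decide +kernel) ?_)
  exact Cert.ne_of_neChk M7.CG M7.V (fun _ => M7.P_of_okV) (fun h1 h2 => M7.P_act _ _ _ _ h1 h2)
    (fun j hj => C7_R.mp (R_c5x j hj)) (inv := getLL [[(nat_lit 16384)], [(nat_lit 0x10000000), (nat_lit 0x10000004), (nat_lit 0x10000003), (nat_lit 0x10000002), (nat_lit 0x10000001)], [(nat_lit 0x10000000)], [(nat_lit 0x40000000000)], [(nat_lit 0x100000000000000)], [(nat_lit 0x1000000000000000000000)]])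
    (by decide +kernel)

theorem mBound : MBound Cfsg.Spor.Ly 1 1 := by
  have b2 : MBound Cfsg.Spor.Ly (202207730484375 * 202207730484375) 1 :=
    Cert.mBound ((pcG_map_iff psi psi_injective).mp c2_pc) (by show Nat.Prime 2; norm_num) card_Ly c2_nrm c2_chk
  have b3 : MBound Cfsg.Spor.Ly (23669492000000 * 23669492000000) 1 :=
    Cert.mBound ((pcG_map_iff psi psi_injective).mp c3_pc) (by show Nat.Prime 3; norm_num) card_Ly c3_nrm c3_chk
  have b5 : MBound Cfsg.Spor.Ly (3312971456256 * 3312971456256) 1 :=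
    Cert.mBound ((pcG_map_iff phi phi_injective).mpr c5_pc) (by show Nat.Prime 5; norm_num) card_Ly c5_nrm c5_chk
  have b7 := mBound_of_prime (G := Cfsg.Spor.Ly) (p := 7) (k := 7395025572000000) (by norm_num) card_Ly
  have b11 := mBound_of_prime (G := Cfsg.Spor.Ly) (p := 11) (k := 4705925364000000) (by norm_num) card_Ly
  have b31 := mBound_of_prime (G := Cfsg.Spor.Ly) (p := 31) (k := 1669844484000000) (by norm_num) card_Ly
  have b37 := mBound_of_prime (G := Cfsg.Spor.Ly) (p := 37) (k := 1399058892000000) (by norm_num) card_Ly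
  have b67 := mBound_of_prime (G := Cfsg.Spor.Ly) (p := 67) (k := 772614612000000) (by norm_num) card_Ly
  exact (((((((b2.mul b3).mul b5).mul b7).mul b11).mul b31).mul b37).mul b67).congr (by norm_num) (by norm_num)

end Cfsg.Agent.H81.Ly
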