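import Mathlib
import Cfsg.Agent.H81.QTXi2
import Cfsg.Agent.H27.QTList
import Cfsg.Agent.H26.QTListO
import Cfsg.Agent.H78.QTExc
import Cfsg.Agent.H70.QTSpor
import Cfsg.Agent.H70.QTSporThin
import Cfsg.Agent.H1.KOutT

/-! Assembly of the facts about known simple groups used in the quasithin programme. -/

set_option autoImplicit false

namespace Cfsg.Agent.H81.QT

open Cfsg

universe u

theorem listStmt : ListStmt.{u} :=
  H27.listStmt_of H26.listFor_pomegaOdd H26.listFor_pomegaPlus H26.listFor_pomegaMinus H78.QTE.listFor_exc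
    H70.QS.list_spor

theorem thinStmt : ThinStmt.{u} := H27.thinStmt_of H78.QTE.thin_excE H70.QS.thin_spor

theorem kf_of (hJ4 : Nat.card (Out Spor.J4) = 1) : KF.{u} :=
  ⟨listStmt, thinStmt, H1.KO.outStmt' hJ4, H1.KO.outThinStmt⟩

end Cfsg.Agent.H81.QT
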