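import Cfsg.Agent.H17.KnDef2

/-! Project KN, pieces LA1 and LAM: the cocycle of the action on the group of order 128. -/

set_option autoImplicit false

namespace Cfsg.Agent.H81.KnLam

open Equiv Subgroup Cfsg.Agent.H11.A16 Cfsg.Agent.H63 Cfsg.Agent.H8.GD Cfsg.Agent.H17.Kn

universe u

/-! ### The model -/

theorem zp_add : ∀ a b : ZMod 2, zp a * zp b = zp (a + b) := by decide +kernel

theorem zp_zero : zp 0 = 1 := rfl

theorem zp_AP : ∀ a : ZMod 2, zp a ∈ AP := by decide +kernel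

theorem zp_inj : ∀ a b : ZMod 2, zp a = zp b → a = b := by decide +kernel

theorem zp_comm (a : ZMod 2) (m : N2) : m * zp a = zp a * m :=
  N2.ext ((mul_one m.σ).trans (one_mul m.σ).symm) (funext fun p => add_comm a (m.f p))

theorem conj_zp (k e : N2) (a : ZMod 2) : k * (e * zp a) * k⁻¹ = k * e * k⁻¹ * zp a := by
  rw [← mul_assoc, mul_assoc _ (zp a), ← zp_comm, ← mul_assoc]

theorem two_cases : ∀ a : ZMod 2, a = 0 ∨ a = 1 := by decide

theorem add_add : ∀ a b : ZMod 2, a + b + b = a := by decide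

theorem add3 : ∀ s t d : ZMod 2, s + (s + t + d) = d + t := by decide

theorem cf_aux (i : Fin 3) (s : P) (f : P → ZMod 2) (h : ∑ p, f p = 0) :
    (∑ p : P, if p.1.testBit i.1 then 0 else f (p ^^^ s)) =
      ∑ p : P, if p.1.testBit i.1 then 0 else f p := by
  have e : f = ![f 0, f 1, f 2, f 3, f 4, f 5, f 6, f 7] := by
    funext p; fin_cases p <;> rfl
  rw [e] at h ⊢
  revert h
  generalize f 0 = a0; generalize f 1 = a1; generalize f 2 = a2; generalize f 3 = a3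
  generalize f 4 = a4; generalize f 5 = a5; generalize f 6 = a6; generalize f 7 = a7
  revert i s a0 a1 a2 a3 a4 a5 a6 a7
  decide +kernel

theorem cf_mul (i : Fin 3) {u v : N2} (hu : u ∈ AE) (hv : v ∈ AE) :
    cf i (u * v) = cf i u + cf i v := by
  have k := cf_aux i (v.σ 0) u.f hu.2
  have t : ∀ p, v.σ p = p ^^^ v.σ 0 := hv.1
  unfold cf
  rw [← k, ← Finset.sum_add_distrib]
  refine Finset.sum_congr rfl fun p _ => ?_
  split_ifs
  · rfl
  · rw [N2.mul_f, t p, add_comm]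

theorem ch_mul (l : Fin 3 → ZMod 2) {u v : N2} (hu : u ∈ AE) (hv : v ∈ AE) :
    ch l (u * v) = ch l u + ch l v := by
  unfold ch
  rw [cf_mul 0 hu hv, cf_mul 1 hu hv, cf_mul 2 hu hv]
  ring

theorem ch_AA (l : Fin 3 → ZMod 2) {a : N2} (ha : a ∈ AA) : ch l a = 0 := by
  have k : ∀ i, cf i a = 0 := fun i => by
    have t : ∀ p, a.f p = a.f 0 := ha.2
    unfold cf
    rw [Finset.sum_congr rfl fun p _ => by rw [t p]]
    generalize a.f 0 = c
    revert i c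
    decide +kernel
  unfold ch
  rw [k, k, k]
  ring

section

variable (hB : Base.{u})
include hB

theorem AP_EE : AP ≤ EE := hB.m2.le.1
theorem QQ_T0 : QQ ≤ T0 := hB.m2.le.2.1
theorem QQ_AE : QQ ≤ AE := hB.m2.le.2.2.1
theorem AA_QQ : AA ≤ QQ := hB.m2.le.2.2.2.1
theorem AP_QQ : AP ≤ QQ := hB.m2.le.2.2.2.2.1
theorem EE_AE : EE ≤ AE := hB.m2.le.2.2.2.2.2.1
theorem AE_T1 : AE ≤ T1 := hB.m2.le.2.2.2.2.2.2.1
theorem T0_T1 : T0 ≤ T1 := hB.m2.le.2.2.2.2.2.2.2.1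
theorem QK_QE : QK ≤ QE := hB.m2.le.2.2.2.2.2.2.2.2.2.1

theorem cE (m : N2) {e : N2} (he : e ∈ EE) : m * e * m⁻¹ ∈ EE := (hB.m2.nrm m).2.1 e he

theorem cA {m a : N2} (hm : m ∈ QK) (ha : a ∈ AA) : m * a * m⁻¹ ∈ AA :=
  ((hB.m2.nrm m).2.2.2.1 hm).1 a ha

theorem cQ {m a : N2} (hm : m ∈ QE) (ha : a ∈ QQ) : m * a * m⁻¹ ∈ QQ :=
  ((hB.m2.nrm m).2.2.2.2.1 hm).1 a ha

theorem cAE {m a : N2} (hm : m ∈ QE) (ha : a ∈ AE) : m * a * m⁻¹ ∈ AE :=
  ((hB.m2.nrm m).2.2.2.2.1 hm).2 a ha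

theorem zE (c : ZMod 2) : zp c ∈ EE := AP_EE hB (zp_AP c)

theorem zAE (c : ZMod 2) : zp c ∈ AE := EE_AE hB (zE hB c)

theorem ch_zp (l : Fin 3 → ZMod 2) {u : N2} (hu : u ∈ AE) (c : ZMod 2) :
    ch l (u * zp c) = ch l u := by
  rw [ch_mul l hu (zAE hB c), (hB.m3.chm l).2 _ (zp_AP c), add_zero]

theorem ch_QQ (l : Fin 3 → ZMod 2) {q : N2} (hq : q ∈ QQ) : ch l q = 0 := by
  obtain ⟨a, ha, b, hb, rfl⟩ := hB.m2.pQQ q hq
  rw [ch_mul l (QQ_AE hB (AA_QQ hB ha)) (QQ_AE hB (AP_QQ hB hb)), ch_AA l ha,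
    (hB.m3.chm l).2 b hb, add_zero]

/-! ### The action on `Q` and on `E` -/

variable {G : Type u} [Group G] [Finite G] {J J' : N2 → G} {φ : G → Perm Ω}

omit hB [Finite G] in
theorem R.mul {X : Subgroup N2} (h : Em J X) {g : G} {a b a' b' : N2} (ha : a ∈ X) (hb : b ∈ X)
    (ha' : a' ∈ X) (hb' : b' ∈ X) (r : R J g a a') (s : R J g b b') : R J g (a * b) (a' * b') := by
  unfold R at *
  rw [h.mul a ha b hb, h.mul a' ha' b' hb', ← r, ← s]
  group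

omit [Finite G] in
/-- an element of `E` that normalises the group of order 16 is affine -/
theorem mem_AP (h : E0 J φ) {e : N2} (he : e ∈ EE) (n : J e ∈ NA J) : e ∈ AP := by
  refine hB.m3.nPA e he.1 fun a ha => ?_
  have a1 : a ∈ AE := QQ_AE hB (AA_QQ hB ha)
  have e1 : e ∈ AE := EE_AE hB he
  refine (h.emE.mem_iff ((AA_QQ hB).trans (QQ_AE hB))
    (mul_mem (mul_mem e1 a1) (inv_mem e1))).1 ?_
  rw [← h.emE.self e1 a1]
  exact (mem_normalizer_iff.1 n _).1 (mem_im ha)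

theorem exA (h : E0 J φ) {k : N2} (hk : k ∈ QK) {g : G} (hg : g ∈ NA J) (e : φ g = pm2 k) :
    Ex J g k AA := fun a ha =>
  (hB.kit J φ h.toKi).onA g hg a ha _ (cA hB hk ha) (by rw [e, map_mul, map_mul, map_inv])

omit [Finite G] in
theorem exists_E (h : E0 J φ) {g : G} (n : g ∈ N[im J EE]) {e : N2} (he : e ∈ EE) :
    ∃ e' ∈ EE, R J g e e' := by
  obtain ⟨v, a, b⟩ := (h.emE.mono (EE_AE hB)).mem.1 ((mem_normalizer_iff.1 n _).1 (mem_im he))
  exact ⟨v, a, b.symm⟩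

theorem exQ (h : E0 J φ) {k : N2} (hk : k ∈ QK) {g : G} (hg : g ∈ NA J) (e : φ g = pm2 k)
    (n : g ∈ N[im J EE]) : Ex J g k QQ := fun q hq => by
  have K := hB.kit J φ h.toKi
  obtain ⟨a, ha, b, hb, rfl⟩ := hB.m2.pQQ q hq
  obtain ⟨b', hb', r⟩ := exists_E hB h n (AP_EE hB hb)
  have bT : b ∈ T0 := QQ_T0 hB (AP_QQ hB hb)
  have p : b' ∈ AP := mem_AP hB h hb' (by
    rw [← show g * J b * g⁻¹ = J b' from r]
    exact mul_mem (mul_mem hg (K.le b bT)) (inv_mem hg))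
  have d := K.down g hg b bT b' (QQ_T0 hB (AP_QQ hB p)) r
  rw [e, ← map_inv, ← map_mul, ← map_mul] at d
  rw [show k * (a * b) * k⁻¹ = k * a * k⁻¹ * b' by rw [← pm2_inj d]; group]
  exact R.mul h.em (AA_le_T0 ha) bT (AA_le_T0 (cA hB hk ha)) (QQ_T0 hB (AP_QQ hB p))
    (exA hB h hk hg e a ha) r

theorem exists_c (h : E0 J φ) {k : N2} (hk : k ∈ QK) {g : G} (hg : g ∈ NA J) (e : φ g = pm2 k)
    (n : g ∈ N[im J EE]) {x : N2} (hx : x ∈ EE) : ∃ c, R J g x (k * x * k⁻¹ * zp c) := by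
  obtain ⟨y, hy, r⟩ := exists_E hB h n hx
  have X := exQ hB h hk hg e n
  have kE : k ∈ QE := QK_QE hB hk
  have xE : x ∈ QE := (AE_T1 hB (EE_AE hB hx)).1
  have yE : y ∈ QE := (AE_T1 hB (EE_AE hB hy)).1
  have c : ∀ q ∈ QQ, Commute ((k * x * k⁻¹)⁻¹ * y) q := fun q hq => by
    have q0 : k⁻¹ * q * k⁻¹⁻¹ ∈ QQ := cQ hB (inv_mem kE) hq
    have r1 := X _ q0
    have r2 := X _ (cQ hB xE q0)
    have r3 := h.emE.self (EE_AE hB hx) (QQ_AE hB q0)
    have r4 := h.emE.self (EE_AE hB hy) (QQ_AE hB hq)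
    rw [show k * (k⁻¹ * q * k⁻¹⁻¹) * k⁻¹ = q by group] at r1
    have : J (y * q * y⁻¹) = J (k * (x * (k⁻¹ * q * k⁻¹⁻¹) * x⁻¹) * k⁻¹) := by
      unfold R at *
      rw [← r4, ← r2, ← r3, ← r, ← r1]
      group
    have e2 := h.emE.inj _ (QQ_AE hB (cQ hB yE hq)) _ (QQ_AE hB (cQ hB kE (cQ hB xE q0))) this
    calc (k * x * k⁻¹)⁻¹ * y * q = (k * x * k⁻¹)⁻¹ * (y * q * y⁻¹) * y := by group
      _ = q * ((k * x * k⁻¹)⁻¹ * y) := by rw [e2]; group
  rcases hB.m3.cQQ _ c with e2 | e2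
  · exact ⟨0, by rw [zp_zero, mul_one, inv_mul_eq_one.1 e2]; exact r⟩
  · exact ⟨1, by rw [inv_mul_eq_iff_eq_mul.1 e2] at r; exact r⟩

omit [Finite G] in
theorem c_uniq (h : E0 J φ) {g : G} {x y : N2} (hy : y ∈ EE) {c d : ZMod 2}
    (r : R J g x (y * zp c)) (s : R J g x (y * zp d)) : c = d :=
  zp_inj _ _ (mul_left_cancel (h.emE.inj _ (EE_AE hB (mul_mem hy (zE hB c))) _
    (EE_AE hB (mul_mem hy (zE hB d))) (Eq.trans (Eq.symm r) s)))

theorem exists_l (h : E0 J φ) {k : N2} (hk : k ∈ QK) {g : G} (hg : g ∈ NA J) (e : φ g = pm2 k)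
    (n : g ∈ N[im J EE]) : ∃ l, ∀ x ∈ EE, R J g x (k * x * k⁻¹ * zp (ch l x)) := by
  classical
  have : ∀ x, ∃ c, x ∈ EE → R J g x (k * x * k⁻¹ * zp c) := fun x => by
    by_cases hx : x ∈ EE
    · obtain ⟨c, r⟩ := exists_c hB h hk hg e n hx
      exact ⟨c, fun _ => r⟩
    · exact ⟨0, fun a => absurd a hx⟩
  choose χ hχ using this
  obtain ⟨l, hl⟩ := hB.m3.chs χ (fun x hx y hy => by
    refine c_uniq hB h (cE hB k (mul_mem hx hy)) (hχ _ (mul_mem hx hy)) ?_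
    have := R.mul h.emE (EE_AE hB hx) (EE_AE hB hy) (EE_AE hB (mul_mem (cE hB k hx) (zE hB _)))
      (EE_AE hB (mul_mem (cE hB k hy) (zE hB _))) (hχ x hx) (hχ y hy)
    rwa [show k * x * k⁻¹ * zp (χ x) * (k * y * k⁻¹ * zp (χ y)) =
      k * (x * y) * k⁻¹ * zp (χ x + χ y) by
        rw [← zp_add, mul_assoc (k * x * k⁻¹), ← mul_assoc (zp (χ x)), ← zp_comm]; group] at this)
    (fun b hb => c_uniq hB h (cE hB k (AP_EE hB hb)) (hχ b (AP_EE hB hb)) (by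
      rw [zp_zero, mul_one]; exact exQ hB h hk hg e n b (AP_QQ hB hb)))
  exact ⟨l, fun x hx => hl x hx ▸ hχ x hx⟩

/-- the kernel centralises `E` -/
theorem ker_fix (h : E0 J φ) {g : G} (hg : g ∈ NA J) (e : φ g = 1) (n : g ∈ N[im J EE]) {x : N2}
    (hx : x ∈ EE) : g * J x * g⁻¹ = J x := by
  have e1 : φ g = pm2 1 := by rw [e, map_one]
  obtain ⟨c, r⟩ := exists_c hB h (one_mem _) hg e1 n hx
  have z := exQ hB h (one_mem _) hg e1 n _ (AP_QQ hB (zp_AP c))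
  unfold R at r z
  rw [one_mul, inv_one, mul_one] at r z
  rw [h.emE.mul _ (EE_AE hB hx) _ (zAE hB c)] at r
  have := (hB.gen (G := G)).odd1 g (J x) (J (zp c)) 1 (h.ker g hg e) (mul_inv_eq_iff_eq_mul.1 z) r
    (by rw [pow_one, pow_two, ← h.emE.mul _ (zAE hB c) _ (zAE hB c), zp_add, z2add, zp_zero,
      h.emE.one])
  rw [r, this, mul_one]

theorem la1 : La1Stmt.{u} := by
  classical
  intro G _ _ J φ h
  have K := hB.kit J φ h.toKi
  have : ∀ k, ∃ l, k ∈ QK → ∀ g ∈ NA J, φ g = pm2 k → g ∈ N[im J EE] →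
      ∀ e ∈ EE, R J g e (k * e * k⁻¹ * zp (ch l e)) := fun k => by
    by_cases hk : k ∈ QK
    · obtain ⟨g0, h1, h2, h3⟩ := h.rk k hk
      obtain ⟨l, hl⟩ := exists_l hB h hk h1 h2 h3
      refine ⟨l, fun _ g g1 g2 g3 x hx => ?_⟩
      have := ker_fix hB h (mul_mem (inv_mem h1) g1)
        (by rw [h.mul _ (inv_mem h1) _ g1, K.inv _ h1, h2, g2, inv_mul_cancel])
        (mul_mem (inv_mem h3) g3) hx
      have r := hl x hx
      unfold R at *
      rw [← r]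
      calc g * J x * g⁻¹ = g0 * (g0⁻¹ * g * J x * (g0⁻¹ * g)⁻¹) * g0⁻¹ := by group
        _ = _ := by rw [this]
    · exact ⟨0, fun a => absurd a hk⟩
  choose lam hl using this
  exact ⟨lam, hl⟩

/-! ### New coordinates -/

omit [Finite G] in
theorem E0_of (h : E0 J φ) (e : ∀ u ∈ T0, J' u = J u) (m : Em J' AE) (i : im J' EE = im J EE) :
    E0 J' φ := by
  have k : NA J' = NA J := by rw [NA, im_congr fun u hu => e u (AA_le_T0 hu)]
  have x : ∀ g, ∀ s ∈ QE, Ex J g s QQ → Ex J' g s QQ := fun g s hs a q hq => by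
    rw [R, e _ (QQ_T0 hB hq), e _ (QQ_T0 hB (cQ hB hs hq))]
    exact a q hq
  refine ⟨⟨h.toKi.congr e, fun g hg => ?_, fun s hs => ?_⟩, m, fun t ht => ?_, fun s hs => ?_⟩
  · rw [im_congr fun u hu => e u (QQ_T0 hB hu)] at hg
    obtain ⟨s, hs, a⟩ := h.nq g hg
    exact ⟨s, hs, x g s hs a⟩
  · obtain ⟨g, a⟩ := h.ee s hs
    exact ⟨g, x g s (AE_T1 hB (EE_AE hB hs)).1 a⟩
  · rw [i, e t ht]
    exact h.nE t ht
  · rw [i, k]
    exact h.rk s hs

omit hB in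
/-- the twist by a character of `E` -/
def tw (J : N2 → G) (l : Fin 3 → ZMod 2) (u : N2) : G :=
  if u ∈ AE then J (u * zp (ch l u)) else J u

omit hB [Group G] [Finite G] in
theorem tw_AE (l : Fin 3 → ZMod 2) {u : N2} (hu : u ∈ AE) : tw J l u = J (u * zp (ch l u)) :=
  if_pos hu

omit [Group G] [Finite G] in
theorem tw_T0 (l : Fin 3 → ZMod 2) : ∀ u ∈ T0, tw J l u = J u := fun u hu => by
  unfold tw
  split_ifs with a
  · rw [ch_QQ hB l (q := u) ⟨a.1, hu.1⟩, zp_zero, mul_one]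
  · rfl

omit [Finite G] in
theorem tw_im (l : Fin 3 → ZMod 2) : im (tw J l) EE = im J EE := by
  refine le_antisymm (im_le fun u hu => ?_) (im_le fun u hu => ?_)
  · rw [tw_AE l (EE_AE hB hu)]
    exact mem_im (mul_mem hu (zE hB _))
  · have a : u * zp (ch l u) ∈ EE := mul_mem hu (zE hB _)
    have := mem_im (J := tw J l) a
    rwa [tw_AE l (EE_AE hB a), ch_zp hB l (EE_AE hB hu), mul_assoc, zp_add, z2add, zp_zero,
      mul_one] at this

omit [Finite G] in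
theorem tw_E0 (h : E0 J φ) (l : Fin 3 → ZMod 2) : E0 (tw J l) φ := by
  refine E0_of hB h (tw_T0 hB l) ⟨fun u hu v hv => ?_, fun u hu v hv e => ?_⟩ (tw_im hB l)
  · rw [tw_AE l hu, tw_AE l hv, tw_AE l (mul_mem hu hv),
      ← h.emE.mul _ (mul_mem hu (zAE hB _)) _ (mul_mem hv (zAE hB _)), ch_mul l hu hv, ← zp_add,
      mul_assoc u (zp (ch l u)), ← mul_assoc (zp (ch l u)) v, ← zp_comm (ch l u) v]
    simp only [mul_assoc]
  · rw [tw_AE l hu, tw_AE l hv] at e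
    have e2 := h.emE.inj _ (mul_mem hu (zAE hB _)) _ (mul_mem hv (zAE hB _)) e
    have e3 := congrArg (ch l) e2
    rw [ch_zp hB l hu, ch_zp hB l hv] at e3
    rw [e3] at e2
    exact mul_right_cancel e2

omit [Finite G] in
theorem tw_R {l m : Fin 3 → ZMod 2} {g : G} {k : N2}
    (r : ∀ e ∈ EE, R J g e (k * e * k⁻¹ * zp (ch m e))) {e : N2} (he : e ∈ EE) {d : ZMod 2}
    (hd : ch m e = ch l e + ch l (k * e * k⁻¹) + d) :
    R (tw J l) g e (k * e * k⁻¹ * zp d) := by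
  have a := EE_AE hB (cE hB k he)
  have := r _ (mul_mem he (zE hB (ch l e)))
  rw [conj_zp, ch_zp hB m (EE_AE hB he), mul_assoc, zp_add] at this
  rw [R, tw_AE l (EE_AE hB he), tw_AE l (mul_mem a (zAE hB d)), ch_zp hB l a, mul_assoc _ (zp d),
    zp_add, this, hd]
  congr 3
  exact add3 _ _ _

/-- the standard case -/
theorem std (h : E0 J φ) (r : ∀ k ∈ QK, ∀ g ∈ NA J, φ g = pm2 k → g ∈ N[im J EE] → Ex J g k EE) :
    ∃ J' : N2 → G, Sd J' φ := by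
  classical
  have K := hB.kit J φ h.toKi
  have : ∀ u, ∃ y : G, ∀ t ∈ T0, ∀ e ∈ EE, u = t * e → y = J t * J e := fun u => by
    by_cases ex : ∃ t ∈ T0, ∃ e ∈ EE, u = t * e
    · obtain ⟨t0, h1, e0, h2, rfl⟩ := ex
      refine ⟨J t0 * J e0, fun t ht e he q => ?_⟩
      have b1 : t⁻¹ * t0 ∈ T0 := mul_mem (inv_mem ht) h1
      have q1 : t⁻¹ * t0 * e0 = e := by rw [mul_assoc, q]; group
      have b2 : t⁻¹ * t0 ∈ EE := by
        rw [show t⁻¹ * t0 = e * e0⁻¹ by rw [← q1]; group]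
        exact mul_mem he (inv_mem h2)
      rw [← q1, h.emE.mul _ (EE_AE hB b2) _ (EE_AE hB h2), ← mul_assoc, ← h.em.mul _ ht _ b1,
        mul_inv_cancel_left]
    · exact ⟨1, fun t ht e he q => absurd ⟨t, ht, e, he, q⟩ ex⟩
  choose J' hJ using this
  have p : ∀ t ∈ T0, ∀ e ∈ EE, J' (t * e) = J t * J e := fun t ht e he => hJ _ t ht e he rfl
  have eT : ∀ u ∈ T0, J' u = J u := fun u hu => by
    rw [hJ u u hu 1 (one_mem _) (mul_one u).symm, h.em.one, mul_one]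
  have eA : ∀ u ∈ AE, J' u = J u := fun u hu => by
    obtain ⟨a, ha, e, he, rfl⟩ := hB.m2.pAE u hu
    rw [p a (AA_le_T0 ha) e he, h.emE.mul _ (QQ_AE hB (AA_QQ hB ha)) _ (EE_AE hB he)]
  have mul : ∀ u ∈ T1, ∀ v ∈ T1, J' (u * v) = J' u * J' v := fun u hu v hv => by
    obtain ⟨t, ht, e, he, rfl⟩ := hB.m2.pT1 u hu
    obtain ⟨s, hs, f, hf, rfl⟩ := hB.m2.pT1 v hv
    have a : s⁻¹ * e * s⁻¹⁻¹ ∈ EE := cE hB _ he
    have b := r s hs.1 (J s) (K.le s hs) (h.res s hs) (h.nE s hs) _ a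
    rw [R, show s * (s⁻¹ * e * s⁻¹⁻¹) * s⁻¹ = e by group] at b
    rw [show t * e * (s * f) = t * s * (s⁻¹ * e * s⁻¹⁻¹ * f) by group, p _ (mul_mem ht hs) _
      (mul_mem a hf), p t ht e he, p s hs f hf, h.em.mul t ht s hs,
      h.emE.mul _ (EE_AE hB a) _ (EE_AE hB hf), ← b]
    group
  have em1 : Em J' T1 := by
    let ρ : T1 →* G := MonoidHom.mk' (fun u => J' u) fun u v => mul u u.2 v v.2
    have inj : Function.Injective ρ := (injective_iff_map_eq_one ρ).2 fun u hu => by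
      obtain ⟨t, ht, e, he, q⟩ := hB.m2.pT1 u u.2
      have a : J t * J e = 1 := by rw [← p t ht e he, ← q]; exact hu
      have b : e ∈ T0 := QQ_T0 hB (AP_QQ hB (mem_AP hB h he (by
        rw [eq_inv_of_mul_eq_one_right a]; exact inv_mem (K.le t ht))))
      refine Subtype.ext (q.trans (h.em.inj _ (mul_mem ht b) _ (one_mem _) ?_))
      rw [h.em.mul t ht e b, a]
      exact h.em.one.symm
    exact ⟨mul, fun u hu v hv e => congrArg Subtype.val (inj (a₁ := ⟨u, hu⟩) (a₂ := ⟨v, hv⟩) e)⟩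
  have ET : EE ≤ T1 := (EE_AE hB).trans (AE_T1 hB)
  refine ⟨J', ⟨E0_of hB h eT (h.emE.congr eA) (im_congr fun u hu => eA u (EE_AE hB hu)),
    fun t ht e he => Or.inl (em1.self (T0_T1 hB ht) (ET he)), fun u hu e he => ?_⟩, em1,
    fun k hk => ?_⟩
  · rw [Commute, SemiconjBy, ← mul _ (T0_T1 hB hu.1) _ (ET he.1), ← mul _ (ET he.1) _
      (T0_T1 hB hu.1), (hB.m2.ab.2.1 u hu.2 e he.2).eq]
  · obtain ⟨g, g1, g2, g3⟩ := h.rk k hk
    refine ⟨g, by rw [NA, im_congr fun u hu => eT u (AA_le_T0 hu)]; exact g1, g2, fun u hu => ?_⟩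
    rw [R, eA u hu, eA _ (cAE hB (QK_QE hB hk) hu)]
    obtain ⟨a, ha, e, he, rfl⟩ := hB.m2.pAE u hu
    rw [show k * (a * e) * k⁻¹ = k * a * k⁻¹ * (k * e * k⁻¹) by group]
    exact R.mul h.emE (QQ_AE hB (AA_QQ hB ha)) (EE_AE hB he) (QQ_AE hB (AA_QQ hB (cA hB hk ha)))
      (EE_AE hB (cE hB k he)) (exA hB h hk g1 g2 a ha) (r k hk g g1 g2 g3 e he)

theorem lam (h2 : La2Stmt) : LamStmt.{u} := by
  intro G _ _ J φ h
  have K := hB.kit J φ h.toKi
  obtain ⟨lam, hl⟩ := la1 hB J φ h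
  have hT : ∀ t ∈ T0, ∀ e ∈ EE, R J (J t) e (t * e * t⁻¹ * zp (ch (lam t) e)) := fun t ht =>
    hl t ht.1 _ (K.le t ht) (h.res t ht) (h.nE t ht)
  obtain ⟨u0, l, c⟩ := h2 lam (fun k hk k' hk' e he => by
      obtain ⟨g, g1, g2, g3⟩ := h.rk k hk
      obtain ⟨g', s1, s2, s3⟩ := h.rk k' hk'
      refine c_uniq hB h (cE hB _ he) (hl _ (mul_mem hk hk') _ (mul_mem g1 s1)
        (by rw [h.mul _ g1 _ s1, g2, s2, map_mul]) (mul_mem g3 s3) e he) ?_
      have := (hl k' hk' g' s1 s2 s3 e he).trans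
        (hl k hk g g1 g2 g3 _ (mul_mem (cE hB k' he) (zE hB _)))
      rwa [conj_zp, ch_zp hB _ (EE_AE hB (cE hB k' he)), mul_assoc, zp_add,
        show k * (k' * e * k'⁻¹) * k⁻¹ = k * k' * e * (k * k')⁻¹ by group] at this)
    (fun q hq e he => c_uniq hB h (cE hB q he) (hT q (QQ_T0 hB hq) e he) (by
      rw [zp_zero, mul_one]; exact h.emE.self (QQ_AE hB hq) (EE_AE hB he)))
  have h1 := tw_E0 hB h l
  have k : NA (tw J l) = NA J := by
    rw [NA, im_congr fun u hu => tw_T0 hB l u (AA_le_T0 hu)]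
  rcases c with c | c
  · obtain ⟨J', s⟩ := std hB h1 fun k' hk g g1 g2 g3 e he => by
      rw [k] at g1
      rw [tw_im hB l] at g3
      have := tw_R hB (l := l) (hl k' hk g g1 g2 g3) he (d := 0) (by rw [add_zero]; exact c k' hk e he)
      rwa [zp_zero, mul_one] at this
    exact ⟨J', Or.inl s⟩
  · have x12 : xe 1 2 ∈ T0 := by decide +kernel
    have x13 : xe 1 3 ∈ T0 := by decide +kernel
    have x23 : xe 2 3 ∈ T0 := by decide +kernel
    have x21 : xe 2 1 ∈ QK := by decide +kernel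
    refine ⟨tw J l, Or.inr ⟨⟨h1, fun t ht e he => ?_, fun u hu e he => ?_⟩, fun e he => ?_,
      fun e he => ?_, fun e he => ?_, ?_⟩⟩
    · rw [tw_T0 hB l t ht]
      have := tw_R hB (l := l) (hT t ht) he
        (d := ch (lam t) e + (ch l e + ch l (t * e * t⁻¹))) (by rw [add_comm, add_add])
      rcases two_cases (ch (lam t) e + (ch l e + ch l (t * e * t⁻¹))) with q | q <;> rw [q] at this
      · rw [zp_zero, mul_one] at this
        exact Or.inl this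
      · exact Or.inr this
    · have q : u * e * u⁻¹ = e := by rw [(hB.m2.ab.2.1 u hu.2 e he.2).eq, mul_inv_cancel_right]
      have := tw_R hB (l := l) (hT u hu.1) he.1 (d := 0) (by rw [q, u0 u hu e he, z2add, add_zero])
      rw [q, zp_zero, mul_one] at this
      rw [tw_T0 hB l u hu.1]
      exact mul_inv_eq_iff_eq_mul.1 this
    · rw [tw_T0 hB l _ x12]
      exact tw_R hB (hT _ x12) he (c e he).1
    · rw [tw_T0 hB l _ x13]
      exact tw_R hB (hT _ x13) he (c e he).2.1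
    · rw [tw_T0 hB l _ x23]
      exact tw_R hB (hT _ x23) he (c e he).2.2.1
    · obtain ⟨g, g1, g2, g3⟩ := h.rk _ x21
      exact ⟨g, fun e he => tw_R hB (hl _ x21 g g1 g2 g3) he (c e he).2.2.2⟩

end

theorem eqns : True := by
  have := @tw.eq_1.{0}; trivial

end Cfsg.Agent.H81.KnLam
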