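/-
Codes for the module `N ⊗ W` of `S₅ × L₃(2)`.
-/
import Mathlib
import Cfsg.Agent.H24.MKit

set_option autoImplicit false
set_option maxRecDepth 100000
set_option synthInstance.maxSize 4096

namespace Cfsg.Agent.H81.Pen

open Cfsg.Agent.H24.MH

/-- The group `ΣL₂(4) ≅ S₅` of `4 × 4` matrices, generated by `19506` (order three),
`42273`, `8580` (double transpositions) and `50225` (a transposition). -/
def Gam : List ℕ :=
  [4748, 4766, 4783, 4797, 5064, 5083, 5097, 5114, 8580, 8599, 8613, 8630, 9032, 9050, 9067, 9081,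
  12740, 12758, 12775, 12789, 12876, 12895, 12909, 12926, 18467, 18539, 18607, 18663, 19506,
  19582, 19638, 19706, 23075, 23161, 23180, 23254, 24370, 24429, 24471, 24520, 27427, 27464,
  27550, 27637, 27954, 27999, 28036, 28137, 31011, 31066, 31165, 31172, 32306, 32332, 32421,
  32475, 33825, 33901, 33957, 34025, 35858, 35930, 35998, 36054, 38689, 38751, 38838, 38856,
  40466, 40555, 40588, 40693, 42273, 42366, 42372, 42459, 44818, 44872, 44989, 45031, 46625,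
  46668, 46743, 46842, 48402, 48505, 48559, 48580, 50225, 50297, 50365, 50421, 51219, 51295,
  51351, 51419, 54833, 54874, 54924, 55015, 56083, 56190, 56229, 56264, 59185, 59208, 59311,
  59350, 59667, 59757, 59780, 59898, 62769, 62827, 62878, 62916, 64019, 64076, 64182, 64233]

/-- Words for the elements of `Gam`. -/
def GamW : List (List ℕ) :=
  [[3, 2, 0], [0, 3, 1, 2], [3, 1, 2, 0], [3, 0, 1, 0, 2], [2, 0], [0, 0, 1, 2], [0, 1, 0, 2], [1,
  2, 0], [2], [0, 1, 2, 0], [1, 2], [1, 0, 1, 2, 0], [3, 0, 2], [3, 1, 0, 2], [3, 0, 1, 2], [0, 3,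
  1, 2, 0], [3, 2], [3, 0, 1, 2, 0], [0, 3, 1, 0, 2], [3, 1, 2], [0, 2], [1, 0, 2], [1, 0, 1, 2],
  [0, 1, 2], [3, 0], [3, 0, 1, 2, 1], [3, 1, 2, 1, 0], [3, 2, 0, 1, 0, 2], [0], [0, 1, 2, 1], [2,
  0, 1, 0, 2], [1, 2, 1, 0], [3, 1, 0], [0, 3, 1, 2, 0, 1], [3, 2, 1, 0], [3, 0, 1, 2, 1, 0, 1],
  [1, 0], [1, 0, 1, 2, 1], [0, 1, 2, 1, 0, 1], [2, 1, 0], [3, 0, 1], [3, 0, 2, 1], [0, 3, 1, 0, 2,
  1, 0], [1, 0, 2, 1, 0, 3], [1, 0, 1], [1, 0, 2, 1], [2, 0, 1, 0, 0], [0, 1, 2, 0, 1, 0], [3, 1,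
  0, 1], [3, 1, 0, 2, 1], [3, 0, 1, 2, 0, 1, 0], [0, 2, 1, 0, 3], [0, 1], [0, 2, 1], [1, 2, 0, 1,
  0, 0], [1, 0, 1, 2, 0, 1, 0], [], [2, 0, 1, 2, 0], [1, 2, 1], [0, 2, 1, 0, 2], [0, 3], [3, 2, 1,
  0, 2], [0, 3, 1, 2, 1], [3, 0, 1, 2, 1, 0], [0, 1, 0, 0], [1, 2, 0, 1, 0], [1, 0, 1, 2, 0, 1],
  [2, 1, 0, 1], [0, 3, 1], [3, 0, 1, 2, 0, 1, 0, 0], [3, 2, 0, 1], [3, 1, 0, 2, 1, 0], [1], [0, 1,
  0, 2, 1, 0], [2, 1], [1, 0, 2, 1, 0, 2], [1, 0, 3], [2, 1, 0, 3], [3, 0, 1, 0, 2, 1], [0, 3, 1,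
  2, 0, 1, 0], [0, 0, 1, 0], [2, 0, 1, 0], [0, 1, 2, 0, 1], [1, 2, 1, 0, 1], [3, 0, 1, 0], [0, 3,
  1, 2, 1, 0, 1], [3, 1, 2, 0, 1], [3, 0, 2, 1, 0], [3], [0, 3, 1, 2, 1, 0], [3, 0, 2, 1, 0, 2],
  [3, 1, 2, 1], [0, 0], [2, 1, 0, 2], [0, 1, 2, 1, 0], [2, 0, 1, 2], [3, 0, 1, 0, 0], [3, 1, 2, 0,
  1, 0], [3, 2, 1, 0, 1], [0, 3, 1, 0, 2, 1], [0, 0, 1], [0, 1, 2, 0, 1, 0, 0], [1, 0, 2, 1, 0],
  [2, 0, 1], [0, 3, 1, 0], [3, 2, 0, 1, 0], [3, 1, 2, 1, 0, 1], [3, 0, 1, 2, 0, 1], [0, 1, 0], [2,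
  0, 1, 2, 0, 1], [0, 2, 1, 0], [1, 2, 0, 1], [3, 1], [3, 0, 1, 0, 2, 1, 0], [3, 1, 0, 2, 1, 0,
  2], [3, 2, 1], [1, 0, 0], [2, 1, 0, 0], [1, 0, 1, 2, 1, 0], [0, 1, 0, 2, 1]]

/-- The generators of `Gam`. -/
def gen (i : ℕ) : ℕ := [19506, 42273, 8580, 50225].getD i 0

/-- The group `SL₃(2)`, as `4 × 4` matrices. -/
def SLs : List ℕ :=
  [33060, 33061, 33062, 33063, 33076, 33077, 33078, 33079, 33090, 33091, 33094, 33095, 33106,
  33107, 33110, 33111, 33122, 33123, 33124, 33125, 33138, 33139, 33140, 33141, 33300, 33301,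
  33302, 33303, 33332, 33333, 33334, 33335, 33345, 33347, 33349, 33351, 33361, 33363, 33364,
  33366, 33377, 33379, 33381, 33383, 33393, 33395, 33396, 33398, 33556, 33557, 33558, 33559,
  33572, 33573, 33574, 33575, 33601, 33602, 33605, 33606, 33617, 33618, 33620, 33623, 33633,
  33634, 33636, 33639, 33649, 33650, 33653, 33654, 33810, 33811, 33814, 33815, 33825, 33827,
  33829, 33831, 33841, 33842, 33845, 33846, 33874, 33875, 33878, 33879, 33889, 33891, 33893,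
  33895, 33905, 33906, 33909, 33910, 34066, 34067, 34070, 34071, 34081, 34083, 34084, 34086,
  34097, 34098, 34100, 34103, 34114, 34115, 34118, 34119, 34145, 34146, 34148, 34151, 34161,
  34163, 34164, 34166, 34322, 34323, 34324, 34325, 34337, 34339, 34341, 34343, 34353, 34354,
  34356, 34359, 34369, 34371, 34373, 34375, 34385, 34386, 34388, 34391, 34418, 34419, 34420,
  34421, 34578, 34579, 34580, 34581, 34593, 34595, 34596, 34598, 34609, 34610, 34613, 34614,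
  34625, 34626, 34629, 34630, 34641, 34643, 34644, 34646, 34658, 34659, 34660, 34661]

/-- The quadratic form `v₀ v₃ + v₁ v₂ + v₁ v₃`; its polar form is invariant under `Gam`. -/
def mu (v : ℕ) : ℕ := Nat.land (Nat.shiftRight 42688 v) 1

/-- The invariant alternating form. -/
def be (u v : ℕ) : ℕ := Nat.xor (Nat.xor (mu u) (mu v)) (mu (Nat.xor u v))

/-- The commutator map. -/
def bb (u v : ℕ) : ℕ :=
  Nat.add (Nat.add (Nat.xor (be (col u 1) (col v 2)) (be (col u 2) (col v 1)))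
    (Nat.mul 2 (Nat.xor (be (col u 0) (col v 2)) (be (col u 2) (col v 0)))))
    (Nat.mul 4 (Nat.xor (be (col u 0) (col v 1)) (be (col u 1) (col v 0))))

/-- The squaring map. -/
def qq (v : ℕ) : ℕ :=
  Nat.add (Nat.add (be (col v 1) (col v 2)) (Nat.mul 2 (be (col v 0) (col v 2))))
    (Nat.mul 4 (be (col v 0) (col v 1)))

/-- The matrix with the given rows. -/
def tr (a b c : ℕ) : ℕ :=
  32768 + (a % 2 + 2 * (b % 2) + 4 * (c % 2)) + 16 * (a / 2 % 2 + 2 * (b / 2 % 2) + 4 * (c / 2 % 2)) +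
    256 * (a / 4 + 2 * (b / 4) + 4 * (c / 4))

theorem gamW : GamW.map (mw gen) = Gam := by decide +kernel

theorem gamW_lt : ∀ w ∈ GamW, ∀ i ∈ w, i < 4 := by decide +kernel

theorem gam_card : Gam.toFinset.card = 120 := by decide +kernel

theorem sls_card : SLs.toFinset.card = 168 := by decide +kernel

theorem gam_lt : ∀ g ∈ Gam, g < 65536 := by decide +kernel

theorem sls_lt : ∀ g ∈ SLs, g < 65536 := by decide +kernel

theorem I4_gam : I4 ∈ Gam := by decide +kernel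

theorem I4_sls : I4 ∈ SLs := by decide +kernel

theorem sls_col : ∀ B ∈ SLs, col B 3 = 8 ∧ mm 1057 B + 32768 = B := by decide +kernel

theorem sls_mul : ∀ A ∈ SLs, ∀ B ∈ SLs, mm 1057 (mm A B) + 32768 = mm A B := by decide +kernel

theorem tr_spec : ∀ a < 8, ∀ b < 8, ∀ c < 8, col (tr a b c) 3 = 8 ∧
    (∀ j < 3, (col (tr a b c) j).testBit 0 = a.testBit j ∧ (col (tr a b c) j).testBit 1 = b.testBit j ∧
      (col (tr a b c) j).testBit 2 = c.testBit j) ∧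
    (tr a b c ∈ SLs ∨ ∃ v ∈ [1, 16, 17, 256, 257, 272, 273], mm v (tr a b c) = 0) := by
  decide +kernel

theorem mm_assoc (A B C : ℕ) : mm (mm A B) C = mm A (mm B C) := by
  refine eq_of_col (mm_lt _ _) (mm_lt _ _) ?_ ?_ ?_ ?_ <;>
    rw [col_mm _ _ (by norm_num), col_mm _ _ (by norm_num), col_mm _ _ (by norm_num),
      mm_assoc_vec _ _ (col_lt _ _)]

theorem xor_lt {n a b : ℕ} (ha : a < 2 ^ n) (hb : b < 2 ^ n) : a ^^^ b < 2 ^ n :=
  Nat.xor_lt_two_pow ha hb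

theorem mm_xor_right (A u v : ℕ) : mm A (u ^^^ v) = mm A u ^^^ mm A v := by
  refine eq_of_col (mm_lt _ _) (xor_lt (n := 16) (mm_lt _ _) (mm_lt _ _)) ?_ ?_ ?_ ?_ <;>
    rw [col_xor, col_mm _ _ (by norm_num), col_mm _ _ (by norm_num), col_mm _ _ (by norm_num),
      col_xor, mm_xor _ (col_lt _ _) (col_lt _ _)]

theorem bit_aux : ∀ c < 16, ∀ i < 4, (c >>> i) &&& 4369 = if c.testBit i then 1 else 0 := by
  decide +kernel

theorem mm_vec (M : ℕ) {c : ℕ} (hc : c < 16) : mm M c =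
    ((if c.testBit 0 then col M 0 else 0) ^^^ (if c.testBit 1 then col M 1 else 0)) ^^^
    ((if c.testBit 2 then col M 2 else 0) ^^^ (if c.testBit 3 then col M 3 else 0)) := by
  rw [mm_eq, bit_aux c hc 0 (by norm_num), bit_aux c hc 1 (by norm_num),
    bit_aux c hc 2 (by norm_num), bit_aux c hc 3 (by norm_num)]
  simp

theorem mm_xor_left (u v A : ℕ) : mm (u ^^^ v) A = mm u A ^^^ mm v A := by
  have : ∀ c < 16, mm (u ^^^ v) c = mm u c ^^^ mm v c := fun c hc => by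
    refine vec_induction (P := fun c => mm (u ^^^ v) c = mm u c ^^^ mm v c) ?_ ?_ ?_ ?_ ?_ ?_ hc
    · simp only [mm_zero, Nat.xor_self]
    · simp only [mm_e0, col_xor]
    · simp only [mm_e1, col_xor]
    · simp only [mm_e2, col_xor]
    · simp only [mm_e3, col_xor]
    · intro a ha b hb e f
      simp only [mm_xor_right, e, f]
      ac_rfl
  refine eq_of_col (mm_lt _ _) (xor_lt (n := 16) (mm_lt _ _) (mm_lt _ _)) ?_ ?_ ?_ ?_ <;>
    rw [col_xor, col_mm _ _ (by norm_num), col_mm _ _ (by norm_num), col_mm _ _ (by norm_num),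
      this _ (col_lt _ _)]

theorem col3 {v : ℕ} (hv : v < 4096) : col v 3 = 0 := by rw [col_eq]; omega

theorem lt_of_col3 {v : ℕ} (h : v < 65536) (hv : col v 3 = 0) : v < 4096 := by
  rw [col_eq] at hv; omega

theorem mm_lt_left (g : ℕ) {v : ℕ} (hv : v < 4096) : mm g v < 4096 :=
  lt_of_col3 (mm_lt _ _) (by rw [col_mm _ _ (by norm_num), col3 hv, mm_zero])

theorem mm_lt_right {B v : ℕ} (hB : col B 3 = 8) (hv : v < 4096) : mm v B < 4096 :=
  lt_of_col3 (mm_lt _ _) (by rw [col_mm _ _ (by norm_num), hB, mm_e3, col3 hv])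

theorem eq_zero_of_bits : ∀ n < 16, n.testBit 0 = false → n.testBit 1 = false →
    n.testBit 2 = false → n.testBit 3 = false → n = 0 := by decide

theorem col_zero (j : ℕ) : col 0 j = 0 := by simp [col_eq]

end Cfsg.Agent.H81.Pen
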