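import Cfsg.Agent.H42.HtDefs

/-! Project HT, piece F3: the centraliser of `z8` in the symmetric group of degree ten. -/

set_option autoImplicit false

namespace Cfsg.Agent.H81.HtF3

open Cfsg.Agent.H42.HT
open Cfsg.Agent.H7.AA (d2)
open Equiv (swap Perm)
open scoped commutatorElement

theorem zfix : ∀ x : Fin 10, z8 x = x ↔ x = 2 ∨ x = 3 := by decide

theorem app {p : P} (h : Commute p z8) (x : Fin 10) : p (z8 x) = z8 (p x) :=
  congrArg (fun t : P => t x) h.eq

theorem two {p : P} (h : Commute p z8) : (p 2 = 2 ∧ p 3 = 3) ∨ (p 2 = 3 ∧ p 3 = 2) := by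
  have a : p 2 = 2 ∨ p 2 = 3 := (zfix _).1 (app h 2).symm
  have b : p 3 = 2 ∨ p 3 = 3 := (zfix _).1 (app h 3).symm
  have n : p 2 ≠ p 3 := p.injective.ne (by decide)
  rcases a with a | a <;> rcases b with b | b
  · exact absurd (a.trans b.symm) n
  · exact Or.inl ⟨a, b⟩
  · exact Or.inr ⟨a, b⟩
  · exact absurd (a.trans b.symm) n

/-- the values at the first points of the four pairs -/
def Ok (Q : Fin 10 → Fin 10 → Fin 10 → Fin 10 → Prop) : Prop :=
  ∀ a, z8 a ≠ a → ∀ b, z8 b ≠ b → b ≠ a → b ≠ z8 a → ∀ c, z8 c ≠ c → c ≠ a → c ≠ z8 a → c ≠ b →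
    c ≠ z8 b → ∀ d, z8 d ≠ d → d ≠ a → d ≠ z8 a → d ≠ b → d ≠ z8 b → d ≠ c → d ≠ z8 c → Q a b c d

set_option synthInstance.maxSize 4000 in
set_option synthInstance.maxHeartbeats 400000 in
instance decOk (Q : Fin 10 → Fin 10 → Fin 10 → Fin 10 → Prop) [∀ a b c d, Decidable (Q a b c d)] :
    Decidable (Ok Q) := by
  unfold Ok
  exact @Nat.decidableForallFin _ _ fun a => by
    refine @instDecidableForall _ _ _ ?_
    refine @Nat.decidableForallFin _ _ fun b => ?_
    iterate 3 refine @instDecidableForall _ _ _ ?_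
    refine @Nat.decidableForallFin _ _ fun c => ?_
    iterate 5 refine @instDecidableForall _ _ _ ?_
    refine @Nat.decidableForallFin _ _ fun d => ?_
    iterate 7 refine @instDecidableForall _ _ _ ?_
    infer_instance

theorem Ok.use {Q : Fin 10 → Fin 10 → Fin 10 → Fin 10 → Prop} (k : Ok Q) {p : P}
    (h : Commute p z8) : Q (p 0) (p 4) (p 6) (p 8) := by
  have n : ∀ x y : Fin 10, x ≠ y → p x ≠ p y := fun x y e => p.injective.ne e
  have m : ∀ x y : Fin 10, x ≠ z8 y → p x ≠ z8 (p y) := fun x y e => app h y ▸ n _ _ e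
  have f : ∀ x : Fin 10, z8 x ≠ x → z8 (p x) ≠ p x := fun x e => (m x x e.symm).symm
  exact k _ (f _ (by decide)) _ (f _ (by decide)) (n _ _ (by decide)) (m _ _ (by decide))
    _ (f _ (by decide)) (n _ _ (by decide)) (m _ _ (by decide)) (n _ _ (by decide))
    (m _ _ (by decide)) _ (f _ (by decide)) (n _ _ (by decide)) (m _ _ (by decide))
    (n _ _ (by decide)) (m _ _ (by decide)) (n _ _ (by decide)) (m _ _ (by decide))

/-- the map with the given values -/
def fn (a b c d e f : Fin 10) : Fin 10 → Fin 10 := ![a, z8 a, e, f, b, z8 b, c, z8 c, d, z8 d]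

theorem eq_fn {p : P} (h : Commute p z8) (x : Fin 10) :
    p x = fn (p 0) (p 4) (p 6) (p 8) (p 2) (p 3) x := by
  fin_cases x
  exacts [rfl, app h 0, rfl, rfl, rfl, app h 4, rfl, app h 6, rfl, app h 8]

theorem five : Ok fun a b c d => (∀ x, (fn a b c d 2 3)^[5] x = x) → ∀ x, fn a b c d 2 3 x = x := by
  unfold Ok
  decide +kernel

/-- the condition given by one involution -/
def K (s t : P) : Prop := s * t = t * s → t = s

instance decK (s t : P) : Decidable (K s t) := by unfold K; infer_instance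

/-- the six conditions determine the action on the four pairs -/
def Q4 (a b c d : Fin 10) : Prop := K (d2 0 1 4 5) (d2 a (z8 a) b (z8 b)) →
    K (d2 0 1 6 7) (d2 a (z8 a) c (z8 c)) → K (d2 0 1 8 9) (d2 a (z8 a) d (z8 d)) →
    K (d2 0 4 1 5) (d2 a b (z8 a) (z8 b)) → K (d2 0 6 1 7) (d2 a c (z8 a) (z8 c)) →
    K (d2 0 8 1 9) (d2 a d (z8 a) (z8 d)) →
    (a = 0 ∧ b = 4 ∧ c = 6 ∧ d = 8) ∨ (a = 1 ∧ b = 5 ∧ c = 7 ∧ d = 9)

instance decQ (a b c d : Fin 10) : Decidable (Q4 a b c d) := by unfold Q4; infer_instance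

theorem four : Ok Q4 := by
  decide +kernel

theorem k_of {s q : P} (s2 : s * s = 1) (o : Odd (orderOf ⁅s, q⁆)) : K s (q * s * q⁻¹) := by
  intro e
  have i : s⁻¹ = s := inv_eq_of_mul_eq_one_right s2
  have c : ⁅s, q⁆ = s * (q * s * q⁻¹) := by rw [commutatorElement_def, i]; group
  have t2 : (q * s * q⁻¹) * (q * s * q⁻¹) = 1 := by
    calc _ = q * (s * s) * q⁻¹ := by group
      _ = 1 := by rw [s2]; group
  have sq : ⁅s, q⁆ ^ 2 = 1 := by
    rw [c, pow_two]
    generalize q * s * q⁻¹ = t at e t2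
    calc s * t * (s * t) = s * (t * s) * t := by group
      _ = (s * s) * (t * t) := by rw [← e]; group
      _ = 1 := by rw [s2, t2, mul_one]
  rcases (Nat.dvd_prime Nat.prime_two).1 (orderOf_dvd_of_pow_eq_one sq) with k | k
  · rw [orderOf_eq_one_iff, c] at k
    exact (eq_inv_of_mul_eq_one_right k).trans i
  · rw [k] at o
    exact absurd o (by decide)

theorem f3 : F3 := by
  refine ⟨fun p h => ?_, fun p h5 h => ?_, fun q h o => ?_⟩
  · have : p * swap 2 3 * p⁻¹ = swap 2 3 := by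
      rw [← Equiv.swap_apply_apply]
      rcases two h with ⟨a, b⟩ | ⟨a, b⟩ <;> rw [a, b]
      exact Equiv.swap_comm _ _
    exact mul_inv_eq_iff_eq_mul.1 this
  · have it : ∀ x, p^[5] x = x := fun x => by
      rw [← Equiv.Perm.coe_pow, h5]; rfl
    rcases two h with ⟨a, b⟩ | ⟨a, b⟩
    · have e : ⇑p = fn (p 0) (p 4) (p 6) (p 8) 2 3 := by
        funext x
        rw [eq_fn h x, a, b]
      refine Equiv.ext fun x => ?_
      have := five.use h (fun y => by rw [← e]; exact it y) x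
      rw [← e] at this
      exact this
    · have := it 2
      simp only [Function.iterate_succ, Function.iterate_zero, Function.comp, id, a, b] at this
      exact absurd this (by decide)
  · have k : ∀ a b c d : Fin 10, d2 a b c d * d2 a b c d = 1 → d2 a b c d ∈ A8 →
        d2 a b c d * z8 = z8 * d2 a b c d →
        K (d2 a b c d) (d2 (q a) (q b) (q c) (q d)) := fun a b c d s2 m c => by
      rw [← H7.AA.d2_conj]
      exact k_of s2 (o _ m c)
    have e1 : q 1 = z8 (q 0) := app h 0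
    have e5 : q 5 = z8 (q 4) := app h 4
    have e7 : q 7 = z8 (q 6) := app h 6
    have e9 : q 9 = z8 (q 8) := app h 8
    have := four.use h
      (e1 ▸ e5 ▸ k 0 1 4 5 (by decide) (H78.mem_altOn.2 (by decide)) (by decide))
      (e1 ▸ e7 ▸ k 0 1 6 7 (by decide) (H78.mem_altOn.2 (by decide)) (by decide))
      (e1 ▸ e9 ▸ k 0 1 8 9 (by decide) (H78.mem_altOn.2 (by decide)) (by decide))
      (e1 ▸ e5 ▸ k 0 4 1 5 (by decide) (H78.mem_altOn.2 (by decide)) (by decide))
      (e1 ▸ e7 ▸ k 0 6 1 7 (by decide) (H78.mem_altOn.2 (by decide)) (by decide))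
      (e1 ▸ e9 ▸ k 0 8 1 9 (by decide) (H78.mem_altOn.2 (by decide)) (by decide))
    have ex : ∀ r : P, (∀ x, fn (q 0) (q 4) (q 6) (q 8) (q 2) (q 3) x = r x) → q = r :=
      fun r hr => Equiv.ext fun x => (eq_fn h x).trans (hr x)
    rcases this with ⟨a, b, c, d⟩ | ⟨a, b, c, d⟩ <;> rcases two h with ⟨e, f⟩ | ⟨e, f⟩ <;>
      rw [a, b, c, d, e, f] at ex
    · exact Or.inl (ex _ (by decide))
    · exact Or.inr (Or.inl (ex _ (by decide)))
    · exact Or.inr (Or.inr (Or.inl (ex _ (by decide))))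
    · exact Or.inr (Or.inr (Or.inr (ex _ (by decide))))

set_option linter.unusedTactic false in
theorem eqns : True := by
  have := @Ok.eq_1; have := @fn.eq_1; have := @K.eq_1; have := @Q4.eq_1; trivial

end Cfsg.Agent.H81.HtF3
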