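import Cfsg.Agent.H46.J1Defs

/-!
# `L₃(2)` acting on `4³`
-/

set_option autoImplicit false
open scoped Pointwise commutatorElement
open Subgroup

namespace Cfsg.Agent.H81.Autb

universe u

/-- the coordinate space -/
abbrev W : Type := ZMod 2 × ZMod 2 × ZMod 2

def e0 : W := (1, 0, 0)
def e1 : W := (0, 1, 0)
def e2 : W := (0, 0, 1)

/-- the linear map with given values on the basis -/
def L (o p q w : W) : W := w.1 • o + w.2.1 • p + w.2.2 • q

/-- the element of order 3 -/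
def r (w : W) : W := (w.1, w.2.2, w.2.1 + w.2.2)

theorem L_add (o p q a b : W) : L o p q (a + b) = L o p q a + L o p q b := by
  simp only [L, Prod.fst_add, Prod.snd_add, add_smul]
  abel

theorem w_eq : ∀ w : W, w = w.1 • e0 + w.2.1 • e1 + w.2.2 • e2 := by decide

theorem L_eq (β : W →+ W) (w : W) : β w = L (β e0) (β e1) (β e2) w := by
  conv_lhs => rw [w_eq w]
  simp only [map_add, ZMod.map_smul, L]

set_option synthInstance.maxSize 1024 in
theorem dich : ∀ p q : W, (∀ w, L e0 p q w = 0 → w = 0) → ∃ k : Fin 3,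
    (∀ w, r^[k] (L e0 p q w) = w ∨ r^[k] (L e0 p q w) = w + e0) ∨
    ∀ w, r^[k] (L e0 p q (L e0 e2 e1 w)) = w ∨ r^[k] (L e0 p q (L e0 e2 e1 w)) = w + e0 := by
  decide

theorem three : ∀ p q : W, (p = e1 ∨ p = e1 + e0) → (q = e2 ∨ q = e2 + e0) → ∀ w,
    L e0 p q (r (L e0 p q (r (r (r (r (L e0 p q (r w)))))))) = w := by decide

section Core

variable {Γ A : Type*} [Group Γ] [AddCommGroup A] [DistribMulAction Γ A]

/-- the hypotheses -/
structure Hyp (φ : W →+ A) (ρ : Γ) : Prop where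
  inj : Function.Injective φ
  om : ∀ x, x + x = 0 → ∃ w, φ w = x
  sq : ∀ w, ∃ x, x + x = φ w
  gl : ∀ β : W ≃+ W, ∃ g : Γ, ∀ w, g • φ w = φ (β w)
  ker : ∀ g : Γ, (∀ w, g • φ w = φ w) → ∀ x : A, g • x = x
  rho : ∀ w, ρ • φ w = φ (r w)

/-- trivial modulo `φ e0` -/
def TZ (φ : W →+ A) (j : Γ) : Prop := ∀ w, j • φ w = φ w ∨ j • φ w = φ w + φ e0

variable {φ : W →+ A} {ρ : Γ}

theorem two (w : W) : φ w + φ w = 0 := by
  rw [← map_add, (by decide : ∀ w : W, w + w = 0), map_zero]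

namespace Hyp

variable (h : Hyp φ ρ)
include h

theorem ex (g : Γ) (w : W) : ∃ w', g • φ w = φ w' := by
  obtain ⟨w', e⟩ := h.om (g • φ w) (by rw [← smul_add, two, smul_zero])
  exact ⟨w', e.symm⟩

theorem act (g : Γ) : ∃ o p q, ∀ w, g • φ w = φ (L o p q w) := by
  choose β hβ using h.ex g
  let B : W →+ W := AddMonoidHom.mk' β fun a b => h.inj (by
    rw [← hβ, map_add, map_add, smul_add, hβ, hβ])
  exact ⟨B e0, B e1, B e2, fun w => by rw [← L_eq B w]; exact hβ w⟩

theorem act0 {g : Γ} (hg : g • φ e0 = φ e0) : ∃ p q, ∀ w, g • φ w = φ (L e0 p q w) := by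
  obtain ⟨o, p, q, e⟩ := h.act g
  have : o = e0 := by
    have h1 := e e0
    rw [hg] at h1
    have h2 := h.inj h1
    simpa [L, e0] using h2.symm
  subst this
  exact ⟨p, q, e⟩

theorem gl' (o p q : W) (hi : ∀ w, L o p q w = 0 → w = 0) :
    ∃ g : Γ, ∀ w, g • φ w = φ (L o p q w) := by
  let B : W →+ W := AddMonoidHom.mk' (L o p q) (L_add o p q)
  have hB : Function.Injective B := (injective_iff_map_eq_zero B).2 hi
  exact h.gl (AddEquiv.ofBijective B (Finite.injective_iff_bijective.1 hB))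

theorem diff {y y' : A} (e : y + y = y' + y') : ∃ w, y = y' + φ w := by
  obtain ⟨w, hw⟩ := h.om (y - y') (by rw [sub_add_sub_comm, e, sub_self])
  exact ⟨w, by rw [hw]; abel⟩

theorem z_ne : φ e0 ≠ 0 := fun e => by
  have := h.inj (e.trans (map_zero φ).symm)
  exact absurd this (by decide)

theorem rho3 (x : A) : ρ • ρ • ρ • x = x := by
  have := h.ker (ρ * ρ * ρ) (fun w => by
    rw [mul_smul, mul_smul, h.rho, h.rho, h.rho, (by decide : ∀ w, r (r (r w)) = w)]) x
  rwa [mul_smul, mul_smul] at this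

theorem rho_inv (x : A) : ρ⁻¹ • x = ρ • ρ • x := by
  rw [inv_smul_eq_iff, h.rho3]

theorem rho_z : ρ • φ e0 = φ e0 := by rw [h.rho]; rfl

theorem rho_pow (k : ℕ) (w : W) : ρ ^ k • φ w = φ (r^[k] w) := by
  induction k with
  | zero => simp
  | succ k ih => rw [pow_succ', mul_smul, ih, h.rho, Function.iterate_succ_apply']

theorem tz_z {j : Γ} (hj : TZ φ j) : j • φ e0 = φ e0 := by
  rcases hj e0 with e | e
  · exact e
  · rw [two, smul_eq_zero_iff_eq] at e
    exact absurd e h.z_ne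

theorem a0 {ζ : A} (hζ : ζ + ζ = φ e0) {j : Γ} (hj : TZ φ j) :
    j • ζ = ζ ∨ j • ζ = ζ + φ e0 := by
  have hz := h.tz_z hj
  by_cases hc : ∀ w, j • φ w = φ w
  · exact Or.inl (h.ker j hc ζ)
  push Not at hc
  obtain ⟨w0, hw0⟩ := hc
  have h0 := (hj w0).resolve_left hw0
  obtain ⟨v, hv⟩ := h.diff (y := j • ζ) (y' := ζ) (by rw [← smul_add, hζ, hz])
  obtain ⟨b, hb⟩ := h.sq w0
  obtain ⟨w, hw⟩ := h.diff (y := j • b) (y' := b + ζ) (by
    rw [← smul_add, hb, h0, ← hb, ← hζ]; abel)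
  have h2 := h.ker (j * j) (fun w => by
    rw [mul_smul]
    rcases hj w with e | e
    · rw [e, e]
    · rw [e, smul_add, e, hz, add_assoc, two, add_zero]) b
  rw [mul_smul, hw, smul_add, smul_add, hw, hv] at h2
  have t1 := two (φ := φ) w
  have t2 := two (φ := φ) e0
  rcases hj w with e | e <;> rw [e] at h2
  · right
    rw [hv]
    linear_combination (norm := abel1) h2 - t1 - hζ - t2
  · left
    rw [hv]
    linear_combination (norm := abel1) h2 - t1 - hζ - t2

theorem a1 {ζ : A} (hζ : ζ + ζ = φ e0) (hr : ρ • ζ = ζ) {j : Γ} (hj : TZ φ j) : j • ζ = ζ := by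
  refine (h.a0 hζ hj).resolve_right fun e => ?_
  have hz := h.tz_z hj
  obtain ⟨p, q, hL⟩ := h.act0 hz
  have hp : p = e1 ∨ p = e1 + e0 := by
    have h1 := hj e1
    rw [hL, ← map_add, h.inj.eq_iff, h.inj.eq_iff] at h1
    simpa [L, e1] using h1
  have hq : q = e2 ∨ q = e2 + e0 := by
    have h1 := hj e2
    rw [hL, ← map_add, h.inj.eq_iff, h.inj.eq_iff] at h1
    simpa [L, e2] using h1
  have h1 := h.ker (j * ρ * j * ρ * ρ * ρ * ρ * j * ρ) (fun w => by
    simp only [mul_smul, h.rho, hL, three p q hp hq]) ζ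
  simp only [mul_smul, hr, e, smul_add, hz, h.rho_z] at h1
  apply h.z_ne
  linear_combination (norm := abel1) h1 - two (φ := φ) e0

theorem b1 {ζ : A} (hζ : ζ + ζ = φ e0) (hr : ρ • ζ = ζ) {m : Γ} (hm : m • φ e0 = φ e0) :
    m • ζ = ζ ∨ m • ζ = -ζ := by
  obtain ⟨v, hv⟩ := h.diff (y := m • ζ) (y' := ζ) (by rw [← smul_add, hζ, hm])
  have key : ∀ j : Γ, TZ φ j → j • φ v = φ v := fun j hj => by
    have h1 : TZ φ (m⁻¹ * j * m) := fun w => by
      obtain ⟨w', e⟩ := h.ex m w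
      rw [mul_smul, mul_smul, inv_smul_eq_iff, inv_smul_eq_iff, smul_add, e, hm]
      exact hj w'
    have h2 := h.a1 hζ hr h1
    rw [mul_smul, mul_smul, inv_smul_eq_iff, hv, smul_add, h.a1 hζ hr hj] at h2
    exact add_left_cancel h2
  obtain ⟨j1, h1⟩ := h.gl' e0 (e1 + e0) e2 (by decide)
  obtain ⟨j2, h2⟩ := h.gl' e0 e1 (e2 + e0) (by decide)
  have k1 := key j1 fun w => by
    rw [h1, ← map_add, h.inj.eq_iff, h.inj.eq_iff]; revert w; decide
  have k2 := key j2 fun w => by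
    rw [h2, ← map_add, h.inj.eq_iff, h.inj.eq_iff]; revert w; decide
  rw [h1, h.inj.eq_iff] at k1
  rw [h2, h.inj.eq_iff] at k2
  have : v = 0 ∨ v = e0 :=
    (by decide : ∀ v, L e0 (e1 + e0) e2 v = v → L e0 e1 (e2 + e0) v = v → v = 0 ∨ v = e0) v k1 k2
  rcases this with rfl | rfl
  · left; rw [hv, map_zero, add_zero]
  · right; rw [hv]; linear_combination (norm := abel1) hζ + two (φ := φ) e0

theorem dich' {τ : Γ} (hτ : ∀ w, τ • φ w = φ (L e0 e2 e1 w)) {s : Γ} (hs : s • φ e0 = φ e0) :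
    ∃ k : ℕ, TZ φ (ρ ^ k * s) ∨ TZ φ (ρ ^ k * s * τ) := by
  obtain ⟨p, q, hL⟩ := h.act0 hs
  obtain ⟨k, hk⟩ := dich p q fun w e => by
    have h1 := hL w
    rw [e, map_zero, smul_eq_zero_iff_eq] at h1
    exact h.inj (h1.trans (map_zero φ).symm)
  refine ⟨k, hk.imp (fun hk w => ?_) fun hk w => ?_⟩
  · rw [mul_smul, hL, h.rho_pow, ← map_add, h.inj.eq_iff, h.inj.eq_iff]; exact hk w
  · rw [mul_smul, mul_smul, hτ, hL, h.rho_pow, ← map_add, h.inj.eq_iff, h.inj.eq_iff]; exact hk w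

theorem not_all {ζ : A} (hζ : ζ + ζ = φ e0) (H : ∀ s : Γ, s • φ e0 = φ e0 → s • ζ = ζ) :
    False := by
  have wd : ∀ g g' : Γ, g • φ e0 = g' • φ e0 → g • ζ = g' • ζ := fun g g' e => by
    have := H (g'⁻¹ * g) (by rw [mul_smul, e, inv_smul_smul])
    rwa [mul_smul, inv_smul_eq_iff] at this
  have ex : ∀ w : W, ∃ g : Γ, w ≠ 0 → g • φ e0 = φ w := fun w => by
    by_cases hw : w = 0
    · exact ⟨1, fun h => absurd hw h⟩
    obtain ⟨p, q, hpq⟩ : ∃ p q, ∀ w', L w p q w' = 0 → w' = 0 := by revert hw; revert w; decide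
    obtain ⟨g, hg⟩ := h.gl' w p q hpq
    exact ⟨g, fun _ => by rw [hg]; simp [L, e0]⟩
  choose g hg using ex
  have eqv : ∀ (γ : Γ) (w w' : W), w ≠ 0 → w' ≠ 0 → γ • φ w = φ w' →
      γ • g w • ζ = g w' • ζ := fun γ w w' a b e => by
    rw [← mul_smul]
    exact wd _ _ (by rw [mul_smul, hg w a, hg w' b, e])
  have dbl : ∀ w, w ≠ 0 → g w • ζ + g w • ζ = φ w := fun w a => by rw [← smul_add, hζ, hg w a]
  have base : g e1 • ζ + g e2 • ζ + g (e1 + e2) • ζ = 0 := by
    obtain ⟨w, hw⟩ := h.om (g e1 • ζ + g e2 • ζ + g (e1 + e2) • ζ) (by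
      have := two (φ := φ) (e1 + e2)
      rw [map_add] at this
      have h3 := dbl (e1 + e2) (by decide)
      rw [map_add] at h3
      linear_combination (norm := abel1) dbl e1 (by decide) + dbl e2 (by decide) + h3 + this)
    have h1 : ρ • φ w = φ w := by
      rw [hw, smul_add, smul_add, eqv ρ e1 e2 (by decide) (by decide) (h.rho _),
        eqv ρ e2 (e1 + e2) (by decide) (by decide) (h.rho _),
        eqv ρ (e1 + e2) e1 (by decide) (by decide) (h.rho _)]
      abel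
    obtain ⟨α, hα⟩ := h.gl' (e0 + e1) e1 e2 (by decide)
    have h2 : α • φ w = φ w := by
      rw [hw, smul_add, smul_add, eqv α e1 e1 (by decide) (by decide) (hα _),
        eqv α e2 e2 (by decide) (by decide) (hα _),
        eqv α (e1 + e2) (e1 + e2) (by decide) (by decide) (hα _)]
    rw [h.rho, h.inj.eq_iff] at h1
    rw [hα, h.inj.eq_iff] at h2
    have : w = 0 :=
      (by decide : ∀ w, r w = w → L (e0 + e1) e1 e2 w = w → w = 0) w h1 h2
    rw [← hw, this, map_zero]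
  have line : ∀ o p q : W, (∀ w, L o p q w = 0 → w = 0) → p ≠ 0 → q ≠ 0 → p + q ≠ 0 →
      g p • ζ + g q • ζ + g (p + q) • ζ = 0 := fun o p q hi a b c => by
    obtain ⟨γ, hγ⟩ := h.gl' o p q hi
    have := congrArg (γ • ·) base
    simp only [smul_add, smul_zero] at this
    rwa [eqv γ e1 p (by decide) a (by rw [hγ]; simp [L, e1]),
      eqv γ e2 q (by decide) b (by rw [hγ]; simp [L, e2]),
      eqv γ (e1 + e2) (p + q) (by decide) c (by rw [hγ]; simp [L, e1, e2])] at this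
  have l1 := line e2 e0 e1 (by decide) (by decide) (by decide) (by decide)
  have l2 := line e0 (e0 + e1) e2 (by decide) (by decide) (by decide) (by decide)
  have l4 := line e1 e0 (e1 + e2) (by decide) (by decide) (by decide) (by decide)
  rw [← add_assoc e0] at l4
  have : φ e0 = φ e2 := by
    linear_combination (norm := abel1) l1 - l2 - base + l4 - dbl e0 (by decide) + dbl e2 (by decide)
  exact absurd (h.inj this) (by decide)

theorem core : ∃ ζ : A, ζ + ζ = φ e0 ∧ ρ • ζ = ζ ∧ (∀ j : Γ, TZ φ j → j • ζ = ζ) ∧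
    (∀ m : Γ, m • φ e0 = φ e0 → m • ζ = ζ ∨ m • ζ = -ζ) ∧
    ∀ m : Γ, m • ζ = ζ → ∃ k : ℕ, TZ φ (ρ ^ k * m) := by
  obtain ⟨x, hx⟩ := h.sq e0
  have h1 : ρ • x + ρ • x = φ e0 := by rw [← smul_add, hx, h.rho_z]
  have h2 : ρ • ρ • x + ρ • ρ • x = φ e0 := by rw [← smul_add, h1, h.rho_z]
  have hζ : (x + ρ • x + ρ • ρ • x) + (x + ρ • x + ρ • ρ • x) = φ e0 := by
    linear_combination (norm := abel1) hx + h1 + h2 + two (φ := φ) e0
  have hr : ρ • (x + ρ • x + ρ • ρ • x) = x + ρ • x + ρ • ρ • x := by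
    rw [smul_add, smul_add, h.rho3]; abel
  generalize x + ρ • x + ρ • ρ • x = ζ at hζ hr
  refine ⟨ζ, hζ, hr, fun j => h.a1 hζ hr, fun m => h.b1 hζ hr, fun m hm => ?_⟩
  by_contra hc
  push Not at hc
  have hp : ∀ k : ℕ, ρ ^ k • ζ = ζ := fun k => by
    induction k with
    | zero => simp
    | succ k ih => rw [pow_succ, mul_smul, hr, ih]
  have hp' : ∀ (k : ℕ) (y : A), ρ ^ k • y = ζ → y = ζ := fun k y e => by
    rw [← hp k] at e; exact MulAction.injective _ e
  obtain ⟨τ, hτ⟩ := h.gl' e0 e2 e1 (by decide)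
  have hτζ : τ • ζ = ζ := by
    obtain ⟨k, hk⟩ := h.dich' hτ (s := m) (by rw [← hζ, smul_add, hm])
    have := h.a1 hζ hr (hk.resolve_left (hc k))
    rw [mul_smul, mul_smul] at this
    exact MulAction.injective m ((hp' k _ this).trans hm.symm)
  refine h.not_all hζ fun s hs => ?_
  obtain ⟨k, hk | hk⟩ := h.dich' hτ hs
  · have := h.a1 hζ hr hk
    rw [mul_smul] at this
    exact hp' k _ this
  · have := h.a1 hζ hr hk
    rw [mul_smul, mul_smul, hτζ] at this
    exact hp' k _ this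

end Hyp

theorem cases8 : ∀ w : W, w = 0 ∨ w = e0 ∨ w = e1 ∨ w = e2 ∨ w = e0 + e1 ∨ w = e0 + e2 ∨
    w = e1 + e2 ∨ w = e0 + (e1 + e2) := by decide

theorem exists_phi [Finite A] (hc : Nat.card {x : A // x + x = 0} ≤ 8) (ρ : Γ)
    (h3 : ∀ x : A, ρ • ρ • ρ • x = x) {v z : A} (hv : v + v = 0) (hv' : ρ • v ≠ v)
    (hz : z + z = 0) (hz0 : z ≠ 0) (hz' : ρ • z = z) :
    ∃ φ : W →+ A, Function.Injective φ ∧ (∀ x, x + x = 0 → ∃ w, φ w = x) ∧ φ e0 = z ∧
      ∀ w, ρ • φ w = φ (r w) := by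
  have ex : ∀ a : A, a + a = 0 → ∃ f : ZMod 2 →+ A, f 1 = a := fun a ha =>
    ⟨ZMod.lift 2 ⟨zmultiplesHom A a, by simpa [two_zsmul] using ha⟩, by
      have := ZMod.lift_coe 2 ⟨zmultiplesHom A a, by simpa [two_zsmul] using ha⟩ 1
      simpa using this⟩
  have d : ∀ a : A, a + a = 0 → ρ • a + ρ • a = 0 := fun a ha => by rw [← smul_add, ha, smul_zero]
  obtain ⟨u, hu, hu0, hn⟩ : ∃ u : A, u + u = 0 ∧ u ≠ 0 ∧ ρ • ρ • u = u + ρ • u := by
    refine ⟨v + ρ • v, by linear_combination (norm := abel1) hv + d v hv, fun e => hv' ?_, ?_⟩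
    · linear_combination (norm := abel1) e - hv
    · simp only [smul_add, h3]
      linear_combination (norm := abel1) - d v hv
  obtain ⟨f0, g0⟩ := ex z hz
  obtain ⟨f1, g1⟩ := ex u hu
  obtain ⟨f2, g2⟩ := ex (ρ • u) (d u hu)
  let φ : W →+ A := f0.coprod (f1.coprod f2)
  have p0 : φ e0 = z := by simp [φ, e0, g0]
  have p1 : φ e1 = u := by simp [φ, e1, g1]
  have p2 : φ e2 = ρ • u := by simp [φ, e2, g2]
  clear_value φ
  have zu : z + u ≠ 0 := fun e => by
    have e' : u = z := by linear_combination (norm := abel1) e - hz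
    rw [e', hz', hz', hz] at hn
    exact hz0 hn
  have ne : ∀ a : A, a ≠ 0 → ρ • a ≠ 0 := fun a ha => by rwa [Ne, smul_eq_zero_iff_eq]
  have inj : Function.Injective φ := by
    refine (injective_iff_map_eq_zero φ).2 fun w e => ?_
    rcases cases8 w with rfl | rfl | rfl | rfl | rfl | rfl | rfl | rfl
    · rfl
    all_goals simp only [map_add, p0, p1, p2] at e
    · exact absurd e hz0
    · exact absurd e hu0
    · exact absurd e (ne _ hu0)
    · exact absurd e zu
    · exact absurd e (by have := ne _ zu; rwa [smul_add, hz'] at this)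
    · exact absurd e (hn ▸ ne _ (ne _ hu0))
    · exact absurd e (by have := ne _ (ne _ zu); rwa [smul_add, smul_add, hz', hz', hn] at this)
  refine ⟨φ, inj, fun x hx => ?_, p0, fun w => ?_⟩
  · have hi : Function.Injective fun w : W => (⟨φ w, two w⟩ : {x : A // x + x = 0}) :=
      fun a b e => inj (congrArg Subtype.val e)
    obtain ⟨w, hw⟩ := (hi.bijective_of_nat_card_le (by simpa using hc)).2 ⟨x, hx⟩
    exact ⟨w, congrArg Subtype.val hw⟩
  · have ra : ∀ a b : W, r (a + b) = r a + r b := by decide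
    have r0 : r e0 = e0 := rfl
    have r1 : r e1 = e2 := rfl
    have r2 : r e2 = e1 + e2 := rfl
    have rz : r 0 = 0 := rfl
    rcases cases8 w with rfl | rfl | rfl | rfl | rfl | rfl | rfl | rfl <;>
      simp only [map_add, p0, p1, p2, ra, r0, r1, r2, rz, map_zero, smul_zero, smul_add, hz', hn]

end Core

open H46.S94 in
theorem autb : AUTBStmt.{u} := by
  intro G _ _ H V T z ρ hT _ hVT hV cV om sq hN gl ker hρ o3 hρV zV z1 ρz
  letI : CommGroup T :=
    { (inferInstance : Group T) with mul_comm := fun a b => Subtype.ext (hT _ a.2 _ b.2) }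
  have mem : ∀ (h : H) (x : T), (h : G) * x * (h : G)⁻¹ ∈ T := fun h x =>
    (mem_normalizer_iff.1 (hN h.2) x).1 x.2
  letI : DistribMulAction H (Additive T) :=
    { smul := fun h x => Additive.ofMul ⟨h * x.toMul * (h : G)⁻¹, mem h _⟩
      one_smul := fun x => Subtype.ext (by
        change ((1 : H) : G) * x.toMul * ((1 : H) : G)⁻¹ = x.toMul
        simp)
      mul_smul := fun a b x => Subtype.ext (by
        change ((a * b : H) : G) * x.toMul * ((a * b : H) : G)⁻¹ =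
          a * (b * x.toMul * (b : G)⁻¹) * (a : G)⁻¹
        push_cast
        group)
      smul_zero := fun a => Subtype.ext (by
        change (a : G) * 1 * (a : G)⁻¹ = 1
        group)
      smul_add := fun a x y => Subtype.ext (by
        change (a : G) * (x.toMul * y.toMul) * (a : G)⁻¹ =
          a * x.toMul * (a : G)⁻¹ * (a * y.toMul * (a : G)⁻¹)
        group) }
  obtain ⟨c, ci, cm, cT, cs, sm⟩ : ∃ c : Additive T → G, Function.Injective c ∧
      (∀ x y, c (x + y) = c x * c y) ∧ (∀ x, c x ∈ T) ∧ (∀ x ∈ T, ∃ y, c y = x) ∧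
      ∀ (h : H) (x : Additive T), c (h • x) = h * c x * (h : G)⁻¹ :=
    ⟨fun x => (x.toMul : G), fun a b e => Subtype.ext e, fun _ _ => rfl, fun x => x.toMul.2,
      fun x hx => ⟨Additive.ofMul ⟨x, hx⟩, rfl⟩, fun _ _ => rfl⟩
  have c0 : c 0 = 1 := by simpa using cm 0 0
  have cV' : ∀ x, x + x = 0 → c x ∈ V := fun x hx => om _ (cT x) (by rw [← cm, hx, c0])
  have cV2 : ∀ x, c x ∈ V → x + x = 0 := fun x hx => ci (by rw [cm, hV _ hx, c0])
  have h3 : ρ ^ 3 = 1 := o3 ▸ pow_orderOf_eq_one ρ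
  obtain ⟨v, hv, hv'⟩ : ∃ v ∈ V, v * ρ ≠ ρ * v := by
    by_contra hc
    push Not at hc
    exact hρV (mem_centralizer_iff.2 hc)
  obtain ⟨v, rfl⟩ := cs v (hVT hv)
  obtain ⟨z, rfl⟩ := cs z (hVT zV)
  obtain ⟨φ, inj, hom, p0, hr⟩ := exists_phi (A := Additive T) (by
      rw [← cV]
      exact Nat.card_le_card_of_injective (fun x => (⟨c x.1, cV' _ x.2⟩ : V))
        fun a b e => Subtype.ext (ci (congrArg Subtype.val e))) (⟨ρ, hρ⟩ : H)
    (fun x => ci (by
      rw [sm, sm, sm]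
      calc ρ * (ρ * (ρ * c x * ρ⁻¹) * ρ⁻¹) * ρ⁻¹ = ρ ^ 3 * c x * (ρ ^ 3)⁻¹ := by
            simp only [pow_succ, pow_zero]; group
        _ = c x := by rw [h3]; group))
    (cV2 v hv) (fun e => hv' (by
      have := congrArg c e
      rw [sm] at this
      exact (mul_inv_eq_iff_eq_mul.1 this).symm)) (cV2 z zV) (fun e => z1 (by rw [e, c0]))
    (ci (by rw [sm]; exact mul_inv_eq_iff_eq_mul.2 ρz))
  have su : ∀ x ∈ V, ∃ w, c (φ w) = x := fun x hx => by
    obtain ⟨y, rfl⟩ := cs x (hVT hx)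
    obtain ⟨w, rfl⟩ := hom y (cV2 y hx)
    exact ⟨w, rfl⟩
  have hyp : Hyp φ (⟨ρ, hρ⟩ : H) := by
    refine ⟨inj, hom, fun w => ?_, fun β => ?_, fun g hg x => ?_, hr⟩
    · obtain ⟨x, hx, e⟩ := sq _ (cV' _ (two (φ := φ) w))
      obtain ⟨y, rfl⟩ := cs x hx
      exact ⟨y, ci (by rw [cm, e])⟩
    · let e : W ≃ V := Equiv.ofBijective (fun w => ⟨c (φ w), cV' _ (two w)⟩)
        ⟨fun a b e => inj (ci (congrArg Subtype.val e)), fun x => by
          obtain ⟨w, hw⟩ := su x x.2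
          exact ⟨w, Subtype.ext hw⟩⟩
      have ea : ∀ a b, e (a + b) = e a * e b := fun a b => Subtype.ext (by
        change c (φ (a + b)) = c (φ a) * c (φ b)
        rw [map_add, cm])
      let α : MulAut V :=
        { toEquiv := e.symm.trans (β.toEquiv.trans e)
          map_mul' := fun a b => by
            obtain ⟨a, rfl⟩ := e.surjective a
            obtain ⟨b, rfl⟩ := e.surjective b
            rw [← ea]
            simp only [Equiv.toFun_as_coe, Equiv.trans_apply, Equiv.symm_apply_apply]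
            exact (congrArg e (map_add β a b)).trans (ea _ _) }
      obtain ⟨n, hn, en⟩ := gl.2 α
      refine ⟨⟨n, hn⟩, fun w => ci ?_⟩
      rw [sm]
      have := en (e w)
      have e2 : α (e w) = e (β w) := by simp [α]
      rw [e2] at this
      exact this
    · have : (g : G) ∈ centralizer (V : Set G) := mem_centralizer_iff.2 fun y hy => by
        obtain ⟨w, rfl⟩ := su y hy
        have := congrArg c (hg w)
        rw [sm] at this
        exact (mul_inv_eq_iff_eq_mul.1 this).symm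
      have := mem_centralizer_iff.1 (ker ⟨g.2, this⟩) _ (cT x)
      exact ci (by rw [sm, ← this]; group)
  have zp : ∀ y : G, y ∈ zpowers (c z) ↔ y = 1 ∨ y = c z := fun y => by
    constructor
    · rintro ⟨k, rfl⟩
      have := hV _ zV
      rcases Int.even_or_odd' k with ⟨k, rfl | rfl⟩
      · left; simp only [zpow_mul]; rw [zpow_two, this, one_zpow]
      · right; simp only [zpow_add, zpow_mul]; rw [zpow_two, this, one_zpow, one_mul, zpow_one]
    · rintro (rfl | rfl)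
      · exact one_mem _
      · exact mem_zpowers _
  have tz : ∀ j : H, TZ φ j ↔ Tz V (c z) j := fun j => by
    have key : ∀ w, (j • φ w = φ w ∨ j • φ w = φ w + φ e0) ↔
        j * c (φ w) * (j : G)⁻¹ * (c (φ w))⁻¹ ∈ zpowers (c z) := fun w => by
      rw [zp, mul_inv_eq_one, mul_inv_eq_iff_eq_mul (b := c (φ w)), ← sm, ← cm, ci.eq_iff,
        ci.eq_iff, p0, add_comm]
    refine ⟨fun h y hy => ?_, fun h w => (key w).2 (h _ (cV' _ (two w)))⟩
    obtain ⟨w, rfl⟩ := su y hy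
    exact (key w).1 (h w)
  have fx : ∀ (j : H) (x : Additive T), j • x = x ↔ j * c x = c x * j := fun j x => by
    rw [← ci.eq_iff, sm, mul_inv_eq_iff_eq_mul]
  obtain ⟨ζ, a1, a2, a3, a4, a5⟩ := hyp.core
  refine ⟨c ζ, cT ζ, by rw [← cm, a1, p0], (fx _ _).1 a2, fun j hj h => ?_, fun m hm h => ?_,
    fun m hm h => ?_⟩
  · exact (fx ⟨j, hj⟩ _).1 (a3 _ ((tz ⟨j, hj⟩).2 h))
  · have cn : c (-ζ) = (c ζ)⁻¹ := eq_inv_of_mul_eq_one_left (by rw [← cm, neg_add_cancel, c0])
    have key : ∀ n : H, n • φ e0 = φ e0 → ∀ y ∈ zpowers (c ζ), n * y * (n : G)⁻¹ ∈ zpowers (c ζ) := by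
      rintro n hn _ ⟨k, rfl⟩
      rw [← conj_zpow, ← sm]
      refine zpow_mem ?_ k
      rcases a4 n hn with e | e <;> rw [e]
      · exact mem_zpowers _
      · rw [cn]; exact inv_mem (mem_zpowers _)
    have hm' : (⟨m, hm⟩ : H) • φ e0 = φ e0 := by rw [p0]; exact (fx _ _).2 h
    refine mem_normalizer_iff.2 fun y => ⟨key _ hm' y, fun hy => ?_⟩
    have := key (⟨m, hm⟩ : H)⁻¹ (by rw [inv_smul_eq_iff, hm']) _ hy
    simpa [mul_assoc] using this
  · obtain ⟨k, hk⟩ := a5 ⟨m, hm⟩ ((fx _ _).2 h)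
    refine ⟨2 * k, ?_⟩
    have e : (ρ ^ (2 * k))⁻¹ = ρ ^ k := by
      rw [inv_eq_iff_mul_eq_one, ← pow_add, show 2 * k + k = 3 * k by ring, pow_mul, h3, one_pow]
    rw [e]
    simpa using (tz _).1 hk

end Cfsg.Agent.H81.Autb
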