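import Cfsg.Agent.H46.J1Defs

/-!
# The determinant on `4³`
-/

set_option autoImplicit false

namespace Cfsg.Agent.H81.Det

universe u

open Module

/-- the elements killed by `n` -/
def K (A : Type*) [AddCommGroup A] (n : ℕ) : AddSubgroup A where
  carrier := {x | n • x = 0}
  zero_mem' := smul_zero n
  add_mem' := fun {a b} (ha : n • a = 0) (hb : n • b = 0) => by
    change n • (a + b) = 0
    rw [smul_add, ha, hb, add_zero]
  neg_mem' := fun {a} (ha : n • a = 0) => by
    change n • (-a) = 0
    rw [smul_neg, ha, neg_zero]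

instance (A : Type*) [AddCommGroup A] (n : ℕ) [NeZero n] : Module (ZMod n) (K A n) :=
  AddCommGroup.zmodModule fun x => Subtype.ext x.2

variable {A : Type*} [AddCommGroup A]

theorem exists_basis [Finite A] (hc : Nat.card {x : A // x + x = 0} = 8) :
    ∃ v : Fin 3 → A, (∀ i, v i + v i = 0) ∧
      (∀ d : Fin 3 → ℤ, ∑ i, d i • v i = 0 → ∀ i, 2 ∣ d i) ∧
      ∀ x, x + x = 0 → ∃ d : Fin 3 → ℤ, x = ∑ i, d i • v i := by
  have h1 : Nat.card (K A 2) = 8 := by
    rw [← hc]
    exact Nat.card_congr (Equiv.subtypeEquivRight fun x => by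
      change 2 • x = 0 ↔ _
      rw [two_nsmul])
  have h2 : finrank (ZMod 2) (K A 2) = 3 := by
    have := Module.natCard_eq_pow_finrank (K := ZMod 2) (V := K A 2)
    rw [h1, Nat.card_zmod] at this
    exact (Nat.pow_right_injective le_rfl (this.symm.trans (by norm_num : 8 = 2 ^ 3)))
  let b := Module.finBasisOfFinrankEq (ZMod 2) (K A 2) h2
  refine ⟨fun i => b i, fun i => by rw [← two_nsmul]; exact (b i).2, fun d hd i => ?_,
    fun x hx => ?_⟩
  · have := Fintype.linearIndependent_iff.1 b.linearIndependent (fun i => (d i : ZMod 2)) (by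
      simp only [Int.cast_smul_eq_zsmul]
      exact Subtype.ext (by simpa using hd)) i
    exact (ZMod.intCast_zmod_eq_zero_iff_dvd _ 2).1 this
  · let y : K A 2 := ⟨x, by change 2 • x = 0; rw [two_nsmul, hx]⟩
    choose d hd using fun i => ZMod.intCast_surjective (b.repr y i)
    refine ⟨d, ?_⟩
    have := b.sum_repr y
    simp only [← hd, Int.cast_smul_eq_zsmul] at this
    simpa [y] using (congrArg Subtype.val this).symm

theorem basis4 [Finite A] (hc : Nat.card {x : A // x + x = 0} = 8)
    (sq : ∀ v : A, v + v = 0 → ∃ x, x + x = v) : Nonempty (Basis (Fin 3) (ZMod 4) (K A 4)) := by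
  obtain ⟨v, h0, h1, h2⟩ := exists_basis hc
  choose x hx using fun i => sq (v i) (h0 i)
  let y : Fin 3 → K A 4 := fun i => ⟨x i, by
    change 4 • x i = 0
    rw [← h0 i, ← hx i]; abel⟩
  have e2 : ∀ d : Fin 3 → ℤ, ∑ i, d i • v i = ∑ i, (2 * d i) • x i := fun d =>
    Finset.sum_congr rfl fun i _ => by rw [← hx i, two_mul, add_smul, smul_add]
  have e3 : ∀ d : Fin 3 → ℤ, ∑ i, d i • v i = ∑ i, d i • x i + ∑ i, d i • x i := fun d => by
    rw [← Finset.sum_add_distrib]
    exact Finset.sum_congr rfl fun i _ => by rw [← hx i, smul_add]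
  refine ⟨Basis.mk (v := y) (Fintype.linearIndependent_iff.2 fun g hg i => ?_) fun z _ => ?_⟩
  · choose d hd using fun i => ZMod.intCast_surjective (g i)
    simp only [← hd, Int.cast_smul_eq_zsmul] at hg
    have h3 : ∑ i, d i • x i = 0 := by simpa [y] using congrArg Subtype.val hg
    choose c hc using h1 d (by rw [e3, h3, add_zero])
    obtain ⟨k, hk⟩ := h1 c (by rw [e2]; simpa only [← hc] using h3) i
    rw [← hd, hc, hk, ← mul_assoc]
    exact (ZMod.intCast_zmod_eq_zero_iff_dvd _ 4).2 ⟨k, rfl⟩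
  · obtain ⟨d, hd⟩ := h2 (z + z) (by
      have : 4 • (z : A) = 0 := z.2
      rw [← this]; abel)
    obtain ⟨c, hc⟩ := h2 (z - ∑ i, d i • x i) (by rw [sub_add_sub_comm, hd, e3, sub_self])
    have : z = ∑ i, ((d i + 2 * c i : ℤ) : ZMod 4) • y i := by
      simp only [Int.cast_smul_eq_zsmul]
      refine Subtype.ext ?_
      rw [e2, sub_eq_iff_eq_add'] at hc
      simpa [y, add_smul, Finset.sum_add_distrib] using hc
    rw [this]
    exact Submodule.sum_mem _ fun i _ =>
      Submodule.smul_mem _ _ (Submodule.subset_span ⟨i, rfl⟩)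

/-- the restriction of an automorphism -/
def res (n : ℕ) [NeZero n] (α : A ≃+ A) : K A n ≃ₗ[ZMod n] K A n :=
  AddEquiv.toLinearEquiv
    { toFun := fun x => ⟨α x, by change n • α x = 0; rw [← map_nsmul, x.2, map_zero]⟩
      invFun := fun x => ⟨α.symm x, by change n • α.symm x = 0; rw [← map_nsmul, x.2, map_zero]⟩
      left_inv := fun x => Subtype.ext (α.symm_apply_apply x)
      right_inv := fun x => Subtype.ext (α.apply_symm_apply x)
      map_add' := fun x y => Subtype.ext (map_add α _ _) }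
    fun c x => ZMod.map_smul _ c x

open H46.S94 in
theorem det : DETStmt.{u} := by
  intro T _ _ hc sq
  obtain ⟨b⟩ := basis4 (A := Additive T) hc sq
  let f : MulAut T →* (K (Additive T) 4 ≃ₗ[ZMod 4] K (Additive T) 4) :=
    { toFun := fun α => res 4 (MulEquiv.toAdditive α)
      map_one' := LinearEquiv.ext fun _ => rfl
      map_mul' := fun _ _ => LinearEquiv.ext fun _ => rfl }
  refine ⟨LinearEquiv.det.comp f, Units.ext ?_⟩
  have e : (f (MulEquiv.inv T) : K (Additive T) 4 →ₗ[ZMod 4] K (Additive T) 4) = -LinearMap.id :=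
    LinearMap.ext fun _ => rfl
  rw [MonoidHom.comp_apply, LinearEquiv.coe_det, e, ← LinearMap.det_toMatrix b, map_neg,
    LinearMap.toMatrix_id, Matrix.det_neg]
  simp only [Fintype.card_fin, Matrix.det_one, mul_one]
  decide

end Cfsg.Agent.H81.Det
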