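import Cfsg.Agent.H56.ZCKit
import Cfsg.Agent.H96.CritTh

/-!
Two blocks through a point: the normaliser of a big block is strongly embedded in the centraliser
of the point, modulo the centre.
-/

set_option autoImplicit false

namespace Cfsg.Agent.H81.ZcSe

open Subgroup Cfsg.Agent.H56.FS Cfsg.Agent.H56.ZC Cfsg.Agent.H10
open scoped commutatorElement

universe u

section Quot

variable {G : Type u} [Group G] [Finite G]

/-- strongly embedded modulo the centre -/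
theorem se_mod (H M : Subgroup G) (hZ : center G ≤ M) (hMH : M ≤ H) (hne : ∃ g ∈ H, g ∉ M)
    {s₀ : G} (hs₀ : s₀ ∈ M) (hs₀Z : s₀ ∉ center G) (hs₀2 : s₀ * s₀ ∈ center G)
    (hse : ∀ t ∈ M, t ∉ center G → t * t ∈ center G → ∀ g ∈ H, g * t * g⁻¹ ∈ M → g ∈ M) :
    (∀ t ∈ M, t ∉ center G → t * t ∈ center G →
      ∃ m ∈ M, ∃ z ∈ center G, t = m * s₀ * m⁻¹ * z) ∧
    (∀ X : Subgroup G, X ≤ M → IsPGroup 2 X → ∀ s ∈ X, s * s ∈ center G → ∀ g ∈ X,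
      ⁅g, s⁆ ∈ center G) := by
  let N : Subgroup H := (center G).subgroupOf H
  let φ : H →* H ⧸ N := QuotientGroup.mk' N
  let M' : Subgroup (H ⧸ N) := (M.subgroupOf H).map φ
  have one : ∀ x : H, φ x = 1 ↔ (x : G) ∈ center G := fun x => by
    rw [QuotientGroup.mk'_apply, QuotientGroup.eq_one_iff]; rfl
  have eqv : ∀ x y : H, φ x = φ y → (x : G)⁻¹ * y ∈ center G := fun x y e => by
    have : φ (x⁻¹ * y) = 1 := by rw [map_mul, map_inv, e, inv_mul_cancel]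
    exact (one _).1 this
  have mem : ∀ x : H, φ x ∈ M' ↔ (x : G) ∈ M := fun x => by
    refine ⟨?_, fun hx => ⟨x, hx, rfl⟩⟩
    rintro ⟨y, hy, e⟩
    have := M.mul_mem (show (y : G) ∈ M from hy) (hZ (eqv y x e))
    rwa [mul_inv_cancel_left] at this
  have ord : ∀ x : H, orderOf (φ x) = 2 ↔ (x : G) ∉ center G ∧ (x : G) * x ∈ center G := fun x => by
    constructor
    · intro h2
      refine ⟨fun hx => ?_, ?_⟩
      · rw [(one x).2 hx, orderOf_one] at h2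
        exact absurd h2 (by decide)
      · have : φ (x * x) = 1 := by rw [map_mul, ← pow_two, ← h2, pow_orderOf_eq_one]
        exact (one _).1 this
    · rintro ⟨h1, h2⟩
      have : Fact (Nat.Prime 2) := ⟨Nat.prime_two⟩
      refine orderOf_eq_prime ?_ fun e => h1 ((one x).1 e)
      rw [pow_two, ← map_mul]
      exact (one (x * x)).2 h2
  have sur : ∀ q : H ⧸ N, ∃ x : H, φ x = q := QuotientGroup.mk'_surjective N
  have hS : Cfsg.IsStronglyEmbedded M' := by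
    refine SE.iff.2 ⟨?_, ⟨φ ⟨s₀, hMH hs₀⟩, (mem _).2 hs₀, (ord _).2 ⟨hs₀Z, hs₀2⟩⟩, ?_⟩
    · obtain ⟨g, hg, hgM⟩ := hne
      intro e
      exact hgM ((mem ⟨g, hg⟩).1 (e ▸ mem_top _))
    · intro t ht h2 g hg
      obtain ⟨t, rfl⟩ := sur t
      obtain ⟨g, rfl⟩ := sur g
      rw [← map_inv, ← map_mul, ← map_mul, mem] at hg
      obtain ⟨h3, h4⟩ := (ord t).1 h2
      exact (mem g).2 (hse t ((mem t).1 ht) h3 h4 g g.2 hg)
  refine ⟨fun t ht h1 h2 => ?_, fun X hX hp s hs h2 g hg => ?_⟩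
  · obtain ⟨m, hm, e⟩ := SE.exists_conj_mem hS ((mem ⟨s₀, hMH hs₀⟩).2 hs₀)
      ((ord _).2 ⟨hs₀Z, hs₀2⟩) ((mem ⟨t, hMH ht⟩).2 ht) ((ord _).2 ⟨h1, h2⟩)
    obtain ⟨m, rfl⟩ := sur m
    rw [← map_inv, ← map_mul, ← map_mul] at e
    refine ⟨m, (mem m).1 hm, _, eqv _ _ e, ?_⟩
    exact (mul_inv_cancel_left _ _).symm
  · by_cases h1 : s ∈ center G
    · have : ⁅g, s⁆ = 1 := commutatorElement_eq_one_iff_mul_comm.2 (mem_center_iff.1 h1 g)
      rw [this]; exact one_mem _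
    have hXH : X ≤ H := hX.trans hMH
    have hp' : IsPGroup 2 ((X.subgroupOf H).map φ) :=
      (hp.of_equiv (subgroupOfEquivOfLe hXH).symm).map φ
    have := H96.Crit.se_commute hS (X := (X.subgroupOf H).map φ)
      (by rintro _ ⟨y, hy, rfl⟩; exact (mem y).2 (hX hy)) hp'
      (s := φ ⟨s, hXH hs⟩) (g := φ ⟨g, hXH hg⟩) ⟨_, hs, rfl⟩ ((ord _).2 ⟨h1, h2⟩) ⟨_, hg, rfl⟩
    have e : φ ⁅(⟨g, hXH hg⟩ : H), ⟨s, hXH hs⟩⁆ = 1 := by
      rw [map_commutatorElement]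
      exact commutatorElement_eq_one_iff_mul_comm.2 this
    exact (one _).1 e

end Quot

section Main

variable {G : Type u} [Group G] [Finite G] {p : ℕ} {D : Set (Subgroup G)}

omit [Finite G] in
theorem conj_center {g x : G} : g * x * g⁻¹ ∈ center G ↔ x ∈ center G := by
  have := (inferInstance : (center G).Normal)
  refine ⟨fun h => ?_, fun h => this.conj_mem _ h g⟩
  simpa [mul_assoc] using this.conj_mem _ h g⁻¹

omit [Finite G] in
theorem Ce_mul_center {x z : G} (hz : z ∈ center G) : Ce (x * z) = Ce x := by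
  ext y
  rw [mem_Ce, mem_Ce, ← mul_assoc, mul_assoc x z y, ← mem_center_iff.1 hz y, ← mul_assoc,
    mul_left_inj]

omit [Finite G] in
theorem sv (h : Fx p D) {ζ : G} (hζ : Gz D ζ) : Sv D (Ce ζ) := by
  refine h.sol _ fun e => hζ.1 (mem_center_iff.2 fun g => ?_)
  exact mem_Ce.1 (e ▸ mem_top g : g ∈ Ce ζ)

omit [Finite G] in
theorem memE {ζ : G} (hζ : Gz D ζ) : ζ ∈ Ez D ζ :=
  ⟨hζ.2, le_Ce_iff.1 (LL_le _)⟩

omit [Finite G] in
theorem bk_cj (h : Fx p D) (g ζ : G) : cj g (Bk D ζ) = Bk D (g * ζ * g⁻¹) := by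
  rw [Bk, cj_LL h.inv, cj_Ce]

omit [Finite G] in
theorem gz_cj (h : Fx p D) {ζ : G} (hζ : Gz D ζ) (g : G) : Gz D (g * ζ * g⁻¹) := by
  refine ⟨fun e => hζ.1 (conj_center.1 e), ?_⟩
  rw [← cj_Ce, ← cj_RR h.inv]
  exact conj_mem_cj hζ.2

omit [Finite G] in
theorem small {ζ : G} (hb : ¬ Big D ζ) {g : G} (hg : g ∈ normalizer (Bk D ζ : Set G)) {e : G}
    (he : e ∈ Ez D ζ) : ⁅g, e⁆ ∈ center G := by
  by_cases h1 : e ∈ center G
  · have : ⁅g, e⁆ = 1 := commutatorElement_eq_one_iff_mul_comm.2 (mem_center_iff.1 h1 g)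
    rw [this]; exact one_mem _
  have key : ∀ x ∈ Ez D ζ, x ∉ center G → ζ * x ∈ center G := fun x hx hx' => by
    by_contra h2
    exact hb ⟨x, hx, hx', h2⟩
  have h2 := key e he h1
  have h3 := key _ ((mem_normalizer_iff.1 (norm_ZZ _ hg) e).1 he) fun e => h1 (conj_center.1 e)
  have h4 := conj_center (g := ζ⁻¹).2 (mul_mem h3 (inv_mem h2))
  have e4 : ⁅g, e⁆ = ζ⁻¹ * (ζ * (g * e * g⁻¹) * (ζ * e)⁻¹) * ζ⁻¹⁻¹ := by
    rw [commutatorElement_def]; group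
  rwa [e4]

theorem other (h : Fx p D) (h2 : Two D) (ζ : G) {A : Subgroup G} (hA : A ∈ D) :
    ∃ ζ₂, Gz D ζ₂ ∧ A ≤ Ce ζ₂ ∧ Bk D ζ ≠ Bk D ζ₂ := by
  obtain ⟨A₀, hA₀, ζ₁, ζ₂, g₁, g₂, l₁, l₂, hne⟩ := h2
  obtain ⟨u, -, rfl⟩ := h.toCl2.conj_pt_pair hA₀ hA
  by_cases e : Bk D ζ = Bk D (u * ζ₁ * u⁻¹)
  · refine ⟨_, gz_cj h g₂ u, cj_Ce u ζ₂ ▸ cj_mono u l₂, fun e' => hne ?_⟩
    rw [e, ← bk_cj h, ← bk_cj h] at e'
    exact cj_inj e'
  · exact ⟨_, gz_cj h g₁ u, cj_Ce u ζ₁ ▸ cj_mono u l₁, e⟩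

theorem big (od : OdStmt.{u}) (l : LStmt.{u}) (h : Fx p D) (h2 : Two D) {ζ : G} (hζ : Gz D ζ)
    (hb : Big D ζ) {A : Subgroup G} (hA : A ∈ D) (hAζ : A ≤ Ce ζ) :
    (∀ t ∈ centralizer (A : Set G) ⊓ normalizer (Bk D ζ : Set G), t ∉ center G →
      t * t ∈ center G → ∃ m ∈ centralizer (A : Set G) ⊓ normalizer (Bk D ζ : Set G),
        ∃ z ∈ center G, t = m * ζ * m⁻¹ * z) ∧
    (∀ X : Subgroup G, X ≤ centralizer (A : Set G) ⊓ normalizer (Bk D ζ : Set G) →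
      IsPGroup 2 X → ∀ s ∈ X, s * s ∈ center G → ∀ g ∈ X, ⁅g, s⁆ ∈ center G) := by
  have hζA : ζ ∈ centralizer (A : Set G) := le_Ce_iff.1 hAζ
  refine se_mod (centralizer (A : Set G)) _
    (le_inf (center_le_centralizer _) (center_le_normalizer _)) inf_le_left ?_
    ⟨hζA, mem_norm_LL_Ce h.inv (mem_Ce.2 rfl)⟩ hζ.1 ?_ ?_
  · obtain ⟨ζ₂, g₂, l₂, hne⟩ := other h h2 ζ hA
    obtain ⟨g, hg, z, hz, e⟩ := od G p D h ζ ζ₂ hζ g₂ A hA hAζ l₂ hne
    have hgA : g ∈ centralizer (A : Set G) := by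
      refine (closure_le _).2 ?_ hg
      rintro x (rfl | rfl)
      · exact hζA
      · exact le_Ce_iff.1 l₂
    refine ⟨g, hgA, fun hM => hne ?_⟩
    have := cj_eq_iff.2 hM.2
    rw [bk_cj h, e, Bk, Ce_mul_center hz] at this
    exact this.symm
  · rw [h.e2 _ (sv h hζ) ζ (memE hζ)]
    exact one_mem _
  · intro t ht h1 h3 g hg hM
    refine ⟨hg, cj_eq_iff.1 ?_⟩
    rw [bk_cj h]
    by_contra hne
    refine l G p D h ζ _ hζ (gz_cj h hζ g) A hA hAζ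
      (le_Ce_iff.2 (mul_mem (mul_mem hg hζA) (inv_mem hg))) (Ne.symm hne) hb (g * t * g⁻¹)
      (fun e => h1 (conj_center.1 e)) ?_ (le_Ce_iff.2 hM.1) hM.2 ?_
    · have := (conj_center (g := g)).2 h3
      convert this using 1
      group
    · rw [← bk_cj h, ← cj_eq_iff, cj_cj]
      have e : g * t * g⁻¹ * g = g * t := by group
      rw [e, ← cj_cj, cj_eq_iff.2 ht.2]

end Main

theorem se (od : OdStmt.{u}) (l : LStmt.{u}) : SeStmt.{u} := by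
  intro G _ _ p D h h2
  refine ⟨fun ζ hζ g hg hn e he => ?_, fun ζ hζ hb A hA hAζ t ht hAt hn => ?_⟩
  · by_cases hb : Big D ζ
    swap
    · exact small hb hn he
    have hs := sv h hζ
    obtain ⟨A, hA, hAζ⟩ := exists_pt_of_RR (D := D) (X := Ce ζ) fun e => hζ.1 (by
      have := hζ.2
      rw [e, mem_bot] at this
      rw [this]; exact one_mem _)
    have hl : cj g A ≤ Ce ζ := (cj_le_of_norm hn (le_LL hA hAζ)).trans (LL_le _)
    obtain ⟨ρ, hρ, eρ⟩ := h.toCl2.conj_pt hs hA hAζ (h.inv A hA g) hl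
    have hτ : ρ⁻¹ * g ∈ centralizer (A : Set G) := by
      refine h.eps A hA (cj_eq_iff.1 ?_)
      rw [← cj_cj, eρ, cj_inv_cj]
    have hτn : ρ⁻¹ * g ∈ normalizer (Bk D ζ : Set G) :=
      mul_mem (inv_mem (le_normalizer (RR_le _ hρ))) hn
    have hp : IsPGroup 2 ↥(zpowers g ⊔ RR D (Ce ζ)) := by
      refine IsPGroup.to_sup_of_normal_right' ?_ (h.pg _ hs) ?_
      · obtain ⟨k, hk⟩ := hg
        rintro ⟨_, n, rfl⟩
        refine ⟨k, Subtype.ext ?_⟩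
        simp only [SubgroupClass.coe_pow, OneMemClass.coe_one]
        rw [← zpow_natCast, ← zpow_mul, mul_comm, zpow_mul, zpow_natCast, hk, one_zpow]
      · exact (zpowers_le).2 (norm_RR _ hn)
    have heA : e ∈ centralizer (A : Set G) := centralizer_le (le_LL hA hAζ) he.2
    have key := (big od l h h2 hζ hb hA hAζ).2
      ((zpowers g ⊔ RR D (Ce ζ)) ⊓ (centralizer (A : Set G) ⊓ normalizer (Bk D ζ : Set G)))
      inf_le_right hp.to_inf_left e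
      ⟨mem_sup_right he.1, heA, le_normalizer (RR_le _ he.1)⟩
      (by rw [h.e2 _ hs e he]; exact one_mem _) (ρ⁻¹ * g)
      ⟨mul_mem (mem_sup_right (inv_mem hρ)) (mem_sup_left (mem_zpowers g)), hτ, hτn⟩
    have hc : ρ * e = e * ρ := ZZ_comm he (RR_le _ hρ)
    have h4 := (conj_center (g := ρ)).2 key
    have e4 : ⁅g, e⁆ = ρ * ⁅ρ⁻¹ * g, e⁆ * ρ⁻¹ := by
      rw [commutatorElement_def, commutatorElement_def]
      have : e⁻¹ = ρ * e⁻¹ * ρ⁻¹ := by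
        rw [eq_mul_inv_iff_mul_eq, inv_mul_eq_iff_eq_mul, ← mul_assoc, ← hc, mul_inv_cancel_right]
      calc g * e * g⁻¹ * e⁻¹ = g * e * g⁻¹ * (ρ * e⁻¹ * ρ⁻¹) := by rw [← this]
        _ = _ := by group
    rwa [e4]
  · by_cases h1 : t ∈ center G
    · exact ⟨1, one_mem _, t, h1, (one_mul t).symm⟩
    obtain ⟨m, hm, z, hz, e⟩ := (big od l h h2 hζ hb hA hAζ).1 t ⟨le_Ce_iff.1 hAt, hn⟩ h1 ht
    exact ⟨_, (mem_normalizer_iff.1 (norm_ZZ _ hm.2) ζ).1 (memE hζ), z, hz, e⟩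

end Cfsg.Agent.H81.ZcSe
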