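import Cfsg.Agent.H78.G40B

/-! Project L40G, piece NC1B: the graph involutions of `L₄(3)` of minus type. -/

set_option autoImplicit false

namespace Cfsg.Agent.H81.G40Nc1b

open Subgroup Matrix Cfsg.Agent.H78.G40

abbrev M4 : Type := Matrix (Fin 4) (Fin 4) (ZMod 3)

/-- a `(2, 3, 5)` pair preserving the form `h` -/
def Good (h p q : M4) : Prop :=
  p.det = 1 ∧ q.det = 1 ∧ p * h * pᵀ = h ∧ q * h * qᵀ = h ∧ p ≠ 1 ∧ p ≠ -1 ∧ p * p = 1 ∧
    q * q * q = 1 ∧ p * q * (p * q) * (p * q) * (p * q) * (p * q) = 1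

instance instDec (h p q : M4) : Decidable (Good h p q) := by unfold Good; infer_instance

def LL : List (M4 × M4) :=
  [(!![2, 0, 0, 0; 0, 1, 0, 0; 0, 0, 0, 1; 0, 0, 1, 0], !![2, 1, 1, 2; 1, 1, 0, 2; 1, 0, 1, 2; 1, 1, 1, 0]),
   (!![0, 0, 1, 0; 0, 2, 0, 0; 1, 0, 0, 0; 0, 0, 0, 1], !![0, 1, 1, 1; 2, 2, 1, 1; 2, 1, 1, 0; 2, 1, 0, 1]),
   (!![0, 0, 0, 1; 0, 1, 0, 0; 0, 0, 2, 0; 1, 0, 0, 0], !![0, 1, 1, 1; 2, 1, 1, 0; 2, 1, 2, 1; 2, 0, 1, 1]),
   (!![0, 0, 1, 0; 0, 1, 0, 0; 1, 0, 0, 0; 0, 0, 0, 2], !![0, 1, 1, 1; 2, 1, 0, 1; 2, 0, 1, 1; 2, 1, 1, 2])]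

theorem eqns : True := by
  have := @Good.eq_1
  have := @LL.eq_1
  trivial

theorem diag : ∀ a b c e : ZMod 3, a * b * c * e = -1 →
    ∃ x ∈ LL, Good (diagonal ![a, b, c, e]) x.1 x.2 := by decide +kernel

theorem Good.cong {h p q R S : M4} (hRS : R * S = 1) (hSR : S * R = 1)
    (g : Good (R * h * Rᵀ) p q) : Good h (S * p * R) (S * q * R) := by
  obtain ⟨g1, g2, g3, g4, g5, g6, g7, g8, g9⟩ := g
  have hd : S.det * R.det = 1 := by rw [← det_mul, hSR, det_one]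
  have ht : Rᵀ * Sᵀ = 1 := by rw [← transpose_mul, hSR, transpose_one]
  have m : ∀ x y : M4, S * x * R * (S * y * R) = S * (x * y) * R := fun x y => by
    calc _ = S * x * (R * S) * y * R := by simp only [mul_assoc]
      _ = _ := by rw [hRS]; simp only [mul_assoc, mul_one, one_mul]
  have d : ∀ x : M4, x.det = 1 → (S * x * R).det = 1 := fun x hx => by
    rw [det_mul, det_mul, hx, mul_one, hd]
  have f : ∀ x : M4, x * (R * h * Rᵀ) * xᵀ = R * h * Rᵀ → S * x * R * h * (S * x * R)ᵀ = h :=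
    fun x hx => by
      calc _ = S * (x * (R * h * Rᵀ) * xᵀ) * Sᵀ := by simp only [transpose_mul, mul_assoc]
        _ = S * R * h * (Rᵀ * Sᵀ) := by rw [hx]; simp only [mul_assoc]
        _ = h := by rw [hSR, ht, one_mul, mul_one]
  have b : R * (S * p * R) * S = p := by
    calc _ = R * S * p * (R * S) := by simp only [mul_assoc]
      _ = p := by rw [hRS, one_mul, mul_one]
  refine ⟨d p g1, d q g2, f p g3, f q g4, fun e => g5 ?_, fun e => g6 ?_, ?_, ?_, ?_⟩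
  · rw [← b, e, mul_one, hRS]
  · rw [← b, e, mul_neg, mul_one, neg_mul, hRS]
  · rw [m, g7, mul_one, hSR]
  · rw [m, m, g8, mul_one, hSR]
  · rw [m, m, m, m, m, g9, mul_one, hSR]

theorem two_two : (2 : ZMod 3) * 2 = 1 := by decide

theorem sq_neg : ∀ x y : ZMod 3, x * y = 1 → x * -1 * x = -1 := by decide

theorem symm_case {h : M4} (hs : hᵀ = h) (hd : h.det = -1) : ∃ p q, Good h p q := by
  haveI : Invertible (2 : ZMod 3) := ⟨2, two_two, two_two⟩
  have hsy : (Matrix.toBilin' h).IsSymm := Matrix.isSymm_toBilin'_iff_isSymm.2 hs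
  obtain ⟨v0, hv0⟩ := LinearMap.BilinForm.exists_orthogonal_basis
    (B := Matrix.toBilin' h) ⟨fun x y => hsy.eq x y⟩
  have hf : Module.finrank (ZMod 3) (Fin 4 → ZMod 3) = 4 := by simp
  let v := v0.reindex (finCongr hf)
  have hv : ∀ i j, i ≠ j → v i ⬝ᵥ h *ᵥ v j = 0 := fun i j hij => by
    rw [← Matrix.toBilin'_apply']
    simp only [v, Module.Basis.reindex_apply]
    exact hv0 fun e => hij ((finCongr hf).symm.injective e)
  let R : M4 := Matrix.of fun i j => v i j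
  have hR : IsUnit R := by
    rw [← Matrix.linearIndependent_rows_iff_isUnit]
    exact v.linearIndependent
  obtain ⟨S, hRS, hSR⟩ : ∃ S, R * S = 1 ∧ S * R = 1 := by
    obtain ⟨u, hu⟩ := hR
    exact ⟨↑u⁻¹, by rw [← hu, Units.mul_inv], by rw [← hu, Units.inv_mul]⟩
  have he : ∀ i j, (R * h * Rᵀ) i j = v i ⬝ᵥ h *ᵥ v j := fun i j => by
    rw [Matrix.mul_assoc]
    rfl
  set D := R * h * Rᵀ with hD
  have hD2 : D = diagonal ![D 0 0, D 1 1, D 2 2, D 3 3] := by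
    ext i j
    by_cases e : i = j
    · subst e
      fin_cases i <;> rfl
    · rw [diagonal_apply_ne _ e, he, hv i j e]
  have hdet : D.det = -1 := by
    have h1 : R.det * S.det = 1 := by rw [← det_mul, hRS, det_one]
    rw [hD, det_mul, det_mul, det_transpose, hd]
    exact sq_neg _ _ h1
  rw [hD2, det_diagonal, Fin.prod_univ_four] at hdet
  obtain ⟨x, -, hx⟩ := diag (D 0 0) (D 1 1) (D 2 2) (D 3 3) hdet
  rw [← hD2] at hx
  exact ⟨_, _, hx.cong hRS hSR⟩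

theorem alt_case {h : M4} (hs : hᵀ = -h) : h.det ≠ -1 := by
  have e : ∀ i j, h j i = -h i j := fun i j => congrFun (congrFun hs i) j
  have z : ∀ i, h i i = 0 := fun i => by
    have := e i i
    revert this
    generalize h i i = x
    revert x
    decide
  have h1 : h = !![0, h 0 1, h 0 2, h 0 3; -h 0 1, 0, h 1 2, h 1 3; -h 0 2, -h 1 2, 0, h 2 3;
      -h 0 3, -h 1 3, -h 2 3, 0] := by
    ext i j
    fin_cases i <;> fin_cases j <;> first | rfl | exact z _ | exact e _ _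
  have h2 : h.det = (h 0 1 * h 2 3 - h 0 2 * h 1 3 + h 0 3 * h 1 2) ^ 2 := by
    conv_lhs => rw [h1]
    simp [det_succ_row_zero, Fin.sum_univ_succ, Fin.succAbove]
    ring
  rw [h2]
  generalize h 0 1 * h 2 3 - h 0 2 * h 1 3 + h 0 3 * h 1 2 = x
  revert x
  decide

theorem itr_mul {n R : Type} [Fintype n] [DecidableEq n] [CommRing R]
    (w : SpecialLinearGroup n R) : (itr n R w).1 * w.1ᵀ = 1 := by
  change (w⁻¹).1ᵀ * w.1ᵀ = 1
  have k : w.1 * (w⁻¹).1 = 1 := congrArg Subtype.val (mul_inv_cancel w)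
  rw [← transpose_mul, k, transpose_one]

theorem T1_val (y : SL4) : (T1 y).1 = d4 * y.1 * d4 := rfl

theorem dt : d4ᵀ = d4 := by decide

theorem act (y : SL4) : (θ1 * τ1) (mk1 y) = mk1 (itr (Fin 4) (ZMod 3) (T1 y)) := rfl

theorem key (y : SL4) : (itr (Fin 4) (ZMod 3) (T1 y)).1 * (d4 * y.1ᵀ * d4) = 1 := by
  have k := itr_mul (T1 y)
  rwa [T1_val, transpose_mul, transpose_mul, dt, ← Matrix.mul_assoc d4] at k

theorem val_mul (x y : SL4) : (x * y).1 = x.1 * y.1 := rfl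

theorem nc1b : Nc1bS := by
  intro x hx
  obtain ⟨g, rfl⟩ := QuotientGroup.mk'_surjective (center SL4) x
  change mk1 g * (θ1 * τ1) (mk1 g) = 1 at hx
  rw [act, ← map_mul, ← map_one mk1, mk1_eq] at hx
  have hdet : (g.1 * d4).det = -1 := by
    rw [det_mul, g.2, one_mul]
    decide
  have ht : (g.1 * d4)ᵀ = d4 * g.1ᵀ := by rw [transpose_mul, dt]
  have hg : g.1 * d4 = (g * itr (Fin 4) (ZMod 3) (T1 g)).1 * (d4 * g.1ᵀ) := by
    rw [val_mul]
    calc g.1 * d4 = g.1 * ((itr (Fin 4) (ZMod 3) (T1 g)).1 * (d4 * g.1ᵀ * d4)) * d4 := by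
          rw [key, mul_one]
      _ = g.1 * (itr (Fin 4) (ZMod 3) (T1 g)).1 * (d4 * g.1ᵀ) * (d4 * d4) := by
          simp only [mul_assoc]
      _ = _ := by rw [d4_sq, mul_one]
  rcases hx with hx | hx
  swap
  · refine absurd hdet (alt_case ?_)
    rw [ht, hg, hx]
    simp
  obtain ⟨p, q, g1, g2, g3, g4, g5, g6, g7, g8, g9⟩ := symm_case (h := g.1 * d4)
    (by rw [ht, hg, hx]; simp) hdet
  have fix : ∀ y : SL4, y.1 * (g.1 * d4) * y.1ᵀ = g.1 * d4 →
      (MulAut.conj (mk1 g) * (θ1 * τ1)) (mk1 y) = mk1 y := fun y hy => by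
    change mk1 g * (θ1 * τ1) (mk1 y) * (mk1 g)⁻¹ = mk1 y
    rw [act, mul_inv_eq_iff_eq_mul, ← map_mul, ← map_mul]
    refine congrArg mk1 (Subtype.ext ?_)
    rw [val_mul, val_mul]
    have k := mul_eq_one_comm.1 (key y)
    calc g.1 * (itr (Fin 4) (ZMod 3) (T1 y)).1
        = g.1 * d4 * d4 * (itr (Fin 4) (ZMod 3) (T1 y)).1 := by
          rw [mul_assoc g.1 d4, d4_sq, mul_one]
      _ = y.1 * (g.1 * d4) * y.1ᵀ * d4 * (itr (Fin 4) (ZMod 3) (T1 y)).1 := by rw [hy]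
      _ = y.1 * g.1 * (d4 * y.1ᵀ * d4 * (itr (Fin 4) (ZMod 3) (T1 y)).1) := by
          simp only [mul_assoc]
      _ = _ := by rw [k, mul_one]
  let P : SL4 := ⟨p, g1⟩
  let Q : SL4 := ⟨q, g2⟩
  refine .inr ⟨mk1 P, mk1 Q, 5, .inl rfl, ?_, ?_, ?_, ?_, fix P g3, fix Q g4⟩
  · rw [← map_one mk1, Ne, mk1_eq]
    rintro (e | e)
    exacts [g5 e, g6 e]
  · rw [← map_mul, show P * P = 1 from Subtype.ext g7, map_one]
  · rw [← map_pow, show Q ^ 3 = 1 by rw [pow_three']; exact Subtype.ext g8, map_one]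
  · rw [← map_mul, ← map_pow, show (P * Q) ^ 5 = 1 by
      simp only [pow_succ, pow_zero, one_mul]; exact Subtype.ext g9, map_one]

end Cfsg.Agent.H81.G40Nc1b
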