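import Cfsg.Agent.H75.FkChev
import Cfsg.Agent.H81.FkOrd

/-!
# The frames of `F₄(q)` and `E₆(q)`, `q` odd
-/

set_option autoImplicit false

namespace Cfsg.Agent.H81.Fk

open Equiv Subgroup Cfsg.Lie Cfsg.Agent.H37 Cfsg.Agent.H34 Cfsg.Agent.H34.Split Cfsg.Agent.H40
open Cfsg.Agent.H37.FK Cfsg.Agent.H75.FkChev

/-- generators of a dihedral group of order 8 -/
def σ4 : Fin 2 → Perm (Fin 4) := ![swap 0 1, swap 0 2 * swap 1 3]

/-- its central involution -/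
def c4 : Perm (Fin 4) := swap 0 1 * swap 2 3

theorem mem4 (π : Perm (Fin 4)) : π ∈ closure (Set.range σ4) ↔ π * c4 = c4 * π := by
  constructor
  · intro h
    refine mem_centralizer_singleton_iff.1
      ((closure_le (K := centralizer {c4})).2 ?_ h)
    rintro _ ⟨j, rfl⟩
    exact mem_centralizer_singleton_iff.2 (by revert j; decide)
  · intro h
    have a : σ4 0 ∈ closure (Set.range σ4) := subset_closure ⟨0, rfl⟩
    have b : σ4 1 ∈ closure (Set.range σ4) := subset_closure ⟨1, rfl⟩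
    have : π = 1 ∨ π = σ4 0 ∨ π = σ4 1 ∨ π = σ4 0 * σ4 1 ∨ π = σ4 1 * σ4 0 ∨
        π = σ4 0 * σ4 1 * σ4 0 ∨ π = σ4 1 * σ4 0 * σ4 1 ∨ π = σ4 0 * σ4 1 * σ4 0 * σ4 1 := by
      revert h; revert π; decide +kernel
    rcases this with rfl | rfl | rfl | rfl | rfl | rfl | rfl | rfl <;>
      apply_rules [one_mem, mul_mem]

theorem card4 : Nat.card (closure (Set.range σ4)) = 8 := by
  rw [Nat.card_congr (Equiv.subtypeEquivRight mem4), Nat.card_eq_fintype_card]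
  decide +kernel

theorem two4 : IsPGroup 2 (closure (Set.range σ4)) := IsPGroup.of_card (n := 3) card4

theorem f34 (π : Perm (Fin 4)) (ho : Odd (orderOf π))
    (h : ∀ x ∈ closure (Set.range σ4), π * x * π⁻¹ ∈ closure (Set.range σ4)) : π = 1 := by
  have h1 := (mem4 _).1 (h _ (subset_closure ⟨0, rfl⟩))
  have h2 : π ^ 2 ^ 2 = 1 := by clear ho h; revert h1; revert π; decide +kernel
  exact orderOf_eq_one_iff.1 (Nat.Coprime.eq_one_of_dvd
    (Nat.Coprime.pow_right _ (Nat.coprime_two_right.2 ho)) (orderOf_dvd_of_pow_eq_one h2))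

/-- long roots -/
def LgT (T : Tab) (r : ℕ) : Prop := ∀ k < T.n, 2 ≤ T.pair r k → k = r

noncomputable instance (T : Tab) (r : ℕ) : Decidable (LgT T r) := by unfold LgT; infer_instance

/-- roots with an injective `SL₂` -/
def GdT (T : Tab) (r : ℕ) : Prop := T.Pos r ∧ ∃ s < T.n, T.pair r s = 1

noncomputable instance (T : Tab) (r : ℕ) : Decidable (GdT T r) := by unfold GdT; infer_instance

/-- orthogonality, coordinates, masks -/
def Chk1 (T : Tab) (a : Fin 4 → ℕ) (RC : Fin 4 → List ℤ) : Prop :=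
  (∀ i, LgT T (a i)) ∧ (∀ i j, i ≠ j → T.pair (a i) (a j) = 0) ∧
  (∀ i, ∀ j < T.l, sumLt (fun l => (RC i).getD l 0 * T.ca j (T.si l)) T.l = T.ca j (a i)) ∧
  ∀ m < 2 ^ T.l, (∀ i, sumLt (fun l => if m.testBit l then (RC i).getD l 0 else 0) T.l % 2 = 0) →
    ∃ S : Finset (Fin 4), ∀ l < T.l,
      (∑ i ∈ S, T.pair (a i) (T.si l)) % 2 = if m.testBit l then 1 else 0

noncomputable instance (T : Tab) (a : Fin 4 → ℕ) (RC : Fin 4 → List ℤ) :
    Decidable (Chk1 T a RC) := by unfold Chk1; infer_instance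

/-- the permuting elements -/
def Chk2 (T : Tab) (a : Fin 4 → ℕ) (L : Fin 2 → List ℕ) : Prop :=
  (∀ j, (L j).Pairwise fun r s => T.pair r s = 0 ∧ LgT T r) ∧
  (∀ j i, (∀ l < T.l, T.ca l (a i) - ((L j).map fun b => T.pair b (a i) * T.ca l b).sum =
      T.ca l (a (σ4 j i))) ∨
    ∀ l < T.l, T.ca l (a i) - ((L j).map fun b => T.pair b (a i) * T.ca l b).sum =
      -T.ca l (a (σ4 j i))) ∧
  ∀ i, ∀ t ∈ List.ofFn a ++ L 0 ++ L 1,
    GdT T t ∧ ∃ u < T.n, T.pair (a i) u % 2 = 1 ∧ T.pair u t % 2 = 1 ∧ GdT T u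

noncomputable instance (T : Tab) (a : Fin 4 → ℕ) (L : Fin 2 → List ℕ) :
    Decidable (Chk2 T a L) := by unfold Chk2; infer_instance

/-- the involutions -/
def Chk3 (T : Tab) (ng : ℕ → ℕ) (a : Fin 4 → ℕ) : Prop :=
  (∀ i, ∃ s < T.n, T.pair s (a i) = 1) ∧
  (∀ i j, i ≠ j → ∃ k < T.n, T.pair (a i) k % 2 ≠ T.pair (a j) k % 2) ∧
  ∀ s < T.n, T.pair (a 0) s % 2 = 0 → s = a 0 ∨ s = ng (a 0) ∨ (T.pair s (a 0) = 0 ∧
    ∃ k < T.n, T.pair (a 0) k % 2 = 0 ∧ k ≠ s ∧ k ≠ ng s ∧ T.pair k s ≠ 0)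

noncomputable instance (T : Tab) (ng : ℕ → ℕ) (a : Fin 4 → ℕ) :
    Decidable (Chk3 T ng a) := by unfold Chk3; infer_instance

variable {D : ChevalleyDatum} (C : Cert D)

theorem tp (r s : Fin D.nroots) : (tabOf D).pair r s = C.R.pair r s :=
  (tab_pair r s).trans (H40.pair_eq C r s).symm

theorem LgT.lg {r : Fin D.nroots} (h : LgT (tabOf D) r) : Lg C r := fun k hk =>
  Fin.ext (h k k.2 (by rwa [tp C]))

theorem GdT.gd {r : Fin D.nroots} (h : GdT (tabOf D) r) : Gd C r :=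
  let ⟨s, hs, e⟩ := h.2
  ⟨(tab_pos C r).1 h.1, ⟨s, hs⟩, (tp C r ⟨s, hs⟩).symm.trans e⟩

include C in
theorem frame4 {F : Type} [Field F] [Fintype F] (hF : Odd (Fintype.card F))
    (a : Fin 4 → Fin D.nroots) (L : Fin 2 → List (Fin D.nroots)) (RC : Fin 4 → List ℤ)
    (h1 : Chk1 (tabOf D) (fun i => a i) RC)
    (h2 : Chk2 (tabOf D) (fun i => a i) fun j => (L j).map Fin.val)
    (h3 : Chk3 (tabOf D) D.neg fun i => a i)
    (card : ∀ e : ℕ, 2 ^ e ∣ Nat.card (D.group F) →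
      2 ^ e ∣ Nat.card (D.diagonalSubgroup F) * (Fintype.card F + 1) ^ 4 * 8) :
    HasFrame (D.group F) := by
  have two := two_ne_zero_of_odd (F := F) (by rwa [Nat.card_eq_fintype_card])
  obtain ⟨lg, so, rc, hm⟩ := h1
  obtain ⟨hL, hσ, rch⟩ := h2
  obtain ⟨f7, zi, cz0⟩ := h3
  have erc : ∀ i, C.R.rc (a i) = fun l : Fin D.rank => (RC i).getD l 0 := fun i =>
    sub_eq_zero.1 (C.wtv_inj _ fun j => by
      rw [map_sub, sub_eq_zero, ← RS.wt, C.wt_eq, RS.wtv_apply]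
      refine (rc i j j.2).symm.trans ((sumLt_fin _ D.rank).trans ?_)
      exact Finset.sum_congr rfl fun (l : Fin D.rank) _ => congrArg _ (C.A_eq j l).symm)
  have hL' : ∀ j, (L j).Pairwise (SO C) := fun j =>
    (List.pairwise_map.1 (hL j)).imp fun {r s} h => ⟨(tp C r s).symm.trans h.1, .inl (h.2.lg C)⟩
  have hσ' : ∀ j i, wL C (L j) (a i) = a (σ4 j i) ∨ wL C (L j) (a i) = C.R.neg (a (σ4 j i)) := by
    intro j i
    have e : ∀ l : Fin D.rank, C.R.wt (a i) l - ((L j).map fun b => C.R.pair b (a i) * C.R.wt b l).sum =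
        (tabOf D).ca l (a i) - (((L j).map Fin.val).map fun b =>
          (tabOf D).pair b (a i) * (tabOf D).ca l b).sum := fun l => by
      rw [List.map_map, C.wt_eq]
      congr 2
      exact List.map_congr_left fun b _ => by rw [Function.comp, tp C, C.wt_eq]; rfl
    refine (hσ j i).imp (fun h => wL_eq ((hL' j).imp fun h => h.1) fun l => ?_)
      fun h => wL_eq ((hL' j).imp fun h => h.1) fun l => ?_
    · rw [e, h l l.2, C.wt_eq]; rfl
    · rw [e, h l l.2, C.R.wt_neg, C.wt_eq]; rfl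
  have mp : ∀ j i, ∃ g, Maps g (φ C F (a i)).range (φ C F (a (σ4 j i))).range := fun j i =>
    ⟨_, maps_J (nL_mem (L j)) (by rw [ν_nL]; exact hσ' j i)⟩
  have m0 : ∀ i, ∃ g, Maps g (φ C F (a 0)).range (φ C F (a i)).range := fun i => by
    fin_cases i
    · exact ⟨1, fun x => by simp⟩
    · exact mp 0 0
    · exact mp 1 0
    · obtain ⟨g, hg⟩ := mp 0 0
      obtain ⟨g', hg'⟩ := mp 1 1
      exact ⟨_, maps_trans hg hg'⟩
  refine hasFrame hF (by decide) a L σ4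
    (fun i j h => ⟨(tp C _ _).symm.trans (so i j h), .inl ((lg i).lg C)⟩) (fun μ hμ => ?_) hL' hσ'
    (fun i t ht => ?_) (fun i => ?_) two4 f34 (fun e he => card4 ▸ card e he)
    (.inl ⟨fun i j e => by_contra fun h => ?_, fun i j => ?_, 0, cz two (fun s hs => ?_) fun s hs => ?_⟩)
  · have tb : ∀ l : Fin D.rank, (Nat.ofBits μ).testBit l = μ l := fun l => by simp
    obtain ⟨S, hS⟩ := hm (Nat.ofBits μ) (Nat.ofBits_lt_two_pow μ) fun i => by
      have := Int.even_iff.1 (hμ i)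
      rw [erc] at this
      refine (congrArg (· % 2) ((sumLt_fin _ D.rank).trans ?_)).trans this
      exact Finset.sum_congr rfl fun (l : Fin D.rank) _ => by rw [tb]
    refine ⟨S, fun l => ?_⟩
    rw [← tb, ← hS l l.2]
    congr 1
    exact Finset.sum_congr rfl fun i _ => by rw [← tp C, C.simple_val]; rfl
  · obtain ⟨g, u, hu, p1, p2, p3⟩ := rch i t (by
      rcases ht with ⟨k, rfl⟩ | ⟨j, hj⟩
      · exact List.mem_append_left _ (List.mem_append_left _ (List.mem_ofFn.2 ⟨k, rfl⟩))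
      · fin_cases j
        · exact List.mem_append_left _ (List.mem_append_right _ (List.mem_map_of_mem hj))
        · exact List.mem_append_right _ (List.mem_map_of_mem hj))
    exact ⟨g.gd C, ⟨u, hu⟩, GdT.gd C p3, Int.odd_iff.2 (tp C (a i) ⟨u, hu⟩ ▸ p1),
      Int.odd_iff.2 (tp C ⟨u, hu⟩ t ▸ p2)⟩
  · obtain ⟨s, hs, e⟩ := f7 i
    exact ⟨⟨s, hs⟩, (tp C ⟨s, hs⟩ _).symm.trans e⟩
  · obtain ⟨k, hk, e'⟩ := zi i j h
    exact z_ne two (k := ⟨k, hk⟩) (by rw [← tp C, ← tp C]; exact e') e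
  · obtain ⟨g, hg⟩ := m0 i
    obtain ⟨g', hg'⟩ := m0 j
    exact ⟨_, maps_trans (maps_symm hg) hg'⟩
  · rcases cz0 s s.2 (by rw [tp C]; exact Int.even_iff.1 hs) with e | e | ⟨e, -⟩
    · exact .inl (Fin.ext e)
    · exact .inr (.inl (Fin.ext (e.trans (C.neg_val _).symm)))
    · exact .inr (.inr ⟨(tp C _ _).symm.trans e, .inr ((lg 0).lg C)⟩)
  · rcases cz0 s s.2 (by rw [tp C]; exact Int.even_iff.1 hs) with e | e | ⟨-, k, hk, e1, e2, e3, e4⟩
    · exact .inl (Fin.ext e)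
    · exact .inr (.inl (Fin.ext (e.trans (C.neg_val _).symm)))
    · refine .inr (.inr (.inr ⟨⟨k, hk⟩, Int.even_iff.2 (tp C (a 0) ⟨k, hk⟩ ▸ e1),
        fun e => e2 (congrArg Fin.val e), fun e => e3 ((congrArg Fin.val e).trans (C.neg_val s)),
        tp C ⟨k, hk⟩ s ▸ e4⟩))

theorem f4 : F4Stmt := fun F _ _ hF =>
  frame4 (cert (by simp)) hF
    ![⟨24, by decide⟩, ⟨32, by decide⟩, ⟨43, by decide⟩, ⟨45, by decide⟩]
    ![[⟨28, by decide⟩], [⟨25, by decide⟩, ⟨41, by decide⟩]]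
    ![[0, 0, 0, 1], [0, 2, 2, 1], [2, 2, 2, 1], [2, 4, 2, 1]]
    (by rw [tabOf_eq validF4]; decide +kernel) (by rw [tabOf_eq validF4]; decide +kernel)
    (by rw [tabOf_eq validF4]; decide +kernel) (f4_two F hF)

theorem e6 : E6Stmt := fun F _ _ hF =>
  frame4 (cert (by simp)) hF
    ![⟨36, by decide⟩, ⟨39, by decide⟩, ⟨56, by decide⟩, ⟨71, by decide⟩]
    ![[⟨37, by decide⟩, ⟨41, by decide⟩], [⟨51, by decide⟩, ⟨63, by decide⟩]]
    ![[0, 0, 0, 0, 0, 1], [0, 0, 0, 1, 0, 0], [1, 0, 0, 0, 0, 0], [1, 2, 2, 3, 2, 1]]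
    (by rw [tabOf_eq validE6]; decide +kernel) (by rw [tabOf_eq validE6]; decide +kernel)
    (by rw [tabOf_eq validE6]; decide +kernel) (e6_two F hF)

end Cfsg.Agent.H81.Fk
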