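import Cfsg.Agent.H76.K4Defs

/-! Project K4, piece DATA. -/

set_option autoImplicit false

namespace Cfsg.Agent.H81.K4Data

open Cfsg Cfsg.Agent.H17 Cfsg.Agent.H23.SecT Cfsg.Agent.H23.KL Cfsg.Agent.H76.K4
open scoped Classical ComplexConjugate

universe u

theorem nu_conj {G : Type u} [Group G] [Fintype G] (χ : IrrCharacter G) :
    nu (H19.galIrr starRingAut χ) = conj (nu χ) := by
  rw [nu, nu, map_mul, map_sum, map_inv₀, map_natCast]
  rfl

theorem conj_conj {G : Type u} [Group G] [Fintype G] (χ : IrrCharacter G) :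
    H19.galIrr starRingAut (H19.galIrr starRingAut χ) = χ :=
  Subtype.ext (funext fun g => Complex.conj_conj (χ.1 g))

theorem aux {G : Type u} [Group G] [Fintype G] {u : G} {a m : IrrCharacter G → ℤ}
    (ha : ∀ χ : IrrCharacter G, χ.1 u = a χ) {q : ℤ} {c1 c2 c3 : IrrCharacter G}
    (h13 : c1 ≠ c3) (h23 : c2 ≠ c3)
    (h3 : H19.galIrr starRingAut c3 = c1 ∨ H19.galIrr starRingAut c3 = c2 ∨
      H19.galIrr starRingAut c3 = c3)
    (e : H19.galIrr starRingAut c1 = c2) (n1 : nu c1 = 0)
    (k1 : q = 1 + a c1 ^ 2 + a c2 ^ 2 + a c3 ^ 2)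
    (k2 : a c1 * m c1 + a c2 * m c2 + a c3 * m c3 = -1)
    (k3 : a c1 * nu c1 + a c2 * nu c2 + a c3 * nu c3 = 0) : q = 3 := by
  have n2 : nu c2 = 0 := by rw [← e, nu_conj, n1, map_zero]
  have e3 : H19.galIrr starRingAut c3 = c3 := by
    rcases h3 with h | h | h
    · exact absurd (by rw [← e, ← h, conj_conj]) h23
    · refine absurd ?_ h13
      rw [← conj_conj c1, e, ← h, conj_conj]
    · exact h
  have a12 : a c1 = a c2 := by
    have : conj (c1.1 u) = c2.1 u := congrFun (congrArg Subtype.val e) u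
    rw [ha, ha, map_intCast] at this
    exact_mod_cast this
  rw [n1, n2, mul_zero, mul_zero, zero_add, zero_add] at k3
  have a3 : a c3 = 0 := by
    obtain ⟨r, hr, hr'⟩ := nu_cases c3
    rw [hr] at k3
    rcases hr' with ⟨-, h⟩ | rfl | rfl
    · exact absurd e3 h
    · simpa using k3
    · simpa using k3
  rw [a3, ← a12] at k1 k2
  have : a c1 ∣ 1 := ⟨-(m c1 + m c2), by linear_combination k2⟩
  rcases Int.isUnit_iff.mp (isUnit_of_dvd_one this) with h | h <;> rw [k1, h] <;> norm_num

theorem p132 {a b c : Prop} (h : a ∨ b ∨ c) : a ∨ c ∨ b := by tauto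
theorem p213 {a b c : Prop} (h : a ∨ b ∨ c) : b ∨ a ∨ c := by tauto
theorem p231 {a b c : Prop} (h : a ∨ b ∨ c) : b ∨ c ∨ a := by tauto
theorem p312 {a b c : Prop} (h : a ∨ b ∨ c) : c ∨ a ∨ b := by tauto
theorem p321 {a b c : Prop} (h : a ∨ b ∨ c) : c ∨ b ∨ a := by tauto

theorem data (set : SetStmt.{u}) : DataStmt.{u} := by
  intro G _ _ p _ M hM hk hl P
  letI := Fintype.ofFinite G
  haveI := H13.finite_irrCharacter (G := G)
  letI := Fintype.ofFinite (IrrCharacter G)
  have hB : IsPBlock M (principalBlock M G) := H17.isPBlock_principalBlock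
  have h2 := H17.dg_card hM hB (H17.dg_principal hM P)
  have hd : blockDefect p (principalBlock M G) ≠ 0 := fun h0 => by
    have := H21.card_eq_one_of_defect_zero hM hB h0
    omega
  have hP : (P : Subgroup G) ≠ ⊥ := fun e => by
    rw [e, Subgroup.card_bot] at h2
    exact hd ((Nat.pow_eq_one.mp h2.symm).resolve_left (Fact.out : p.Prime).one_lt.ne')
  obtain ⟨u, a, m, ha, h1, h3, h4, h5, h6⟩ := set G p M hM (by omega) P hP
  have htr : H21.triv G ∈ fB (principalBlock M G) := mem_fB.mpr (H21.triv_mem_principal hM.2.1)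
  have hc : (fB (principalBlock M G)).card = 4 := by
    rw [← hk, Nat.card_eq_fintype_card, Fintype.card_subtype]
  have hc2 : ((fB (principalBlock M G)).erase (H21.triv G)).card = 3 := by
    rw [Finset.card_erase_of_mem htr, hc]
  obtain ⟨c1, c2, c3, h12, h13, h23, he⟩ := Finset.card_eq_three.mp hc2
  have hsum : ∀ {R : Type} [AddCommMonoid R] (f : IrrCharacter G → R),
      ∑ ξ ∈ fB (principalBlock M G), f ξ = f (H21.triv G) + (f c1 + (f c2 + f c3)) := by
    intro R _ f
    rw [← Finset.add_sum_erase _ _ htr, he, Finset.sum_insert (by simp [h12, h13]),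
      Finset.sum_pair h23]
  have a1 : a (H21.triv G) = 1 := by
    have := ha (H21.triv G)
    rw [H21.triv_apply] at this
    exact_mod_cast this.symm
  have mem : ∀ c, c ∈ (fB (principalBlock M G)).erase (H21.triv G) ↔ c = c1 ∨ c = c2 ∨ c = c3 :=
    fun c => by rw [he]; simp
  have t1 : H21.triv G ≠ c1 := (Finset.mem_erase.1 ((mem c1).2 (.inl rfl))).1.symm
  have t2 : H21.triv G ≠ c2 := (Finset.mem_erase.1 ((mem c2).2 (.inr (.inl rfl)))).1.symm
  have t3 : H21.triv G ≠ c3 := (Finset.mem_erase.1 ((mem c3).2 (.inr (.inr rfl)))).1.symm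
  have cm : ∀ c, (c = c1 ∨ c = c2 ∨ c = c3) → H19.galIrr starRingAut c = c1 ∨
      H19.galIrr starRingAut c = c2 ∨ H19.galIrr starRingAut c = c3 := fun c hc => by
    have hmem := (mem c).2 hc
    refine (mem _).1 (Finset.mem_erase.mpr ⟨fun e => (Finset.mem_erase.mp hmem).1 ?_, mem_fB.mpr
      ((H19.galIrr_mem_principalBlock_iff _).mpr (mem_fB.mp (Finset.mem_erase.mp hmem).2))⟩)
    apply Subtype.ext; funext g
    have : conj (c.1 g) = 1 := congrFun (congrArg Subtype.val e) g
    rw [H21.triv_apply, ← Complex.conj_conj (c.1 g), this, map_one]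
  rw [hsum, a1] at h1 h3
  rw [h4] at h3
  have k1 : (Nat.card (P : Subgroup G) : ℤ) = 1 + a c1 ^ 2 + a c2 ^ 2 + a c3 ^ 2 := by
    linear_combination -h1
  have k2 : a c1 * m c1 + a c2 * m c2 + a c3 * m c3 = -1 := by linear_combination h3
  refine ⟨a c1, a c2, a c3, m c1, m c2, m c3, k1, k2, fun w1 w2 w3 => ?_, fun hp2 => ?_⟩
  · have := h6 (fun ξ => if ξ = c1 then w1 else if ξ = c2 then w2 else if ξ = c3 then w3 else 0)
      (by simp [t1, t2, t3])
    rw [hsum, hsum] at this
    simp only [t1, t2, t3, h12.symm, h13.symm, h23.symm, if_true, if_false] at this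
    linear_combination this
  have h7 := h5 hp2
  rw [hsum, a1, nu_triv] at h7
  have k3 : a c1 * nu c1 + a c2 * nu c2 + a c3 * nu c3 = 0 := by
    push_cast at h7
    linear_combination h7
  have fin : (Nat.card (P : Subgroup G) : ℤ) = 3 → Nat.card (P : Subgroup G) = 3 := fun h => by
    exact_mod_cast h
  have m1 := cm c1 (.inl rfl)
  have m2 := cm c2 (.inr (.inl rfl))
  have m3 := cm c3 (.inr (.inr rfl))
  obtain ⟨s, hs, hs'⟩ := nu_cases c1
  obtain ⟨t, ht, ht'⟩ := nu_cases c2
  obtain ⟨r, hr, hr'⟩ := nu_cases c3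
  rcases hs' with ⟨rfl, hχ⟩ | hs'
  · rcases m1 with e | e | e
    · exact absurd e hχ
    · exact .inr (fin (aux (m := m) ha h13 h23 m3 e (by simpa using hs) k1 k2 k3))
    · exact .inr (fin (aux (m := m) ha h12 h23.symm (p132 m2) e (by simpa using hs)
        (by linear_combination k1) (by linear_combination k2) (by linear_combination k3)))
  rcases ht' with ⟨rfl, hχ⟩ | ht'
  · rcases m2 with e | e | e
    · exact .inr (fin (aux (m := m) ha h23 h13 (p213 m3) e (by simpa using ht)
        (by linear_combination k1) (by linear_combination k2) (by linear_combination k3)))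
    · exact absurd e hχ
    · exact .inr (fin (aux (m := m) ha h12.symm h13.symm (p231 m1) e (by simpa using ht)
        (by linear_combination k1) (by linear_combination k2) (by linear_combination k3)))
  rcases hr' with ⟨rfl, hχ⟩ | hr'
  · rcases m3 with e | e | e
    · exact .inr (fin (aux (m := m) ha h23.symm h12 (p312 m2) e (by simpa using hr)
        (by linear_combination k1) (by linear_combination k2) (by linear_combination k3)))
    · exact .inr (fin (aux (m := m) ha h13.symm h12.symm (p321 m1) e (by simpa using hr)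
        (by linear_combination k1) (by linear_combination k2) (by linear_combination k3)))
    · exact absurd e hχ
  refine .inl ⟨s, t, r, by rcases hs' with rfl | rfl <;> norm_num,
    by rcases ht' with rfl | rfl <;> norm_num, by rcases hr' with rfl | rfl <;> norm_num, ?_⟩
  rw [hs, ht, hr] at k3
  have : ((s * a c1 + t * a c2 + r * a c3 : ℤ) : ℂ) = ((0 : ℤ) : ℂ) := by
    push_cast
    linear_combination k3
  exact_mod_cast this

end Cfsg.Agent.H81.K4Data
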