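import Mathlib
import Cfsg.Prelude.Def_Spor_Ly
import Cfsg.Agent.H44.Pres

set_option autoImplicit false
set_option maxRecDepth 1000000
set_option linter.all false
set_option Elab.async false

namespace Cfsg.Agent.H81.Ly

open Cfsg.Agent.H44

/-- Letters for the generators. -/
def D : PD Cfsg.Spor.Ly.Gen where
  nc := 78
  gens := [.b, .a, .c5, .c, .c1, .c2, .c3, .c4, .d, .e, .a1, .a2, .a3, .a4, .u, .x23, .x24, .x25, .x29, .x47, .x96, .x129, .x162, .x163, .x164, .x165, .x166, .x167, .x168, .x169, .x364, .x365, .x366, .x367, .x368, .x369, .x370, .x371, .z]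
  enc := fun x => match x with | .b => 1 | .a => 3 | .c5 => 5 | .c => 7 | .c1 => 9 | .c2 => 11 | .c3 => 13 | .c4 => 15 | .d => 17 | .e => 19 | .a1 => 21 | .a2 => 23 | .a3 => 25 | .a4 => 27 | .u => 29 | .x23 => 31 | .x24 => 33 | .x25 => 35 | .x29 => 37 | .x47 => 39 | .x96 => 41 | .x129 => 43 | .x162 => 45 | .x163 => 47 | .x164 => 49 | .x165 => 51 | .x166 => 53 | .x167 => 55 | .x168 => 57 | .x169 => 59 | .x364 => 61 | .x365 => 63 | .x366 => 65 | .x367 => 67 | .x368 => 69 | .x369 => 71 | .x370 => 73 | .x371 => 75 | .z => 77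
  dec := fun x => [.b, .a, .c5, .c, .c1, .c2, .c3, .c4, .d, .e, .a1, .a2, .a3, .a4, .u, .x23, .x24, .x25, .x29, .x47, .x96, .x129, .x162, .x163, .x164, .x165, .x166, .x167, .x168, .x169, .x364, .x365, .x366, .x367, .x368, .x369, .x370, .x371, .z].getD ((x - 1) / 2) .z
  iv := fun x => if x % 2 = 1 then x + 1 else x - 1
  es := [(.pow (.l .a) 8),
    (.pow (.l .b) 5),
    (.pow (.mul (.l .a) (.l .b)) 4),
    (.mul (.mul (.mul (.inv (.pow (.l .a) 2)) (.inv (.l .b))) (.pow (.l .a) 2)) (.l .b)),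
    (.pow (.mul (.mul (.mul (.inv (.l .a)) (.inv (.l .b))) (.l .a)) (.l .b)) 3),
    (.mul (.l .c1) (.inv (.l .c))),
    (.mul (.l .c2) (.inv (.mul (.mul (.inv (.l .a)) (.l .c)) (.l .a)))),
    (.mul (.l .c3) (.inv (.mul (.mul (.inv (.l .b)) (.l .c)) (.l .b)))),
    (.mul (.l .c4) (.inv (.mul (.mul (.inv (.inv (.l .b))) (.l .c)) (.inv (.l .b))))),
    (.mul (.l .c5) (.inv (.mul (.mul (.mul (.inv (.l .c1)) (.inv (.l .c2))) (.l .c1)) (.l .c2)))),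
    (.pow (.l .c1) 5),
    (.pow (.l .c5) 5),
    (.mul (.mul (.mul (.inv (.l .c1)) (.inv (.l .c5))) (.l .c1)) (.l .c5)),
    (.mul (.mul (.mul (.inv (.l .c2)) (.inv (.l .c5))) (.l .c2)) (.l .c5)),
    (.mul (.mul (.mul (.inv (.l .c3)) (.inv (.l .c5))) (.l .c3)) (.l .c5)),
    (.mul (.mul (.mul (.inv (.l .c4)) (.inv (.l .c5))) (.l .c4)) (.l .c5)),
    (.mul (.mul (.mul (.mul (.inv (.l .c1)) (.inv (.l .c3))) (.l .c1)) (.l .c3)) (.inv (.inv (.pow (.l .c5) 2)))),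
    (.mul (.mul (.mul (.mul (.inv (.l .c1)) (.inv (.l .c4))) (.l .c1)) (.l .c4)) (.inv (.pow (.l .c5) 2))),
    (.mul (.mul (.mul (.mul (.inv (.l .c2)) (.inv (.l .c3))) (.l .c2)) (.l .c3)) (.inv (.inv (.l .c5)))),
    (.mul (.mul (.mul (.inv (.l .c2)) (.inv (.l .c4))) (.l .c2)) (.l .c4)),
    (.mul (.mul (.mul (.mul (.inv (.l .c3)) (.inv (.l .c4))) (.l .c3)) (.l .c4)) (.inv (.inv (.l .c5)))),
    (.mul (.mul (.mul (.inv (.l .a)) (.l .c2)) (.l .a)) (.inv (.inv (.pow (.l .c1) 2)))),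
    (.mul (.mul (.mul (.inv (.l .a)) (.l .c3)) (.l .a)) (.inv (.mul (.mul (.inv (.pow (.l .c3) 2)) (.l .c1)) (.l .c4)))),
    (.mul (.mul (.mul (.inv (.l .a)) (.l .c4)) (.l .a)) (.inv (.mul (.mul (.mul (.mul (.mul (.l .c1) (.inv (.l .c2))) (.inv (.l .c3))) (.l .c4)) (.l .c1)) (.l .c4)))),
    (.mul (.mul (.mul (.inv (.l .a)) (.l .c5)) (.l .a)) (.inv (.pow (.l .c5) 2))),
    (.mul (.mul (.mul (.inv (.l .b)) (.l .c2)) (.l .b)) (.inv (.mul (.mul (.mul (.mul (.l .c2) (.l .c3)) (.inv (.l .c4))) (.inv (.l .c1))) (.inv (.l .c4))))),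
    (.mul (.mul (.mul (.inv (.l .b)) (.l .c3)) (.l .b)) (.inv (.mul (.mul (.pow (.l .c1) 2) (.l .c4)) (.inv (.pow (.l .c3) 2))))),
    (.mul (.mul (.mul (.inv (.l .b)) (.l .c5)) (.l .b)) (.inv (.l .c5))),
    (.mul (.l .e) (.inv (.mul (.mul (.mul (.mul (.mul (.mul (.mul (.mul (.mul (.mul (.mul (.mul (.inv (.pow (.l .b) 2)) (.mul (.mul (.mul (.inv (.l .a)) (.inv (.l .c1))) (.l .a)) (.l .c1))) (.inv (.l .a))) (.l .c1)) (.l .a)) (.l .d)) (.l .c1)) (.l .b)) (.l .a)) (.inv (.l .b))) (.l .d)) (.l .c1)) (.l .d)))),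
    (.pow (.l .e) 2),
    (.mul (.mul (.mul (.inv (.l .e)) (.l .c1)) (.l .e)) (.inv (.mul (.mul (.mul (.l .b) (.l .c3)) (.l .b)) (.inv (.l .c1))))),
    (.mul (.mul (.mul (.inv (.l .e)) (.l .c3)) (.l .e)) (.inv (.mul (.mul (.mul (.mul (.mul (.pow (.l .b) 2) (.l .a)) (.l .c2)) (.inv (.l .c1))) (.inv (.l .c4))) (.inv (.l .a))))),
    (.mul (.mul (.mul (.inv (.l .e)) (.l .c4)) (.l .e)) (.inv (.mul (.mul (.pow (.l .b) 2) (.inv (.l .c3))) (.l .c4)))),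
    (.mul (.mul (.mul (.inv (.l .e)) (.l .c5)) (.l .e)) (.inv (.mul (.mul (.mul (.l .c1) (.inv (.l .c3))) (.l .c1)) (.inv (.l .c4))))),
    (.mul (.mul (.mul (.l .e) (.pow (.l .a) 2)) (.l .e)) (.inv (.mul (.mul (.mul (.mul (.mul (.mul (.mul (.l .a) (.pow (.l .b) 2)) (.l .a)) (.inv (.l .b))) (.l .a)) (.l .c1)) (.l .c5)) (.inv (.l .c4))))),
    (.mul (.mul (.mul (.inv (.l .e)) (.l .b)) (.l .e)) (.inv (.mul (.mul (.l .c1) (.inv (.l .c3))) (.inv (.pow (.l .c4) 2))))),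
    (.mul (.mul (.mul (.mul (.mul (.mul (.mul (.l .e) (.l .a)) (.pow (.l .b) 2)) (.l .a)) (.inv (.l .b))) (.l .a)) (.l .e)) (.inv (.mul (.mul (.mul (.pow (.l .a) 2) (.l .c1)) (.l .c5)) (.inv (.l .c4))))),
    (.mul (.mul (.mul (.mul (.mul (.mul (.mul (.mul (.mul (.l .e) (.l .c2)) (.l .e)) (.inv (.l .c2))) (.l .e)) (.l .c2)) (.inv (.l .c4))) (.l .a)) (.l .c3)) (.pow (.l .a) 3)),
    (.mul (.l .d) (.inv (.mul (.mul (.mul (.mul (.mul (.mul (.mul (.mul (.mul (.mul (.mul (.mul (.mul (.mul (.l .a) (.pow (.l .b) 2)) (.inv (.l .a))) (.inv (.l .b))) (.inv (.l .c1))) (.inv (.l .c4))) (.inv (.l .c5))) (.l .a)) (.l .e)) (.l .a)) (.l .e)) (.l .a)) (.inv (.l .c2))) (.l .b)) (.l .e)))),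
    (.mul (.pow (.l .d) 2) (.inv (.pow (.l .a) 4))),
    (.mul (.mul (.mul (.inv (.l .b)) (.inv (.l .d))) (.l .b)) (.l .d)),
    (.mul (.mul (.mul (.inv (.l .d)) (.l .a)) (.l .d)) (.inv (.pow (.l .a) 3))),
    (.pow (.mul (.l .d) (.l .c5)) 5),
    (.mul (.mul (.mul (.mul (.mul (.mul (.l .d) (.l .c5)) (.l .d)) (.inv (.l .c5))) (.l .d)) (.l .c5)) (.inv (.pow (.l .a) 2))),
    (.mul (.l .a1) (.inv (.l .a))),
    (.mul (.l .a2) (.inv (.mul (.mul (.inv (.inv (.l .b))) (.l .a)) (.inv (.l .b))))),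
    (.mul (.l .a3) (.inv (.mul (.mul (.inv (.inv (.pow (.l .b) 2))) (.l .a)) (.inv (.pow (.l .b) 2))))),
    (.mul (.l .a4) (.inv (.mul (.mul (.inv (.pow (.l .b) 2)) (.l .a)) (.pow (.l .b) 2)))),
    (.mul (.l .u) (.inv (.pow (.l .a) 2))),
    (.mul (.l .x23) (.inv (.l .d))),
    (.mul (.l .x24) (.inv (.inv (.l .d)))),
    (.mul (.l .x25) (.inv (.mul (.mul (.mul (.mul (.mul (.mul (.mul (.mul (.mul (.mul (.mul (.mul (.mul (.mul (.mul (.pow (.l .b) 2) (.inv (.l .a))) (.inv (.l .b))) (.inv (.l .a))) (.pow (.l .b) 2)) (.inv (.l .c))) (.l .a)) (.l .c)) (.inv (.l .a))) (.inv (.l .c))) (.l .d)) (.inv (.l .c))) (.pow (.l .b) 2)) (.inv (.l .a))) (.l .c)) (.l .b)))),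
    (.mul (.l .x29) (.inv (.mul (.mul (.mul (.mul (.mul (.mul (.mul (.mul (.mul (.mul (.mul (.mul (.mul (.mul (.mul (.mul (.mul (.mul (.l .a) (.l .b)) (.inv (.l .a))) (.pow (.l .b) 2)) (.inv (.l .a))) (.pow (.l .b) 2)) (.inv (.l .c))) (.l .a)) (.l .c)) (.l .b)) (.l .c)) (.inv (.l .b))) (.l .d)) (.l .c)) (.inv (.pow (.l .b) 2))) (.l .d)) (.l .c)) (.l .b)) (.l .c)))),
    (.mul (.l .x47) (.inv (.mul (.mul (.mul (.mul (.mul (.mul (.mul (.inv (.l .c)) (.inv (.l .d))) (.inv (.l .a))) (.inv (.l .c))) (.inv (.l .a))) (.l .b)) (.inv (.l .c))) (.inv (.l .d))))),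
    (.mul (.l .x96) (.inv (.mul (.l .b) (.l .d)))),
    (.mul (.l .x129) (.inv (.mul (.inv (.l .d)) (.inv (.l .b))))),
    (.mul (.l .x162) (.inv (.mul (.mul (.mul (.mul (.mul (.mul (.mul (.mul (.mul (.inv (.l .a)) (.inv (.l .b))) (.inv (.l .a))) (.l .b)) (.inv (.l .c))) (.inv (.l .b))) (.l .a)) (.inv (.l .c))) (.l .b)) (.l .a)))),
    (.mul (.l .x163) (.inv (.mul (.mul (.mul (.mul (.mul (.mul (.inv (.pow (.l .b) 2)) (.l .a)) (.l .c)) (.inv (.l .a))) (.l .b)) (.l .c)) (.l .b)))),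
    (.mul (.l .x164) (.inv (.mul (.mul (.mul (.mul (.mul (.mul (.inv (.l .a)) (.inv (.l .b))) (.inv (.l .a))) (.l .c)) (.l .a)) (.l .b)) (.l .a)))),
    (.mul (.l .x165) (.inv (.mul (.mul (.mul (.mul (.mul (.mul (.inv (.l .b)) (.inv (.l .a))) (.l .b)) (.l .c)) (.inv (.l .b))) (.l .a)) (.l .b)))),
    (.mul (.l .x166) (.inv (.mul (.mul (.mul (.mul (.mul (.mul (.mul (.mul (.pow (.l .b) 2) (.inv (.l .a))) (.inv (.l .b))) (.l .c)) (.l .b)) (.l .a)) (.l .c)) (.inv (.pow (.l .b) 2))) (.inv (.l .c))))),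
    (.mul (.l .x167) (.inv (.inv (.pow (.l .a) 3)))),
    (.mul (.l .x168) (.inv (.mul (.mul (.mul (.l .b) (.inv (.l .a))) (.inv (.l .b))) (.inv (.pow (.l .a) 2))))),
    (.mul (.l .x169) (.inv (.mul (.mul (.mul (.mul (.l .a) (.pow (.l .b) 2)) (.l .a)) (.inv (.pow (.l .b) 2))) (.inv (.l .a))))),
    (.mul (.l .x364) (.inv (.mul (.mul (.mul (.mul (.mul (.mul (.mul (.mul (.mul (.mul (.mul (.mul (.mul (.mul (.mul (.mul (.mul (.mul (.inv (.l .a)) (.l .d)) (.inv (.l .b))) (.inv (.l .c))) (.inv (.l .a))) (.l .b)) (.inv (.l .c))) (.inv (.l .d))) (.l .b)) (.inv (.l .c))) (.inv (.l .b))) (.inv (.l .a))) (.inv (.l .c))) (.l .a)) (.inv (.l .b))) (.l .a)) (.l .b)) (.l .a)) (.inv (.l .b))))),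
    (.mul (.l .x365) (.inv (.mul (.mul (.mul (.mul (.mul (.mul (.mul (.mul (.mul (.mul (.mul (.mul (.mul (.mul (.mul (.mul (.l .a) (.inv (.pow (.l .b) 2))) (.inv (.l .a))) (.l .c)) (.l .b)) (.inv (.l .c))) (.l .b)) (.inv (.l .a))) (.inv (.pow (.l .c) 2))) (.l .d)) (.l .c)) (.l .a)) (.l .c)) (.inv (.l .a))) (.l .c)) (.inv (.l .b))) (.inv (.l .d))))),
    (.mul (.l .x366) (.inv (.mul (.mul (.mul (.mul (.mul (.mul (.mul (.mul (.mul (.mul (.mul (.mul (.mul (.mul (.mul (.mul (.mul (.l .b) (.l .a)) (.inv (.l .b))) (.inv (.l .a))) (.inv (.pow (.l .b) 2))) (.inv (.l .a))) (.inv (.l .b))) (.l .c)) (.pow (.l .b) 2)) (.l .c)) (.l .b)) (.l .d)) (.l .c)) (.inv (.pow (.l .b) 2))) (.l .d)) (.l .c)) (.l .b)) (.l .c)))),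
    (.mul (.l .x367) (.inv (.mul (.mul (.mul (.mul (.mul (.mul (.mul (.mul (.mul (.mul (.mul (.mul (.mul (.mul (.mul (.mul (.mul (.inv (.l .c)) (.inv (.l .b))) (.inv (.l .c))) (.inv (.l .d))) (.pow (.l .b) 2)) (.inv (.l .c))) (.inv (.l .d))) (.inv (.l .b))) (.inv (.l .c))) (.inv (.pow (.l .b) 2))) (.inv (.l .c))) (.l .b)) (.l .a)) (.pow (.l .b) 2)) (.l .a)) (.l .b)) (.inv (.l .a))) (.inv (.l .b))))),
    (.mul (.l .x368) (.inv (.mul (.mul (.mul (.mul (.mul (.mul (.mul (.mul (.mul (.mul (.mul (.mul (.mul (.mul (.mul (.mul (.mul (.inv (.l .a)) (.inv (.l .c))) (.inv (.l .d))) (.l .a)) (.inv (.l .c))) (.inv (.l .b))) (.l .a)) (.inv (.l .c))) (.inv (.l .d))) (.inv (.l .a))) (.inv (.l .c))) (.l .a)) (.l .c)) (.inv (.pow (.l .b) 2))) (.inv (.l .c))) (.inv (.l .b))) (.inv (.l .a))) (.inv (.pow (.l .b) 2))))),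
    (.mul (.l .x369) (.inv (.mul (.mul (.mul (.mul (.mul (.mul (.mul (.mul (.mul (.mul (.mul (.mul (.mul (.mul (.mul (.mul (.inv (.l .a)) (.inv (.l .c))) (.inv (.l .d))) (.l .b)) (.inv (.l .a))) (.inv (.l .b))) (.inv (.l .c))) (.inv (.l .d))) (.l .b)) (.inv (.l .a))) (.inv (.l .b))) (.inv (.l .c))) (.inv (.l .b))) (.l .a)) (.inv (.pow (.l .b) 2))) (.l .a)) (.inv (.l .b))))),
    (.mul (.l .x370) (.inv (.mul (.mul (.mul (.mul (.mul (.mul (.mul (.mul (.mul (.mul (.mul (.mul (.mul (.mul (.mul (.mul (.inv (.l .d)) (.l .a)) (.l .c)) (.l .b)) (.l .c)) (.inv (.l .a))) (.inv (.l .c))) (.inv (.l .d))) (.l .a)) (.inv (.l .b))) (.inv (.l .a))) (.l .c)) (.inv (.l .a))) (.inv (.pow (.l .b) 2))) (.inv (.l .a))) (.l .b)) (.inv (.l .a))))),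
    (.mul (.l .x371) (.inv (.mul (.mul (.mul (.mul (.mul (.mul (.mul (.mul (.mul (.mul (.mul (.mul (.mul (.mul (.mul (.inv (.l .c)) (.inv (.l .a))) (.l .c)) (.l .b)) (.inv (.l .c))) (.inv (.l .d))) (.l .c)) (.inv (.l .a))) (.l .c)) (.l .a)) (.l .c)) (.inv (.l .b))) (.inv (.l .a))) (.inv (.l .b))) (.inv (.l .a))) (.l .b)))),
    (.mul (.mul (.mul (.inv (.l .z)) (.l .c1)) (.l .z)) (.inv (.l .x162))),
    (.mul (.mul (.mul (.inv (.l .z)) (.l .c2)) (.l .z)) (.inv (.l .x163))),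
    (.mul (.mul (.mul (.inv (.l .z)) (.l .c3)) (.l .z)) (.inv (.l .x164))),
    (.mul (.mul (.mul (.inv (.l .z)) (.l .c4)) (.l .z)) (.inv (.l .x165))),
    (.mul (.mul (.mul (.inv (.l .z)) (.l .c5)) (.l .z)) (.inv (.l .x166))),
    (.mul (.mul (.mul (.inv (.l .z)) (.l .a1)) (.l .z)) (.inv (.l .x167))),
    (.mul (.mul (.mul (.inv (.l .z)) (.l .a2)) (.l .z)) (.inv (.l .x168))),
    (.mul (.mul (.mul (.inv (.l .z)) (.l .a3)) (.l .z)) (.inv (.l .x169))),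
    (.mul (.pow (.l .z) 2) (.inv (.l .u))),
    (.mul (.pow (.mul (.l .a4) (.l .z)) 3) (.l .u)),
    (.mul (.mul (.mul (.mul (.mul (.l .x47) (.l .z)) (.l .x364)) (.l .z)) (.l .x368)) (.l .z)),
    (.mul (.mul (.mul (.mul (.mul (.mul (.mul (.inv (.l .z)) (.l .x24)) (.inv (.l .z))) (.l .x369)) (.l .z)) (.l .x23)) (.l .z)) (.l .x29)),
    (.mul (.mul (.mul (.mul (.mul (.mul (.mul (.l .z) (.l .x366)) (.l .z)) (.l .x365)) (.inv (.l .z))) (.l .x367)) (.inv (.l .z))) (.l .x370)),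
    (.mul (.mul (.mul (.mul (.mul (.mul (.mul (.l .z) (.l .x96)) (.l .z)) (.l .x25)) (.inv (.l .z))) (.l .x129)) (.inv (.l .z))) (.l .x371))]

theorem ok : D.Ok Cfsg.Spor.Ly.edges Cfsg.Spor.Ly.extra :=
  ⟨fun a => by cases a <;> simp [D], by decide +kernel, by decide +kernel, by decide +kernel, rfl⟩

/-- All relators. -/
def Rm : List (List ℕ) := [
  [1, 2],
  [3, 4],
  [5, 6],
  [7, 8],
  [9, 10],
  [11, 12],
  [13, 14],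
  [15, 16],
  [17, 18],
  [19, 20],
  [21, 22],
  [23, 24],
  [25, 26],
  [27, 28],
  [29, 30],
  [31, 32],
  [33, 34],
  [35, 36],
  [37, 38],
  [39, 40],
  [41, 42],
  [43, 44],
  [45, 46],
  [47, 48],
  [49, 50],
  [51, 52],
  [53, 54],
  [55, 56],
  [57, 58],
  [59, 60],
  [61, 62],
  [63, 64],
  [65, 66],
  [67, 68],
  [69, 70],
  [71, 72],
  [73, 74],
  [75, 76],
  [77, 78],
  [3, 3, 3, 3, 3, 3, 3, 3],
  [1, 1, 1, 1, 1],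
  [3, 1, 3, 1, 3, 1, 3, 1],
  [4, 4, 2, 3, 3, 1],
  [4, 2, 3, 1, 4, 2, 3, 1, 4, 2, 3, 1],
  [9, 8],
  [11, 4, 8, 3],
  [13, 2, 8, 1],
  [15, 1, 8, 2],
  [5, 12, 10, 11, 9],
  [9, 9, 9, 9, 9],
  [5, 5, 5, 5, 5],
  [10, 6, 9, 5],
  [12, 6, 11, 5],
  [14, 6, 13, 5],
  [16, 6, 15, 5],
  [10, 14, 9, 13, 5, 5],
  [10, 16, 9, 15, 6, 6],
  [12, 14, 11, 13, 5],
  [12, 16, 11, 15],
  [14, 16, 13, 15, 5],
  [4, 11, 3, 9, 9],
  [4, 13, 3, 16, 10, 13, 13],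
  [4, 15, 3, 16, 10, 16, 13, 11, 10],
  [4, 5, 3, 6, 6],
  [2, 11, 1, 15, 9, 15, 14, 12],
  [2, 13, 1, 13, 13, 16, 10, 10],
  [2, 5, 1, 6],
  [19, 18, 10, 18, 1, 4, 2, 10, 18, 4, 10, 3, 10, 4, 9, 3, 1, 1],
  [19, 19],
  [20, 9, 19, 9, 2, 14, 2],
  [20, 13, 19, 3, 15, 9, 12, 4, 2, 2],
  [20, 15, 19, 16, 13, 2, 2],
  [20, 5, 19, 15, 10, 13, 10],
  [19, 3, 3, 19, 15, 6, 10, 4, 1, 4, 2, 2, 4],
  [20, 1, 19, 15, 15, 13, 10],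
  [19, 3, 1, 1, 3, 2, 3, 19, 15, 6, 10, 4, 4],
  [19, 11, 19, 12, 19, 11, 16, 3, 13, 3, 3, 3],
  [17, 20, 2, 11, 4, 20, 4, 20, 4, 5, 15, 9, 1, 3, 2, 2, 4],
  [17, 17, 4, 4, 4, 4],
  [2, 18, 1, 17],
  [18, 3, 17, 4, 4, 4],
  [17, 5, 17, 5, 17, 5, 17, 5, 17, 5],
  [17, 5, 17, 6, 17, 5, 4, 4],
  [21, 4],
  [23, 1, 4, 2],
  [25, 1, 1, 4, 2, 2],
  [27, 2, 2, 4, 1, 1],
  [29, 4, 4],
  [31, 18],
  [33, 17],
  [35, 2, 8, 3, 2, 2, 7, 18, 7, 3, 8, 4, 7, 2, 2, 3, 1, 3, 2, 2],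
  [37, 8, 2, 8, 18, 1, 1, 8, 18, 1, 8, 2, 8, 4, 7, 2, 2, 3, 2, 2, 3, 2, 4],
  [39, 17, 7, 2, 3, 7, 3, 17, 7],
  [41, 18, 2],
  [43, 1, 17],
  [45, 4, 2, 7, 4, 1, 7, 2, 3, 1, 3],
  [47, 2, 8, 2, 3, 8, 4, 1, 1],
  [49, 4, 2, 4, 8, 3, 1, 3],
  [51, 2, 4, 1, 8, 2, 3, 1],
  [53, 7, 1, 1, 8, 4, 2, 8, 1, 3, 2, 2],
  [55, 3, 3, 3],
  [57, 3, 3, 1, 3, 2],
  [59, 3, 1, 1, 4, 2, 2, 4],
  [61, 1, 4, 2, 4, 1, 4, 7, 3, 1, 7, 2, 17, 7, 2, 3, 7, 1, 18, 3],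
  [63, 17, 1, 8, 3, 8, 4, 8, 18, 7, 7, 3, 2, 7, 2, 8, 3, 1, 1, 4],
  [65, 8, 2, 8, 18, 1, 1, 8, 18, 2, 8, 2, 2, 8, 1, 3, 1, 1, 3, 1, 4, 2],
  [67, 1, 3, 2, 4, 2, 2, 4, 2, 7, 1, 1, 7, 1, 17, 7, 2, 2, 17, 7, 1, 7],
  [69, 1, 1, 3, 1, 7, 1, 1, 8, 4, 7, 3, 17, 7, 4, 1, 7, 4, 17, 7, 3],
  [71, 1, 4, 1, 1, 4, 1, 7, 1, 3, 2, 17, 7, 1, 3, 2, 17, 7, 3],
  [73, 3, 2, 3, 1, 1, 3, 8, 3, 1, 4, 17, 7, 3, 8, 2, 8, 4, 17],
  [75, 2, 3, 1, 3, 1, 8, 4, 8, 3, 8, 17, 7, 2, 8, 3, 7],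
  [78, 9, 77, 46],
  [78, 11, 77, 48],
  [78, 13, 77, 50],
  [78, 15, 77, 52],
  [78, 5, 77, 54],
  [78, 21, 77, 56],
  [78, 23, 77, 58],
  [78, 25, 77, 60],
  [77, 77, 30],
  [27, 77, 27, 77, 27, 77, 29],
  [39, 77, 61, 77, 69, 77],
  [78, 33, 78, 71, 77, 31, 77, 37],
  [77, 65, 77, 63, 78, 67, 78, 73],
  [77, 41, 77, 35, 78, 43, 78, 75]]

theorem Rm_eq : D.Rm Cfsg.Spor.Ly.edges = Rm := by decide +kernel

/-- The generators of the presented group. -/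
def gm : ℕ → Cfsg.Spor.Ly := D.gm Cfsg.Spor.Ly.edges Cfsg.Spor.Ly.extra

theorem sat : Sat gm Rm := Rm_eq ▸ ok.sat_gm

theorem top : gen gm 78 = ⊤ := ok.gen_gm

theorem exists_hom {G : Type*} [Group G] {g : ℕ → G} (hg : Sat g Rm) :
    ∃ φ : Cfsg.Spor.Ly →* G, ∀ x, 1 ≤ x ∧ x ≤ 78 → φ (gm x) = g x :=
  ok.exists_hom (Rm_eq ▸ hg)

theorem gm_a : gm 3 = PresentedGroup.of Cfsg.Spor.Ly.Gen.a := ok.gm_enc .a
theorem gm_b : gm 1 = PresentedGroup.of Cfsg.Spor.Ly.Gen.b := ok.gm_enc .b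
theorem gm_c : gm 7 = PresentedGroup.of Cfsg.Spor.Ly.Gen.c := ok.gm_enc .c
theorem gm_d : gm 17 = PresentedGroup.of Cfsg.Spor.Ly.Gen.d := ok.gm_enc .d
theorem gm_z : gm 77 = PresentedGroup.of Cfsg.Spor.Ly.Gen.z := ok.gm_enc .z

end Cfsg.Agent.H81.Ly
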