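/-
The local facts follow from the coordinates: finite checks.
-/
import Mathlib
import Cfsg.Agent.H81.PenDefs

set_option autoImplicit false
set_option maxRecDepth 100000
set_option synthInstance.maxSize 4096

namespace Cfsg.Agent.H81.Pen

open Cfsg Cfsg.Agent.H24.MH Cfsg.Agent.H42 Subgroup

/-- Masks with six bits, and the vectors they kill. -/
def M6 : List (ℕ × List ℕ) :=
  [(819, [0, 4, 8, 12, 64, 68, 72, 76, 128, 132, 136, 140, 192, 196, 200, 204, 1024, 1028, 1032,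
  1036, 1088, 1092, 1096, 1100, 1152, 1156, 1160, 1164, 1216, 1220, 1224, 1228, 2048, 2052, 2056,
  2060, 2112, 2116, 2120, 2124, 2176, 2180, 2184, 2188, 2240, 2244, 2248, 2252, 3072, 3076, 3080,
  3084, 3136, 3140, 3144, 3148, 3200, 3204, 3208, 3212, 3264, 3268, 3272, 3276]), (3276, [0, 1, 2,
  3, 16, 17, 18, 19, 32, 33, 34, 35, 48, 49, 50, 51, 256, 257, 258, 259, 272, 273, 274, 275, 288,
  289, 290, 291, 304, 305, 306, 307, 512, 513, 514, 515, 528, 529, 530, 531, 544, 545, 546, 547,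
  560, 561, 562, 563, 768, 769, 770, 771, 784, 785, 786, 787, 800, 801, 802, 803, 816, 817, 818,
  819]), (2730, [0, 1, 4, 5, 16, 17, 20, 21, 64, 65, 68, 69, 80, 81, 84, 85, 256, 257, 260, 261,
  272, 273, 276, 277, 320, 321, 324, 325, 336, 337, 340, 341, 1024, 1025, 1028, 1029, 1040, 1041,
  1044, 1045, 1088, 1089, 1092, 1093, 1104, 1105, 1108, 1109, 1280, 1281, 1284, 1285, 1296, 1297,
  1300, 1301, 1344, 1345, 1348, 1349, 1360, 1361, 1364, 1365]), (1365, [0, 2, 8, 10, 32, 34, 40,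
  42, 128, 130, 136, 138, 160, 162, 168, 170, 512, 514, 520, 522, 544, 546, 552, 554, 640, 642,
  648, 650, 672, 674, 680, 682, 2048, 2050, 2056, 2058, 2080, 2082, 2088, 2090, 2176, 2178, 2184,
  2186, 2208, 2210, 2216, 2218, 2560, 2562, 2568, 2570, 2592, 2594, 2600, 2602, 2688, 2690, 2696,
  2698, 2720, 2722, 2728, 2730])]

/-- Masks with eight bits, and the vectors they kill. -/
def M8 : List (ℕ × List ℕ) :=
  [(255, [0, 256, 512, 768, 1024, 1280, 1536, 1792, 2048, 2304, 2560, 2816, 3072, 3328, 3584,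
  3840]), (3855, [0, 16, 32, 48, 64, 80, 96, 112, 128, 144, 160, 176, 192, 208, 224, 240]), (4080,
  [0, 1, 2, 3, 4, 5, 6, 7, 8, 9, 10, 11, 12, 13, 14, 15])]

/-- The elements of square one in `Gam`. -/
def G2 : List ℕ :=
  [5064, 8580, 12740, 12876, 18467, 18663, 24471, 27999, 31011, 32475, 33825, 33901, 33957, 34025,
  35858, 36054, 38689, 42273, 46625, 48402, 50225, 50421, 56190, 59898, 62769, 64182]

/-- The elements of square one in `SLs`. -/
def B2 : List ℕ :=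
  [33060, 33140, 33345, 33351, 33574, 33617, 33810, 33825, 33827, 33829, 33831, 33841, 33878,
  33889, 33893, 33905, 34081, 34097, 34337, 34339, 34578, 34593]

theorem g2_mem : ∀ g ∈ Gam, mm g g = I4 → g ∈ G2 := by decide +kernel

theorem b2_mem : ∀ g ∈ SLs, mm g g = I4 → g ∈ B2 := by decide +kernel

/-- The check of a mask. -/
noncomputable def mskB (n : ℕ) (p : ℕ × List ℕ) : Bool :=
  allB (fun v => iteB (Nat.beq (Nat.land v p.1) 0) (anyL (Nat.beq v) p.2) true) 4096 &&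
    Nat.beq (H42.cnt (fun v => Nat.beq (Nat.land v p.1) v) 4096) n

theorem mskB_spec {n : ℕ} {p : ℕ × List ℕ} (h : mskB n p = true) :
    (∀ v < 4096, v &&& p.1 = 0 → v ∈ p.2) ∧
    ((Finset.range 4096).filter fun v => v &&& p.1 = v).card = n := by
  simp only [mskB, Bool.and_eq_true, allB_iff, iteB_eq, beq_iff, cnt_eq_card] at h
  refine ⟨fun v hv e => ?_, h.2⟩
  have := h.1 v hv
  rw [if_pos (show Nat.land v p.1 = 0 from e), anyL_iff] at this
  obtain ⟨a, ha, e⟩ := this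
  exact beq_iff.mp e ▸ ha

theorem m6_spec : allL (mskB 64) M6 = true := by decide +kernel

theorem m8_spec : allL (mskB 256) M8 = true := by decide +kernel

/-- The check that a mask is injective on the fixed vectors. -/
noncomputable def fixB (g B : ℕ) (p : ℕ × List ℕ) : Bool :=
  allL (fun v => iteB (Nat.beq (mm g (mm v B)) v) (Nat.beq v 0) true) p.2

theorem fixB_spec {g B : ℕ} {p : ℕ × List ℕ} (h : fixB g B p = true) :
    ∀ v ∈ p.2, mm g (mm v B) = v → v = 0 := fun v hv e => by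
  have := allL_iff.mp h v hv
  rwa [iteB_eq, if_pos (beq_iff.mpr e), beq_iff] at this

theorem m6_fix : allL (fun g => Nat.beq g I4 || allL (fun B => anyL (fixB g B) M6) B2) G2 = true := by
  decide +kernel

theorem m8_fix : allL (fun B => Nat.beq B I4 || anyL (fixB I4 B) M8) B2 = true := by
  decide +kernel

theorem four_fix : ∀ A ∈ B2, A ≠ I4 → ∀ B ∈ B2, (∀ c < 8, mm A c = c ↔ mm B c = c) →
    mm B A ≠ I4 → ∃ i < 3, allB (fun v => iteB (Nat.beq (col v i) 0)
      (iteB (Nat.beq (col (mm v A) i) 0) (iteB (Nat.beq (col (mm v B) i) 0) (Nat.beq v 0) true) true)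
      true) 4096 = true := by
  decide +kernel

theorem gam_ker : ∀ g ∈ Gam, ∀ n < 16, mm g n = 0 → n = 0 := by decide +kernel

theorem sls_trans : ∀ a < 8, ∀ b < 8, a ≠ 0 → b ≠ 0 → ∃ B ∈ SLs, mm B b = a := by decide +kernel

theorem sls_fix : ∀ B ∈ SLs, mm B 1 = 1 → mm B 2 = 2 → mm B 4 = 4 → B = I4 := by decide +kernel

theorem sls_vec : ∀ B ∈ SLs, ∀ c < 8, mm B c < 8 := by decide +kernel

theorem bb_two : allB (fun v => Nat.beq v 0 || anyB (fun i => anyB (fun j =>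
    !Nat.beq (bb v (2 ^ i)) 0 && !Nat.beq (bb v (2 ^ j)) 0 &&
      !Nat.beq (bb v (2 ^ i)) (bb v (2 ^ j))) 12) 12) 4096 = true := by decide +kernel

theorem gam_four : ∀ a ∈ G2, ∀ b ∈ G2, mm (mm a b) (mm a b) = I4 → ∀ c ∈ G2,
    mm (mm a c) (mm a c) = I4 → mm (mm b c) (mm b c) = I4 →
    a = I4 ∨ b = I4 ∨ b = a ∨ c ∈ [I4, a, b, mm a b] := by
  decide +kernel

theorem sls_four : ∀ a ∈ B2, ∀ b ∈ B2, mm (mm b a) (mm b a) = I4 → ∀ c ∈ B2,
    mm (mm c a) (mm c a) = I4 → mm (mm c b) (mm c b) = I4 →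
    a = I4 ∨ b = I4 ∨ b = a ∨ c ∈ [I4, a, b, mm b a] := by
  decide +kernel

theorem perp2 : ∀ a < 16, ∀ b < 16, a ≠ 0 → b ≠ 0 → a ≠ b →
    ((Finset.range 16).filter fun m => be a m = 0 ∧ be b m = 0).card = 4 := by decide +kernel

theorem perp3 : ∀ a < 16, ∀ b < 16, a ≠ 0 → b ≠ 0 → a ≠ b → ∀ c < 16, c ∉ [0, a, b, a ^^^ b] →
    ((Finset.range 16).filter fun m => be a m = 0 ∧ be b m = 0 ∧ be c m = 0).card = 2 := by
  decide +kernel

theorem be_zero_right : ∀ a < 16, be a 0 = 0 := by decide +kernel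

theorem other : ∀ i < 3, ∃ j < 3, ∃ k < 3, ∀ l < 3, l = i ∨ l = j ∨ l = k := by decide

theorem gam_inv : ∀ a ∈ Gam, ∀ b ∈ Gam, mm a b = a → b = I4 := by decide +kernel

theorem sls_inv : ∀ a ∈ SLs, ∀ b ∈ SLs, mm b a = a → b = I4 := by decide +kernel

end Cfsg.Agent.H81.Pen
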