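import Cfsg.Agent.Lead.PcDefs

/-! Project PL, piece Q: the conjugacy property passes to quotients. -/

set_option autoImplicit false

namespace Cfsg.Agent.H81.PlQ

open Subgroup Cfsg.Agent.Lead.Pc

universe u

theorem lift {G H : Type u} [Group G] [Finite G] [Group H] {f : G →* H}
    (hf : Function.Surjective f) {x : H} (hx : Tw x) : ∃ a : G, Tw a ∧ f a = x := by
  obtain ⟨j, hj⟩ := hx
  obtain ⟨a, rfl⟩ := hf x
  obtain ⟨k, m, hm, e⟩ := Nat.exists_eq_two_pow_mul_odd (orderOf_pos a).ne'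
  have hc : Nat.Coprime m (2 ^ j) := (Nat.coprime_two_right.2 hm).pow_right j
  obtain ⟨n, hn⟩ := Nat.exists_mul_mod_eq_of_coprime 1 hc (Nat.two_pow_pos j).ne'
  refine ⟨a ^ (m * n), ⟨k, ?_⟩, ?_⟩
  · rw [← pow_mul, show m * n * 2 ^ k = 2 ^ k * m * n by ring, ← e, pow_mul, pow_orderOf_eq_one,
      one_pow]
  · rw [map_pow, pow_eq_pow_mod _ hj, hn.2, ← pow_eq_pow_mod _ hj, pow_one]

theorem ord {G : Type u} [Group G] {a : G} (h : Tw a) : ∃ i, orderOf a = 2 ^ i := by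
  obtain ⟨k, hk⟩ := h
  obtain ⟨i, -, hi⟩ := (Nat.dvd_prime_pow Nat.prime_two).1 (orderOf_dvd_of_pow_eq_one hk)
  exact ⟨i, hi⟩

theorem into {G : Type u} [Group G] (h : CP G) {a b : G} {i j : ℕ} (ha : orderOf a = 2 ^ i)
    (hb : orderOf b = 2 ^ j) (hij : j ≤ i) : ∃ g : G, g * b * g⁻¹ ∈ zpowers a := by
  have e : orderOf (a ^ 2 ^ (i - j)) = 2 ^ j := by
    rw [orderOf_pow' _ (Nat.two_pow_pos _).ne', ha, Nat.gcd_eq_right (pow_dvd_pow 2 (Nat.sub_le i j)),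
      Nat.pow_div (Nat.sub_le i j) two_pos, Nat.sub_sub_self hij]
  obtain ⟨g, hg⟩ := h (a ^ 2 ^ (i - j)) b ⟨j, by rw [← e, pow_orderOf_eq_one]⟩ (hb.trans e.symm)
  exact ⟨g, zpowers_le.2 (npow_mem_zpowers a _) hg⟩

theorem img {G H : Type u} [Group G] [Group H] (f : G →* H) {a b g : G}
    (h : g * b * g⁻¹ ∈ zpowers a) : f g * f b * (f g)⁻¹ ∈ zpowers (f a) := by
  obtain ⟨k, hk⟩ := mem_zpowers_iff.1 h
  exact mem_zpowers_iff.2 ⟨k, by rw [← map_zpow, hk, map_mul, map_mul, map_inv]⟩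

theorem swap {H : Type u} [Group H] [Finite H] {x y g : H} (e : orderOf y = orderOf x)
    (h : g * x * g⁻¹ ∈ zpowers y) : g⁻¹ * y * g⁻¹⁻¹ ∈ zpowers x := by
  have h1 : zpowers (g * x * g⁻¹) = zpowers y := eq_of_le_of_card_ge (zpowers_le.2 h) (by
    rw [Nat.card_zpowers, Nat.card_zpowers, e]
    exact ((MulAut.conj g).orderOf_eq x).ge)
  obtain ⟨k, hk⟩ := mem_zpowers_iff.1 (h1 ▸ mem_zpowers y : y ∈ zpowers (g * x * g⁻¹))
  refine mem_zpowers_iff.2 ⟨k, ?_⟩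
  rw [← hk, conj_zpow]
  group

theorem q : QStmt.{u} := by
  intro G H _ _ _ f hf h x y hx e
  haveI : Finite H := Finite.of_surjective f hf
  have hy : Tw y := hx.imp fun k hk => by
    rw [← orderOf_dvd_iff_pow_eq_one] at hk ⊢
    rwa [e]
  obtain ⟨a, ha, rfl⟩ := lift hf hx
  obtain ⟨b, hb, rfl⟩ := lift hf hy
  obtain ⟨i, hi⟩ := ord ha
  obtain ⟨j, hj⟩ := ord hb
  rcases le_total j i with l | l
  · obtain ⟨g, hg⟩ := into h hi hj l
    exact ⟨_, img f hg⟩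
  · obtain ⟨g, hg⟩ := into h hj hi l
    exact ⟨_, swap e (img f hg)⟩

end Cfsg.Agent.H81.PlQ
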