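import Cfsg.Agent.H51.CamHer
import Cfsg.Agent.H83.Base

/-! Essential subgroups with a transvection. -/

set_option autoImplicit false

namespace Cfsg.Agent.H81.Sq

open Subgroup H8 H7
open scoped Pointwise

variable {G : Type*} [Group G]

theorem cj_iff {a v : G} : a * v * a⁻¹ = v ↔ Commute a v := by
  rw [mul_inv_eq_iff_eq_mul]; rfl

theorem comm_cj {a v : G} (g : G) : Commute (g * a * g⁻¹) (g * v * g⁻¹) ↔ Commute a v := by
  constructor
  · intro h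
    have := h.map (MulAut.conj g⁻¹)
    simpa [mul_assoc] using this
  · intro h
    exact h.map (MulAut.conj g)

theorem comm_cj' {a v : G} (g : G) : Commute (g * a * g⁻¹) v ↔ Commute a (g⁻¹ * v * g) := by
  rw [← comm_cj (a := a) g]; simp [mul_assoc]

theorem mem_of_coprime {H : Subgroup G} {g : G} {k j : ℕ} (hk : Odd k) (h1 : g ^ k ∈ H)
    (h2 : g ^ 2 ^ j ∈ H) : g ∈ H := by
  have hc : Nat.Coprime k (2 ^ j) := Nat.Coprime.pow_right _ (Nat.coprime_two_right.2 hk)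
  have h3 := Nat.gcd_eq_gcd_ab k (2 ^ j)
  rw [hc] at h3
  have : g = (g ^ k) ^ (k.gcdA (2 ^ j)) * (g ^ 2 ^ j) ^ (k.gcdB (2 ^ j)) := by
    rw [← zpow_natCast, ← zpow_natCast g, ← zpow_mul, ← zpow_mul, ← zpow_add, ← h3]; simp
  rw [this]; exact mul_mem (zpow_mem h1 _) (zpow_mem h2 _)

theorem comm_of_coprime {g v : G} {k j : ℕ} (hk : Odd k) (h1 : Commute (g ^ k) v)
    (h2 : Commute (g ^ 2 ^ j) v) : Commute g v :=
  (mem_centralizer_singleton_iff.1 (mem_of_coprime (H := centralizer {v}) hk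
    (mem_centralizer_singleton_iff.2 h1) (mem_centralizer_singleton_iff.2 h2)))

theorem pgroup_zpowers {x : G} {k : ℕ} (hk : x ^ 2 ^ k = 1) : IsPGroup 2 (zpowers x) := by
  rintro ⟨_, n, rfl⟩
  refine ⟨k, Subtype.ext ?_⟩
  simp only [SubmonoidClass.coe_pow, OneMemClass.coe_one]
  rw [← zpow_natCast, ← zpow_mul, mul_comm, zpow_mul, zpow_natCast, hk, one_zpow]

theorem two_el {S : Subgroup G} (hS : IsPGroup 2 S) {s : G} (hs : s ∈ S) : ∃ j, s ^ 2 ^ j = 1 := by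
  obtain ⟨k, hk⟩ := hS ⟨s, hs⟩
  exact ⟨k, by simpa using congrArg Subtype.val hk⟩

/-- `τ` acts on `E` as a transvection with centre `δ` (or trivially). -/
structure Tr (E : Subgroup G) (τ δ : G) : Prop where
  mem : δ ∈ E
  cen : ∀ w ∈ E, Commute w δ
  sq : δ * δ = 1
  fix : Commute τ δ
  act : ∀ v ∈ E, τ * v * τ⁻¹ = v ∨ τ * v * τ⁻¹ = v * δ

namespace Tr

variable {E : Subgroup G} {τ δ : G}

theorem conj (h : Tr E τ δ) {n : G} (hn : n ∈ normalizer (E : Set G)) :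
    Tr E (n * τ * n⁻¹) (n * δ * n⁻¹) where
  mem := H83.conj_mem le_rfl hn h.mem
  cen w hw := ((comm_cj' n).2 (h.cen _ (H83.conj_mem' le_rfl hn hw)).symm).symm
  sq := by rw [conj_mul, h.sq]; simp
  fix := (comm_cj n).2 h.fix
  act v hv := by
    rcases h.act _ (H83.conj_mem' le_rfl hn hv) with e | e
    · left
      calc _ = n * (τ * (n⁻¹ * v * n) * τ⁻¹) * n⁻¹ := by group
        _ = v := by rw [e]; group
    · right
      calc _ = n * (τ * (n⁻¹ * v * n) * τ⁻¹) * n⁻¹ := by group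
        _ = _ := by rw [e]; group

theorem act' (h : Tr E τ δ) {v : G} (hv : v ∈ E) (hn : ¬ Commute τ v) : τ * v * τ⁻¹ = v * δ :=
  (h.act v hv).resolve_left fun e => hn (cj_iff.1 e)

theorem mul (h : Tr E τ δ) {v w : G} (hv : v ∈ E) (hw : w ∈ E) (h1 : ¬ Commute τ v)
    (h2 : ¬ Commute τ w) : Commute τ (v * w) := by
  rw [← cj_iff, ← conj_mul, h.act' hv h1, h.act' hw h2]
  calc v * δ * (w * δ) = v * (δ * w) * δ := by group
    _ = v * w := by rw [← (h.cen w hw).eq, mul_assoc, mul_assoc, h.sq, mul_one]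

theorem sq_comm (h : Tr E τ δ) {v : G} (hv : v ∈ E) : Commute τ (v * v) := by
  by_cases h1 : Commute τ v
  · exact h1.mul_right h1
  · exact h.mul hv hv h1 h1

theorem comm_comm (h : Tr E τ δ) {v w : G} (hv : v ∈ E) (hw : w ∈ E) :
    Commute τ (v * w * v⁻¹ * w⁻¹) := by
  rw [← cj_iff, ← conj_mul, ← conj_mul, ← conj_mul, ← conj_inv, ← conj_inv]
  have a := (h.cen v hv).eq
  have b := (h.cen w hw).eq
  have a' := (h.cen v hv).inv_left.eq
  have b' := (h.cen w hw).inv_left.eq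
  have hi : δ⁻¹ = δ := inv_eq_of_mul_eq_one_right h.sq
  have s2 : ∀ x, δ * (δ * x) = x := fun x => by rw [← mul_assoc, h.sq, one_mul]
  have a1 : ∀ x, v * (δ * x) = δ * (v * x) := fun x => by rw [← mul_assoc, a, mul_assoc]
  have b1 : ∀ x, w * (δ * x) = δ * (w * x) := fun x => by rw [← mul_assoc, b, mul_assoc]
  have a2 : ∀ x, v⁻¹ * (δ * x) = δ * (v⁻¹ * x) := fun x => by rw [← mul_assoc, a', mul_assoc]
  rcases h.act v hv with e | e <;> rcases h.act w hw with e' | e' <;> rw [e, e'] <;>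
    simp only [mul_inv_rev, hi, mul_assoc, a1, b1, a2, s2]

theorem sq_cent (h : Tr E τ δ) {v : G} (hv : v ∈ E) : Commute (τ ^ 2 ^ 1) v := by
  rw [← cj_iff]
  have : τ ^ 2 ^ 1 * v * (τ ^ 2 ^ 1)⁻¹ = τ * (τ * v * τ⁻¹) * τ⁻¹ := by
    rw [pow_one, pow_two]; group
  rw [this]
  rcases h.act v hv with e | e
  · rw [e, e]
  · rw [e, ← conj_mul, e, cj_iff.2 h.fix, mul_assoc, h.sq, mul_one]

theorem mem_norm [Finite G] (h : Tr E τ δ) : τ ∈ normalizer (E : Set G) := by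
  refine mem_normalizer_fintype fun v hv => ?_
  rcases h.act v hv with e | e
  · rw [e]; exact hv
  · rw [e]; exact mul_mem hv h.mem

theorem cent_comm {α β δ' : G} (h : Tr E α δ) (h' : Tr E β δ') (h1 : Commute α δ')
    (h2 : Commute β δ) : (β * α)⁻¹ * (α * β) ∈ centralizer (E : Set G) := by
  intro v hv
  have : α * (β * v * β⁻¹) * α⁻¹ = β * (α * v * α⁻¹) * β⁻¹ := by
    rcases h.act v hv with e | e <;> rcases h'.act v hv with e' | e' <;>
      simp only [e, e', ← conj_mul, cj_iff.2 h1, cj_iff.2 h2]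
    rw [mul_assoc, mul_assoc, (h.cen _ h'.mem).eq]
  calc v * ((β * α)⁻¹ * (α * β))
      = (β * α)⁻¹ * (β * (α * v * α⁻¹) * β⁻¹) * (α * β) := by group
    _ = (β * α)⁻¹ * (α * (β * v * β⁻¹) * α⁻¹) * (α * β) := by rw [this]
    _ = _ := by group

theorem rho {α β δ' : G} (h : Tr E α δ) (h' : Tr E β δ') (h2 : Commute β δ) :
    Tr E ((α * β) ^ 2) δ ∧ Commute ((α * β) ^ 2) δ' ∧
      (¬ Commute α δ' → δ ≠ 1 → ∀ v ∈ E, ¬ Commute β v → ¬ Commute ((α * β) ^ 2) v) := by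
  have key : ∀ v, (α * β) ^ 2 * v * ((α * β) ^ 2)⁻¹ =
      α * (β * (α * (β * v * β⁻¹) * α⁻¹) * β⁻¹) * α⁻¹ := fun v => by rw [pow_two]; group
  have s2 : ∀ x, δ * (δ * x) = x := fun x => by rw [← mul_assoc, h.sq, one_mul]
  have s3 : ∀ x, δ' * (δ' * x) = x := fun x => by rw [← mul_assoc, h'.sq, one_mul]
  have c0 : δ * δ' = δ' * δ := (h.cen _ h'.mem).symm.eq
  have c1 : ∀ x, δ * (δ' * x) = δ' * (δ * x) := fun x => by rw [← mul_assoc, c0, mul_assoc]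
  have f1 := cj_iff.2 h.fix
  have f2 := cj_iff.2 h'.fix
  have f3 := cj_iff.2 h2
  have A : ∀ v ∈ E, β * v * β⁻¹ = v → (α * β) ^ 2 * v * ((α * β) ^ 2)⁻¹ = v := by
    intro v hv e'
    rw [key]
    rcases h.act v hv with e | e <;>
      simp only [e, e', ← conj_mul, f1, f3, mul_assoc v, h.sq, mul_one]
  have B : ∀ v ∈ E, β * v * β⁻¹ = v * δ' → (α * β) ^ 2 * v * ((α * β) ^ 2)⁻¹ =
      v * (δ' * (α * δ' * α⁻¹)) := by
    intro v hv e'
    rw [key]
    rcases h.act v hv with e | e <;> rcases h.act _ h'.mem with e'' | e'' <;>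
      simp only [e, e', e'', ← conj_mul, f1, f2, f3, mul_assoc v, mul_assoc δ, mul_assoc δ',
        h.sq, h'.sq, mul_one, s2, s3, c0, c1]
  refine ⟨⟨h.mem, h.cen, h.sq, (h.fix.mul_left h2).pow_left 2, fun v hv => ?_⟩,
    cj_iff.1 (A _ h'.mem f2), fun h3 h4 v hv h5 h6 => h4 ?_⟩
  · rcases h'.act v hv with e | e
    · exact Or.inl (A v hv e)
    · rw [B v hv e]
      rcases h.act _ h'.mem with e'' | e''
      · left; rw [e'', h'.sq, mul_one]
      · right; rw [e'', s3]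
  · have := B v hv (h'.act' hv h5)
    rw [cj_iff.2 h6, h.act' h'.mem h3, s3] at this
    exact (mul_eq_left.1 this.symm)

end Tr

variable [Finite G]

theorem exists_odd_pow (g : G) : ∃ k, Odd k ∧ ∃ j, (g ^ k) ^ 2 ^ j = 1 := by
  obtain ⟨j, k, hk, e⟩ := Nat.exists_eq_two_pow_mul_odd (orderOf_pos g).ne'
  exact ⟨k, hk, j, by rw [← pow_mul, mul_comm, ← e, pow_orderOf_eq_one]⟩

theorem exp_of_two (S : Sylow 2 G) {n : ℕ} (he : ∀ s ∈ (S : Subgroup G), s ^ n = 1) {g : G}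
    {j : ℕ} (hg : g ^ 2 ^ j = 1) : g ^ n = 1 := by
  obtain ⟨h, -, hh⟩ := (isSylowIn_top S).exists_conj_le (pgroup_zpowers hg) le_top
  have := he _ (hh (conj_mem_conj_smul.2 (mem_zpowers g)))
  rw [conj_pow] at this
  simpa using this

/-- An element swapping two points fixed by a Sylow 2-subgroup fixes them. -/
theorem swap_fix {T X : Subgroup G} (hT : IsSylowIn 2 T X) {i i' a : G}
    (h1 : ∀ s ∈ T, Commute s i) (h2 : ∀ s ∈ T, Commute s i') (ha : a ∈ X)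
    (h3 : a * i * a⁻¹ = i') (h4 : a * i' * a⁻¹ = i) : i' = i := by
  have hN : ∀ b : G, (b * i * b⁻¹ = i ∧ b * i' * b⁻¹ = i') ∨ (b * i * b⁻¹ = i' ∧ b * i' * b⁻¹ = i) →
      b ∈ normalizer ({i, i'} : Set G) := by
    intro b hb
    rw [mem_normalizer_iff_conj_image_eq, Set.image_pair]
    rcases hb with ⟨e1, e2⟩ | ⟨e1, e2⟩
    · simp only [MulAut.conj_apply, e1, e2]
    · simp only [MulAut.conj_apply, e1, e2, Set.pair_comm]
  have hS : IsSylowIn 2 T (X ⊓ normalizer ({i, i'} : Set G)) :=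
    hT.mono (le_inf hT.le fun s hs => hN s (Or.inl ⟨cj_iff.2 (h1 s hs), cj_iff.2 (h2 s hs)⟩))
      inf_le_left
  obtain ⟨k, hk, j, hj⟩ := exists_odd_pow a
  obtain ⟨h, hh, h5⟩ := hS.exists_conj_le (pgroup_zpowers hj)
    (zpowers_le.2 (pow_mem (mem_inf.2 ⟨ha, hN a (Or.inr ⟨h3, h4⟩)⟩) k))
  have h6 := h5 (conj_mem_conj_smul.2 (mem_zpowers _))
  have h7 := (comm_cj' h).1 (h1 _ h6)
  have h8 := (mem_set_normalizer_iff''.1 hh.2 i).1 (by simp)
  have sq1 : Commute (a ^ 2 ^ 1) i := by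
    rw [← cj_iff]
    calc _ = a * (a * i * a⁻¹) * a⁻¹ := by rw [pow_one, pow_two]; group
      _ = i := by rw [h3, h4]
  have sq2 : Commute (a ^ 2 ^ 1) i' := by
    rw [← cj_iff]
    calc _ = a * (a * i' * a⁻¹) * a⁻¹ := by rw [pow_one, pow_two]; group
      _ = i' := by rw [h4, h3]
  rcases h8 with e | e
  · rw [e] at h7
    rw [← h3, cj_iff.2 (comm_of_coprime hk h7 sq1)]
  · rw [Set.mem_singleton_iff.1 e] at h7
    rw [← h4, cj_iff.2 (comm_of_coprime hk h7 sq2)]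

/-- The transvection lemma. -/
theorem tv {S E : Subgroup G} (hS : IsPGroup 2 S) (hE : Ess 2 S E) {t d u : G} (htS : t ∈ S)
    (ht : Tr E t d) (hu : u ∈ E) (huE : ∀ v ∈ E, Commute v u) (htu : ¬ Commute t u) :
    (∀ s ∈ S, s ∈ normalizer (E : Set G) → s ∈ E ∨ s⁻¹ * t ∈ E) ∧
    ∃ n ∈ normalizer (E : Set G), ¬ Commute (n * t * n⁻¹) d ∧ ¬ Commute t (n * d * n⁻¹) ∧
      ∀ m ∈ normalizer (E : Set G), ∀ v ∈ E, (∀ w ∈ E, Commute w v) → Commute t v →
        Commute (n * t * n⁻¹) v → Commute (m * t * m⁻¹) v := by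
  obtain ⟨M, hC, hT, hlt, hM⟩ := hE.spe
  have hEM : E ≤ M := (le_inf hE.le le_normalizer).trans hT
  have H1 : ∀ τ ∈ M, τ ∉ E → (∃ j, τ ^ 2 ^ j = 1) → ∀ g ∈ normalizer (E : Set G),
      g * τ * g⁻¹ ∈ M → g ∈ M := by
    rintro τ hτ hτE ⟨j, hj⟩ g hg h
    refine hM g hg (E ⊔ zpowers τ) ?_ ?_ (sup_le hEM (zpowers_le.2 hτ)) ?_
    · exact IsPGroup.to_sup_of_normal_left' (hS.to_le hE.le) (pgroup_zpowers hj)
        (zpowers_le.2 (hlt.le hτ))
    · exact lt_of_le_of_ne le_sup_left fun e => hτE (e.ge (mem_sup_right (mem_zpowers τ)))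
    · rw [← map_conj_eq_smul, Subgroup.map_sup, map_conj_eq_smul,
        mem_normalizer_iff_conj_smul_eq.1 hg, MonoidHom.map_zpowers]
      exact sup_le hEM (zpowers_le.2 h)
  have H2 : ∀ τ ∈ M, ∀ v, (∀ w ∈ E, Commute w v) → ∀ j, Commute (τ ^ 2 ^ j) v → ¬ Commute τ v →
      ∀ g ∈ normalizer (E : Set G), g * τ * g⁻¹ ∈ M → g ∈ M := by
    intro τ hτ v hv j h1 h2 g hg h
    obtain ⟨k, hk, hk'⟩ := exists_odd_pow τ
    exact H1 _ (pow_mem hτ k) (fun h3 => h2 (comm_of_coprime hk (hv _ h3) h1)) hk' g hg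
      (by rw [← conj_pow]; exact pow_mem h k)
  have htN := ht.mem_norm
  have htM : t ∈ M := hT ⟨htS, htN⟩
  have hd1 : d ≠ 1 := fun e => htu (cj_iff.1 (by simpa [e] using ht.act u hu))
  have Ht : ∀ g ∈ normalizer (E : Set G), g * t * g⁻¹ ∈ M → g ∈ M :=
    H2 t htM u huE 1 (ht.sq_cent hu) htu
  have Hc : ∀ a b : G, b ∈ M → (b * a)⁻¹ * (a * b) ∈ centralizer (E : Set G) →
      a⁻¹ * b * a⁻¹⁻¹ ∈ M := fun a b hb h => by
    have := mul_mem hb (inv_mem (hC h))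
    rwa [show b * ((b * a)⁻¹ * (a * b))⁻¹ = a⁻¹ * b * a⁻¹⁻¹ by group] at this
  have pair : ∀ n ∈ normalizer (E : Set G), Commute (n * t * n⁻¹) d → n ∈ M := by
    intro n hn h
    have ht' := ht.conj hn
    refine Ht n hn (inv_mem_iff.1 ?_)
    by_cases h1 : Commute t (n * d * n⁻¹)
    · exact Ht _ (inv_mem ht'.mem_norm) (Hc _ _ htM (ht'.cent_comm ht h h1))
    · obtain ⟨r1, r2, r3⟩ := ht.rho ht' h
      have h2 : (t * (n * t * n⁻¹)) ^ 2 ∈ M := inv_mem_iff.1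
        (Ht _ (inv_mem r1.mem_norm) (Hc _ _ htM (r1.cent_comm ht r1.fix ht.fix)))
      have hu' := H83.conj_mem le_rfl hn hu
      exact H2 _ h2 (n * u * n⁻¹)
        (fun w hw => ((comm_cj' n).2 (huE _ (H83.conj_mem' le_rfl hn hw)).symm).symm) 1
        (r1.sq_cent hu') (r3 h1 hd1 _ hu' fun h3 => htu ((comm_cj n).1 h3)) _
        (inv_mem ht'.mem_norm) (Hc _ _ h2 (ht'.cent_comm r1 h r2))
  have pair' : ∀ m ∈ normalizer (E : Set G), ∀ m' ∈ normalizer (E : Set G),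
      Commute (m * t * m⁻¹) (m' * d * m'⁻¹) → m'⁻¹ * m ∈ M := by
    intro m hm m' hm' h
    refine pair _ (mul_mem (inv_mem hm') hm) ?_
    rw [← comm_cj m']
    simpa [mul_assoc] using h
  obtain ⟨n, hn, hnM⟩ := SetLike.exists_of_lt hlt
  have ht' := ht.conj hn
  have hn1 : ¬ Commute (n * t * n⁻¹) d := fun h => hnM (pair n hn h)
  have hn2 : ¬ Commute t (n * d * n⁻¹) := fun h =>
    hnM (inv_mem_iff.1 (by simpa using pair' 1 (one_mem _) n hn (by simpa using h)))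
  have hdd := ht'.act' ht.mem hn1
  have ht'M : n * t * n⁻¹ ∉ M := fun h => hnM (Ht n hn h)
  have three : ∀ m ∈ normalizer (E : Set G), m ∈ M ∨ n⁻¹ * m ∈ M ∨ (n * t * n⁻¹)⁻¹ * m ∈ M := by
    intro m hm
    by_contra h
    push Not at h
    refine h.2.2 (pair' m hm _ ht'.mem_norm ?_)
    rw [hdd]
    exact (ht.conj hm).mul ht.mem ht'.mem (fun h1 => h.1 (pair m hm h1))
      (fun h1 => h.2.1 (pair' m hm n hn h1))
  have key : ∀ s ∈ M, n⁻¹ * s * n⁻¹⁻¹ ∉ M → (n * t * n⁻¹)⁻¹ * (s * n) ∈ M := by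
    intro s hs h
    refine ((three _ (mul_mem (hlt.le hs) hn)).resolve_left fun h1 => hnM ?_).resolve_left
      (by simpa [mul_assoc] using h)
    simpa using mul_mem (inv_mem hs) h1
  have key2 : ∀ s ∈ M, ∀ s' ∈ M, n⁻¹ * s * n⁻¹⁻¹ ∉ M → n⁻¹ * s' * n⁻¹⁻¹ ∉ M →
      n⁻¹ * (s⁻¹ * s') * n⁻¹⁻¹ ∈ M := by
    intro s hs s' hs' h h'
    have := mul_mem (inv_mem (key s hs h)) (key s' hs' h')
    rwa [show ((n * t * n⁻¹)⁻¹ * (s * n))⁻¹ * ((n * t * n⁻¹)⁻¹ * (s' * n)) =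
      n⁻¹ * (s⁻¹ * s') * n⁻¹⁻¹ by group] at this
  have hnt : n⁻¹ * t * n⁻¹⁻¹ ∉ M := fun h => hnM (inv_mem_iff.1 (Ht _ (inv_mem hn) h))
  refine ⟨fun s hs hsN => ?_, n, hn, hn1, hn2, ?_⟩
  · by_contra h
    push Not at h
    have hsM := hT ⟨hs, hsN⟩
    have h1 := key2 s hsM t htM
      (fun h2 => hnM (inv_mem_iff.1 (H1 s hsM h.1 (two_el hS hs) _ (inv_mem hn) h2))) hnt
    exact hnM (inv_mem_iff.1 (H1 _ (mul_mem (inv_mem hsM) htM) h.2
      (two_el hS (mul_mem (inv_mem hs) htS)) _ (inv_mem hn) h1))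
  have star : ∀ μ ∈ M, ∀ v ∈ E, (∀ w ∈ E, Commute w v) → Commute t v →
      Commute (μ * t * μ⁻¹) v := by
    intro μ hμ v hv hvE h
    have hμN := hlt.le hμ
    have htμ := ht.conj hμN
    have hμM : μ * t * μ⁻¹ ∈ M := mul_mem (mul_mem hμ htM) (inv_mem hμ)
    have h1 : Commute (μ * t * μ⁻¹) d := by
      have a1 : ¬ Commute (μ * t * μ⁻¹) (n * d * n⁻¹) := fun h1 =>
        hnM (by simpa using mul_mem hμ (inv_mem (pair' μ hμN n hn h1)))
      have a2 : ¬ Commute (μ * t * μ⁻¹) (d * (n * d * n⁻¹)) := fun h1 => ht'M (by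
        simpa using mul_mem hμ (inv_mem (pair' μ hμN _ ht'.mem_norm (hdd ▸ h1))))
      have := htμ.mul (mul_mem ht.mem ht'.mem) ht'.mem a2 a1
      rwa [mul_assoc d, ht'.sq, mul_one] at this
    have h2 : n⁻¹ * (μ * t * μ⁻¹) * n⁻¹⁻¹ ∉ M := fun h2 => hnM (by
      have := Ht (n⁻¹ * μ) (mul_mem (inv_mem hn) hμN) (by simpa [mul_assoc] using h2)
      simpa using mul_mem hμ (inv_mem this))
    have h3 := key2 _ (inv_mem htM) _ hμM (fun h3 => hnt (by
      simpa [mul_assoc] using inv_mem h3)) h2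
    rw [inv_inv t] at h3
    by_contra h4
    have h5 := (ht.rho htμ h1).1.sq_cent hv
    rw [← pow_mul] at h5
    refine hnM (inv_mem_iff.1 (H2 _ (mul_mem htM hμM) v hvE 2 h5 (fun h6 => h4 ?_) _
      (inv_mem hn) h3))
    simpa using h.inv_left.mul_left h6
  intro m hm v hv hvE h1 h2
  have fin : ∀ k ∈ normalizer (E : Set G), k⁻¹ * m ∈ M → Commute (k * t * k⁻¹) v →
      Commute (m * t * m⁻¹) v := by
    intro k hk h3 h4
    have := star _ h3 _ (H83.conj_mem' le_rfl hk hv)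
      (fun w hw => (comm_cj' k).1 (hvE _ (H83.conj_mem le_rfl hk hw))) ((comm_cj' k).1 h4)
    rw [← comm_cj' k] at this
    simpa [mul_assoc] using this
  rcases three m hm with h | h | h
  · exact star m h v hv hvE h1
  · exact fin n hn h h2
  · exact fin _ ht'.mem_norm h ((h2.mul_left h1).mul_left h2.inv_left)

end Cfsg.Agent.H81.Sq
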