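import Cfsg.Agent.H81.SqA

/-! Elements of breadth at most one and essential subgroups. -/

set_option autoImplicit false

namespace Cfsg.Agent.H81.Sq

open Subgroup H8 H7
open scoped Pointwise

universe u

variable {G : Type*} [Group G]

/-- `a ∈ S` has at most two conjugates in `S`. -/
def Br (S : Subgroup G) (a : G) : Prop :=
  a ∈ S ∧ ∀ s ∈ S, ∀ s' ∈ S, ¬ Commute s a → ¬ Commute s' a → Commute (s * s') a

namespace Br

variable {S : Subgroup G} {y : G}

theorem sq (h : Br S y) {s : G} (hs : s ∈ S) : Commute (s * s) y := by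
  by_cases h1 : Commute s y
  · exact h1.mul_left h1
  · exact h.2 s hs s hs h1 h1

theorem cj (h : Br S y) {s m : G} (hs : s ∈ S) (hm : m ∈ S) (hc : Commute m y) :
    Commute (s * m * s⁻¹) y := by
  by_cases h1 : Commute s y
  · exact (h1.mul_left hc).mul_left h1.inv_left
  · refine h.2 _ (mul_mem hs hm) _ (inv_mem hs) (fun h2 => h1 ?_) (fun h2 => h1 ?_)
    · simpa using h2.mul_left hc.inv_left
    · simpa using h2.inv_left

theorem cj' (h : Br S y) {s m : G} (hs : s ∈ S) (hm : m ∈ S) (hc : Commute m y) :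
    Commute m (s⁻¹ * y * s) := (comm_cj' s).1 (h.cj hs hm hc)

theorem conj (h : Br S y) {n : G} (hn : n ∈ normalizer (S : Set G)) : Br S (n⁻¹ * y * n) := by
  refine ⟨H83.conj_mem' le_rfl hn h.1, fun s hs s' hs' h1 h2 => ?_⟩
  rw [← comm_cj'] at h1 h2 ⊢
  rw [← conj_mul]
  exact h.2 _ (H83.conj_mem le_rfl hn hs) _ (H83.conj_mem le_rfl hn hs') h1 h2

end Br

theorem core {a y : G} {k : ℕ} (h : Commute (a * a) y) (h1 : a ^ 2 ^ (k + 1) = 1)
    (h2 : (a * y) ^ 2 ^ (k + 1) = 1) : (a⁻¹ * y * a * y) ^ 2 ^ k = 1 := by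
  have h3 : (a * y) ^ 2 = a * a * (a⁻¹ * y * a * y) := by rw [pow_two]; group
  have h4 : Commute (a * a) a := (Commute.refl a).mul_left (Commute.refl a)
  rw [pow_succ', pow_mul] at h1 h2
  rw [h3, (((h4.inv_right.mul_right h).mul_right h4).mul_right h).mul_pow, ← pow_two, h1,
    one_mul] at h2
  exact h2

theorem cpow (a y : G) (k : ℕ) : (a⁻¹ * y * a) ^ k = a⁻¹ * y ^ k * a := by
  simpa using conj_pow (a := a⁻¹) (b := y) (i := k)

theorem comm_of_mul_eq_one {a i : G} (hi : i * i = 1) (h : a⁻¹ * i * a * i = 1) : Commute a i := by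
  have h1 : a⁻¹ * i * a = i := by
    rw [eq_inv_of_mul_eq_one_left h, inv_eq_of_mul_eq_one_right hi]
  calc a * i = a * (a⁻¹ * i * a) := by rw [h1]
    _ = i * a := by group

theorem Br.top {S : Subgroup G} {y : G} (h : Br S y) {k : ℕ}
    (he : ∀ s ∈ S, s ^ 2 ^ (k + 1) = 1) {s : G} (hs : s ∈ S) : Commute s (y ^ 2 ^ k) := by
  have h1 := core (h.sq hs) (he s hs) (he _ (mul_mem hs h.1))
  rw [(h.cj' hs h.1 (Commute.refl y)).symm.mul_pow, cpow] at h1
  exact comm_of_mul_eq_one (by rw [← pow_two, ← pow_mul, ← pow_succ, he y h.1]) h1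

variable [Finite G]

theorem alpha0 (S : Sylow 2 G) {f : ℕ} (he : ∀ s ∈ (S : Subgroup G), s ^ 2 ^ (f + 2) = 1)
    {E : Subgroup G} (hE : Ess 2 S E) {y : G} (hy : Br S y) (hyE : y ∈ E) {a : G}
    (ha : a ∈ normalizer (E : Set G)) (ha2 : a * a ∈ E) (hc : Commute (a * a) y) :
    Commute a (y ^ 2 ^ (f + 1)) := by
  have e2 : ∀ b : G, b * b ∈ E → b ^ 2 ^ (f + 2) = 1 := fun b hb =>
    exp_of_two S he (j := f + 3) (by rw [pow_succ', pow_mul, pow_two, he _ (hE.le hb)])
  have hz : a⁻¹ * y * a ∈ E := H83.conj_mem' le_rfl ha hyE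
  have h1 := core hc (e2 a ha2) (e2 _ (by
    rw [show a * y * (a * y) = a * a * (a⁻¹ * y * a) * y by group]
    exact mul_mem (mul_mem ha2 hz) hyE))
  have hi : y ^ 2 ^ (f + 1) * y ^ 2 ^ (f + 1) = 1 := by
    rw [← pow_two, ← pow_mul, ← pow_succ, he y hy.1]
  have hzi := cpow a y (2 ^ (f + 1))
  set z := a⁻¹ * y * a with hzd
  have hzS := hE.le hz
  by_cases h2 : Commute z y
  · rw [h2.mul_pow, hzi] at h1
    exact comm_of_mul_eq_one hi h1
  set κ := y⁻¹ * (z⁻¹ * y * z) with hκ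
  have k0 : ∀ m ∈ (S : Subgroup G), Commute m y → Commute m κ := fun m hm h =>
    h.inv_right.mul_right (hy.cj' hzS hm h)
  have k1 : Commute y κ := k0 y hy.1 (Commute.refl y)
  have k2 : Commute (y * y) z := by
    rw [hzd, ← comm_cj', ← conj_mul]
    exact hy.sq (hE.le (H83.conj_mem le_rfl ha hyE))
  have k3 : z⁻¹ * y * z = y * κ := by rw [hκ]; group
  have k4 : κ * κ = 1 := by
    have : z⁻¹ * (y * y) * z = y * y := by rw [mul_assoc, k2.eq]; group
    rw [show z⁻¹ * (y * y) * z = (z⁻¹ * y * z) * (z⁻¹ * y * z) by group, k3,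
      show y * κ * (y * κ) = y * (κ * y) * κ by group, ← k1.eq] at this
    simpa [mul_assoc] using this
  have k5 : Commute z κ := by
    have h3 : z⁻¹ * (z⁻¹ * y * z) * z = y := by
      rw [show z⁻¹ * (z⁻¹ * y * z) * z = (z * z)⁻¹ * (y * (z * z)) by group, ← (hy.sq hzS).eq]
      group
    rw [k3, show z⁻¹ * (y * κ) * z = (z⁻¹ * y * z) * (z⁻¹ * κ * z) by group, k3, mul_assoc,
      mul_eq_left] at h3
    refine comm_of_mul_eq_one k4 ?_
    rw [eq_inv_of_mul_eq_one_right h3, inv_mul_cancel]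
  have k6 : ∀ s ∈ (S : Subgroup G), Commute s κ := by
    intro s hs
    by_cases h3 : Commute s y
    · exact k0 s hs h3
    · simpa using (k0 _ (mul_mem hs hzS) (hy.2 s hs z hzS h3 h2)).mul_left k5.inv_left
  have k7 : (z * y) ^ 2 = z * z * (y * y) * κ := by
    rw [pow_two, show z * y * (z * y) = z * z * (z⁻¹ * y * z) * y by group, k3,
      mul_assoc (z * z), mul_assoc y, ← k1.eq]
    group
  have c1 : Commute (z * z) (y * y) := (hy.sq hzS).mul_right (hy.sq hzS)
  have c2 : Commute (z * z * (y * y)) κ := (k5.mul_left k5).mul_left (k1.mul_left k1)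
  rw [pow_succ', pow_mul, k7, c2.mul_pow, c1.mul_pow, ← pow_two, ← pow_two, ← pow_mul, ← pow_mul,
    ← pow_succ', hzi, mul_assoc] at h1
  have h3 := eq_inv_of_mul_eq_one_left h1
  have hiE : Commute (a * a) (y ^ 2 ^ (f + 1)) := hc.pow_right _
  have h4 := swap_fix hE.syl (i := y ^ 2 ^ (f + 1)) (i' := a⁻¹ * y ^ 2 ^ (f + 1) * a) (a := a⁻¹)
    (fun s hs => hy.top he hs.1) (fun s hs => by
      rw [h3]; exact ((hy.top he hs.1).mul_right ((k6 s hs.1).pow_right _)).inv_right)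
    (inv_mem ha) (by simp) (by
      rw [show a⁻¹ * (a⁻¹ * y ^ 2 ^ (f + 1) * a) * a⁻¹⁻¹ = (a * a)⁻¹ * (y ^ 2 ^ (f + 1) * (a * a))
        by group, ← hiE.eq]; group)
  exact comm_of_mul_eq_one hi (by rw [h4, hi])

theorem alpha (S : Sylow 2 G) {f : ℕ} (he : ∀ s ∈ (S : Subgroup G), s ^ 2 ^ (f + 2) = 1)
    {E : Subgroup G} (hE : Ess 2 S E) {y : G} (hy : Br S y) (hyE : y ∈ E) {a : G}
    (ha : a ∈ normalizer (E : Set G)) (ha2 : a * a ∈ E) : Commute a (y ^ 2 ^ (f + 1)) := by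
  by_contra hn
  have h1 : ∀ w ∈ E, ¬ Commute (a * a * (a⁻¹ * w * a) * w) y := by
    intro w hw h
    have h2 : a * w * (a * w) = a * a * (a⁻¹ * w * a) * w := by group
    have := alpha0 S he hE hy hyE (mul_mem ha (le_normalizer hw))
      (h2 ▸ mul_mem (mul_mem ha2 (H83.conj_mem' le_rfl ha hw)) hw) (h2 ▸ h)
    exact hn (by simpa using this.mul_left (hy.top he (hE.le hw)).inv_left)
  have h2 : ¬ Commute (a * a) y := by simpa using h1 1 (one_mem _)
  set E0 := E ⊓ centralizer ({y} : Set G) with hE0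
  have h3 : a ∈ normalizer (E0 : Set G) := by
    rw [← inv_mem_iff]
    refine mem_normalizer_fintype fun w hw => ?_
    have hw' := H83.conj_mem' le_rfl ha hw.1
    have hwy : Commute w y := mem_centralizer_singleton_iff.1 hw.2
    rw [inv_inv]
    refine ⟨hw', mem_centralizer_singleton_iff.2 ?_⟩
    have := hy.2 _ (inv_mem (hE.le ha2)) _ (mul_mem (hE.le ha2) (hE.le hw'))
      (fun h => h2 (by simpa using h.inv_left)) (fun h => h1 w hw.1 (h.mul_left hwy))
    rwa [inv_mul_cancel_left] at this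
  have hS : IsSylowIn 2 ((S : Subgroup G) ⊓ normalizer (E : Set G))
      (normalizer (E : Set G) ⊓ normalizer (E0 : Set G)) := by
    refine hE.syl.mono (le_inf inf_le_right ?_) inf_le_left
    rw [le_normalizer_iff]
    exact fun s hs w hw => ⟨H83.conj_mem le_rfl hs.2 hw.1, mem_centralizer_singleton_iff.2
      (hy.cj hs.1 (hE.le hw.1) (mem_centralizer_singleton_iff.1 hw.2))⟩
  obtain ⟨h, hh, h4⟩ := hS.exists_conj_le (pgroup_zpowers (x := a) (k := f + 3)
    (by rw [pow_succ', pow_mul, pow_two, he _ (hE.le ha2)])) (zpowers_le.2 ⟨ha, h3⟩)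
  have h5 := hy.sq (h4 (conj_mem_conj_smul.2 (mem_zpowers a))).1
  rw [conj_mul] at h5
  exact h2 (mem_centralizer_singleton_iff.1 (((mem_normalizer_iff.1 hh.2 _).2
    ⟨H83.conj_mem le_rfl hh.1 ha2, mem_centralizer_singleton_iff.2 h5⟩).2))

omit [Finite G] in
theorem mem_norm_cent {N : Subgroup G} {X : Set G} (h : ∀ n ∈ N, ∀ v ∈ X, n⁻¹ * v * n ∈ X) :
    N ≤ normalizer ((centralizer X : Subgroup G) : Set G) := by
  rw [le_normalizer_iff]
  intro n hn c hc v hv
  exact ((comm_cj' n).2 (show Commute c _ from (hc _ (h n hn v hv)).symm)).symm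

theorem step_decomp {S E K : Subgroup G} {x : G} (hx : EssStep 2 S E x)
    (hK : normalizer (E : Set G) ≤ normalizer (K : Set G)) {a : G} (haS : a ∈ S)
    (haN : a ∈ normalizer (E : Set G)) (haK : a ∈ K) (haE : a ∉ E) :
    ∃ s ∈ E, ∃ γ ∈ K, s * γ = x := by
  have hE := hx.1
  have h1 : normalizer (E : Set G) ≤
      normalizer ((normalizer (E : Set G) ⊓ K : Subgroup G) : Set G) :=
    H83.le_norm_inf le_normalizer hK
  have h2 := H83.le_norm_sup (le_refl (normalizer (E : Set G))) h1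
  have h3 : E ⊔ normalizer (E : Set G) ⊓ K ≤ normalizer (E : Set G) :=
    sup_le le_normalizer inf_le_left
  have h4 := map_subtype_le _ (hx.2 _ le_sup_left h3 h2 ((lt_inf_iff_dvd_relIndex hE.syl h3 h2
    (le_inf hE.le le_normalizer) le_sup_left).1 (lt_of_le_of_ne
      (le_inf (le_inf hE.le le_normalizer) le_sup_left)
      fun h => haE (h.ge ⟨⟨haS, haN⟩, mem_sup_right ⟨haN, haK⟩⟩))))
  obtain ⟨s, hs, γ, hγ, e⟩ := (H83.mem_sup_right_norm (le_normalizer.trans h1)).1 h4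
  exact ⟨s, hs, γ, hγ.2, e⟩

theorem sc_of_control (S : Sylow 2 G) {U : Subgroup G} (hU : U ≤ S)
    (h1 : normalizer ((S : Subgroup G) : Set G) ≤ normalizer (U : Set G))
    (h2 : ∀ E x, EssStep 2 (S : Subgroup G) E x → x ∈ normalizer (U : Set G)) :
    IsStronglyClosed U (S : Subgroup G) := by
  refine ⟨hU, fun x hx g hg => ?_⟩
  obtain ⟨k, hk, h⟩ := controls_fusion_of_ess S (normalizer (U : Set G))
    (fun y hy => ⟨y, h1 hy, fun _ _ => rfl⟩) (fun E x h => ⟨x, h2 E x h, fun _ _ => rfl⟩)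
    (A := {x}) (Set.singleton_subset_iff.2 (hU hx)) (g := g⁻¹)
    (by rw [Set.image_singleton, inv_inv]; exact Set.singleton_subset_iff.2 hg)
  have := h x rfl
  rw [inv_inv] at this
  rw [← this]
  exact H83.conj_mem' le_rfl hk hx

theorem exists_exp {S : Subgroup G} (hS : IsPGroup 2 S) (h : ¬ ∀ s ∈ S, s ^ 2 = 1) :
    ∃ f, (∀ s ∈ S, s ^ 2 ^ (f + 2) = 1) ∧ ∃ s ∈ S, s ^ 2 ^ (f + 1) ≠ 1 := by
  classical
  have hex : ∃ e, ∀ s ∈ S, s ^ 2 ^ (e + 1) = 1 := by
    obtain ⟨e, he⟩ := IsPGroup.iff_card.1 hS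
    refine ⟨e, fun s hs => ?_⟩
    have := pow_card_eq_one' (G := S) (x := ⟨s, hs⟩)
    rw [he] at this
    rw [pow_succ, pow_mul, show s ^ 2 ^ e = 1 by simpa using congrArg Subtype.val this, one_pow]
  have h0 : Nat.find hex ≠ 0 := fun h0 => h (by simpa [h0] using Nat.find_spec hex)
  obtain ⟨e, he⟩ := Nat.exists_eq_succ_of_ne_zero h0
  have h1 := Nat.find_min hex (m := e) (by omega)
  push Not at h1
  exact ⟨e, by simpa [he] using Nat.find_spec hex, h1⟩

/-- A coset version of the Camina–Herzog theorem. -/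
theorem chp (n : ℕ) : ∀ (G : Type u) [Group G] [Finite G], Nat.card G = n →
    ∀ (S : Sylow 2 G) (P : Subgroup G) (y : G),
    y ∈ (S : Subgroup G) ⊓ centralizer ((S : Subgroup G) : Set G) → y ∉ P →
    (∀ s ∈ (S : Subgroup G), s * s ∈ P) →
    (∀ s ∈ (S : Subgroup G), s ∉ P →
      ∃ g : G, g⁻¹ * s * g ∈ (S : Subgroup G) ⊓ centralizer ((S : Subgroup G) : Set G)) →
    (S : Subgroup G) ≤ centralizer ((S : Subgroup G) : Set G) := by
  induction n using Nat.strong_induction_on with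
  | _ n ih =>
  intro G _ _ hn S P y hy hyP hsq h
  suffices H : ∀ s ∈ (S : Subgroup G), s ∉ P → s ∈ centralizer ((S : Subgroup G) : Set G) by
    intro s hs
    by_cases h1 : s ∈ P
    · simpa using mul_mem (H _ (mul_mem hs hy.1) fun h2 => hyP (by
        simpa using mul_mem (inv_mem h1) h2)) (inv_mem hy.2)
    · exact H s hs h1
  by_cases h2 : ∀ s ∈ (S : Subgroup G), s ^ 2 = 1
  · intro s hs _ a ha
    have i : ∀ b ∈ (S : Subgroup G), b⁻¹ = b := fun b hb =>
      inv_eq_of_mul_eq_one_right (by rw [← pow_two, h2 b hb])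
    rw [← i _ (mul_mem ha hs), mul_inv_rev, i s hs, i a ha]
  obtain ⟨e, he1, x, hxS, hx⟩ := exists_exp S.2 h2
  set W := H51.mhoZ (2 ^ (e + 1)) (S : Subgroup G) with hW
  have hWne : W ≠ ⊥ := by
    intro hb
    have h1 : ∀ s ∈ (S : Subgroup G), s ∉ P → s ^ 2 ^ (e + 1) = 1 := by
      intro s hs hsP
      obtain ⟨g, hg⟩ := h s hs hsP
      have h1 : (g⁻¹ * s * g) ^ 2 ^ (e + 1) ∈ W := ⟨_, hg, rfl⟩
      rw [hb, mem_bot, cpow] at h1
      simpa [mul_assoc] using congrArg (fun a => g * a * g⁻¹) h1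
    by_cases h3 : x ∈ P
    · have h4 := h1 _ (mul_mem hxS hy.1) fun h4 => hyP (by simpa using mul_mem (inv_mem h3) h4)
      rw [Commute.mul_pow (hy.2 x hxS), h1 y hy.1 hyP, mul_one] at h4
      exact hx h4
    · exact hx (h1 x hxS h3)
  have hWP : W ≤ P := by
    rintro _ ⟨z, hz, rfl⟩
    rw [pow_succ, pow_mul, pow_two]
    exact hsq _ (pow_mem hz.1 _)
  set K := normalizer (W : Set G) with hK
  have hSK : (S : Subgroup G) ≤ K := le_normalizer.trans (H51.normalizer_le_normalizer_mhoZ _ _)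
  by_cases hKt : K = ⊤
  · have : W.Normal := normalizer_eq_top_iff.1 hKt
    have hlt : Nat.card (G ⧸ W) < n := by
      rw [← hn, card_eq_card_quotient_mul_card_subgroup W]
      exact lt_mul_of_one_lt_right Nat.card_pos (one_lt_card_iff_ne_bot _ |>.2 hWne)
    have hz : ∀ z ∈ (S : Subgroup G) ⊓ centralizer ((S : Subgroup G) : Set G),
        QuotientGroup.mk' W z ∈
          (S.mapSurjective (QuotientGroup.mk'_surjective W) : Subgroup (G ⧸ W)) ⊓ centralizer
            ((S.mapSurjective (QuotientGroup.mk'_surjective W) : Subgroup (G ⧸ W)) : Set (G ⧸ W)) := by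
      intro z hz
      refine ⟨⟨z, hz.1, rfl⟩, ?_⟩
      rintro _ ⟨s, hs, rfl⟩
      rw [← map_mul, hz.2 s hs, map_mul]
    have hP : ∀ s, QuotientGroup.mk' W s ∈ P.map (QuotientGroup.mk' W) → s ∈ P := by
      rintro s ⟨t, ht, ht'⟩
      obtain ⟨w, hw, rfl⟩ := (QuotientGroup.mk'_eq_mk' W).1 ht'
      exact mul_mem ht (hWP hw)
    have h3 := ih _ hlt (G ⧸ W) rfl (S.mapSurjective (QuotientGroup.mk'_surjective W))
      (P.map (QuotientGroup.mk' W)) _ (hz y hy) (fun h3 => hyP (hP _ h3))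
      (by rintro _ ⟨s, hs, rfl⟩; exact ⟨_, hsq s hs, map_mul _ _ _⟩)
      (by
        rintro _ ⟨s, hs, rfl⟩ h3
        obtain ⟨g, hg⟩ := h s hs fun h4 => h3 ⟨s, h4, rfl⟩
        exact ⟨QuotientGroup.mk' W g, by simpa using hz _ hg⟩)
    intro y hy hyP
    obtain ⟨g, hg⟩ := h y hy hyP
    set z := g⁻¹ * y * g with hz
    obtain ⟨m, hm, hm'⟩ := (S.mapSurjective (QuotientGroup.mk'_surjective W)
      ).conj_eq_normalizer_conj_of_mem_centralizer (QuotientGroup.mk' W z) (QuotientGroup.mk' W g⁻¹)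
      (h3 ⟨z, hg.1, rfl⟩)
      (h3 ⟨y, hy, by rw [← map_inv, ← map_mul, ← map_mul, hz]; congr 1; group⟩)
    obtain ⟨m, rfl⟩ := QuotientGroup.mk'_surjective W m
    have hWS : W ≤ (S : Subgroup G) := (H51.mhoZ_le _ _).trans inf_le_left
    have hmN : m ∈ normalizer ((S : Subgroup G) : Set G) := by
      apply mem_normalizer_of_conj_smul_le
      intro s hs
      rw [mem_conj_smul] at hs
      have h1 := (mem_normalizer_iff.1 hm (QuotientGroup.mk' W (m⁻¹ * s * m))).1 ⟨_, hs, rfl⟩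
      rw [← map_inv, ← map_mul, ← map_mul] at h1
      obtain ⟨t, ht, ht'⟩ := h1
      obtain ⟨w, hw, hw'⟩ := (QuotientGroup.mk'_eq_mk' W).1 ht'
      have : s = t * w := by rw [hw']; group
      rw [this]; exact mul_mem ht (hWS hw)
    rw [← map_inv, ← map_inv, ← map_mul, ← map_mul, ← map_mul, ← map_mul] at hm'
    obtain ⟨w, hw, hw'⟩ := (QuotientGroup.mk'_eq_mk' W).1 hm'.symm
    have h2 : m⁻¹ * z * m ∈ (S : Subgroup G) ⊓ centralizer ((S : Subgroup G) : Set G) := by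
      have := (mem_normalizer_iff.mp
        (H51.normalizer_le_normalizer_inf_centralizer (S : Subgroup G) (inv_mem hmN)) z).mp hg
      simpa using this
    have h3 : y = m⁻¹ * z * m * w := by rw [hw', hz]; group
    rw [h3]
    exact mul_mem h2.2 (H51.mhoZ_le _ _ hw).2
  · have hlt : Nat.card K < n := by
      rw [← hn, ← card_top (G := G)]
      exact card_lt_of_lt (lt_top_iff_ne_top.2 hKt)
    have hS := isSylowIn_of_le S hSK
    have hz : ∀ z : K, (z : G) ∈ (S : Subgroup G) ⊓ centralizer ((S : Subgroup G) : Set G) →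
        z ∈ (hS.toSylow : Subgroup K) ⊓ centralizer ((hS.toSylow : Subgroup K) : Set K) :=
      fun z hz => ⟨hz.1, fun s hs => Subtype.ext (hz.2 s hs)⟩
    have h3 := ih _ hlt K rfl hS.toSylow (P.subgroupOf K) ⟨y, hSK hy.1⟩ (hz _ hy) hyP
      (fun s hs => hsq s hs) (fun s hs hsP => by
        obtain ⟨g, hg⟩ := h s hs hsP
        obtain ⟨k, hk, hk'⟩ := H51.controls_fusion_mhoZ S he1 (A := {(s : G)})
          (Set.singleton_subset_iff.2 hs) (g := g)
          (by rw [Set.image_singleton]; exact Set.singleton_subset_iff.2 hg.1)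
        exact ⟨⟨k, hk⟩, hz _ (by simpa [hk' s rfl] using hg)⟩)
    intro s hs _ a ha
    exact congrArg Subtype.val (h3 (x := ⟨s, hSK hs⟩) hs ⟨a, hSK ha⟩ ha)

end Cfsg.Agent.H81.Sq
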