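import Cfsg.Agent.H81.SqB

/-! The structure of `S` when the top power of an element of breadth one is moved. -/

set_option autoImplicit false

namespace Cfsg.Agent.H81.Sq

open Subgroup H8 H7
open scoped Pointwise

variable {G : Type*} [Group G]

/-- The commutator of `y` and `u`. -/
def cc (y u : G) : G := y⁻¹ * (u * y * u⁻¹)

/-- `y` has breadth one in `S` and the involution `u ∈ S` does not commute with it. -/
structure Pr (S : Subgroup G) (y u : G) : Prop where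
  br : Br S y
  uS : u ∈ S
  uu : u * u = 1
  nc : ¬ Commute u y

namespace Pr

variable {S : Subgroup G} {y u : G}

theorem ui (h : Pr S y u) : u⁻¹ = u := inv_eq_of_mul_eq_one_right h.uu

theorem cS (h : Pr S y u) : cc y u ∈ S :=
  mul_mem (inv_mem h.br.1) (mul_mem (mul_mem h.uS h.br.1) (inv_mem h.uS))

theorem cM (h : Pr S y u) {m : G} (hm : m ∈ S) (hc : Commute m y) : Commute m (cc y u) :=
  hc.inv_right.mul_right (by simpa using h.br.cj' (inv_mem h.uS) hm hc)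

theorem yc (h : Pr S y u) : Commute y (cc y u) := h.cM h.br.1 (Commute.refl y)

theorem uyk (h : Pr S y u) (k : ℕ) : u * y ^ k * u⁻¹ = y ^ k * cc y u ^ k := by
  rw [← conj_pow, ← h.yc.mul_pow, cc, mul_inv_cancel_left]

theorem uy (h : Pr S y u) : u * y * u⁻¹ = y * cc y u := by simpa using h.uyk 1

theorem uc (h : Pr S y u) : u * cc y u * u⁻¹ = (cc y u)⁻¹ := by
  have h1 : u * (u * y * u⁻¹) * u⁻¹ = y := by
    rw [show u * (u * y * u⁻¹) * u⁻¹ = (u * u) * y * (u * u)⁻¹ by group, h.uu]; simp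
  rw [h.uy, ← conj_mul, h.uy, mul_assoc, mul_eq_left] at h1
  exact eq_inv_of_mul_eq_one_right h1

theorem spl (h : Pr S y u) {s : G} (hs : s ∈ S) (hn : ¬ Commute s y) : Commute (s * u) y :=
  h.br.2 s hs u h.uS hn h.nc

theorem cen (h : Pr S y u) {z : G} (h1 : ∀ m ∈ S, Commute m y → Commute m z) (h2 : Commute u z)
    {s : G} (hs : s ∈ S) : Commute s z := by
  by_cases h3 : Commute s y
  · exact h1 s hs h3
  · simpa using (h1 _ (mul_mem hs h.uS) (h.spl hs h3)).mul_left h2.inv_left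

theorem zeta (h : Pr S y u) {s : G} (hs : s ∈ S) : Commute s (y * y * cc y u) := by
  refine h.cen (fun m hm hc => (hc.mul_right hc).mul_right (h.cM hm hc)) ?_ hs
  rw [← cj_iff, ← conj_mul, ← conj_mul, h.uy, h.uc, mul_assoc, mul_inv_cancel_right,
    mul_assoc y, ← h.yc.eq, mul_assoc]

theorem zeta_pow (h : Pr S y u) (k : ℕ) :
    (y * y * cc y u) ^ 2 ^ k = y ^ 2 ^ (k + 1) * cc y u ^ 2 ^ k := by
  rw [(h.yc.mul_left h.yc).mul_pow, ← pow_two, ← pow_mul, ← pow_succ']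

theorem cen_c (h : Pr S y u) {k : ℕ} (hk : cc y u ^ k * cc y u ^ k = 1) {s : G} (hs : s ∈ S) :
    Commute s (cc y u ^ k) := by
  refine h.cen (fun m hm hc => (h.cM hm hc).pow_right _) ?_ hs
  rw [← cj_iff, ← conj_pow, h.uc, inv_pow, inv_eq_of_mul_eq_one_right hk]

theorem act (h : Pr S y u) {k : ℕ} (hk : cc y u ^ k * cc y u ^ k = 1) {v : G} (hv : v ∈ S)
    (hn : ¬ Commute v y) : y ^ k * v * (y ^ k)⁻¹ = v * cc y u ^ k := by
  have h1 := cj_iff.2 ((h.spl hv hn).pow_right k).symm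
  have h2 := h.uyk k
  have h3 := cj_iff.2 ((h.yc.pow_left k).pow_right k)
  calc y ^ k * v * (y ^ k)⁻¹
      = (y ^ k * (v * u) * (y ^ k)⁻¹) * u⁻¹ * ((u * y ^ k * u⁻¹) * (y ^ k)⁻¹) := by group
    _ = _ := by rw [h1, h2, h3]; group

end Pr

theorem pow_reach {c : G} {f k : ℕ} (h : c ^ 2 ^ f * c ^ 2 ^ f = 1) (hk : c ^ k ≠ 1) :
    ∃ l, (c ^ k) ^ l = c ^ 2 ^ f := by
  obtain ⟨a, m, ⟨r, rfl⟩, rfl⟩ := Nat.exists_eq_two_pow_mul_odd (n := k) (by rintro rfl; simp at hk)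
  rw [← pow_two] at h
  by_cases ha : a ≤ f
  · obtain ⟨b, rfl⟩ := Nat.exists_eq_add_of_le ha
    refine ⟨2 ^ b, ?_⟩
    rw [← pow_mul, show 2 ^ a * (2 * r + 1) * 2 ^ b = 2 ^ (a + b) * 2 * r + 2 ^ (a + b) by ring,
      pow_add, pow_mul, pow_mul, h, one_pow, one_mul]
  · obtain ⟨b, rfl⟩ := Nat.exists_eq_add_of_lt (not_le.1 ha)
    exact absurd (by rw [show 2 ^ (f + b + 1) * (2 * r + 1) = 2 ^ f * 2 * (2 ^ b * (2 * r + 1)) by
      ring, pow_mul, pow_mul c, h, one_pow]) hk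

theorem zp_two {u a : G} (hu : u * u = 1) (ha : a ∈ zpowers u) : a = 1 ∨ a = u := by
  obtain ⟨k, rfl⟩ := ha
  have h2 : u ^ (2 : ℤ) = 1 := by rw [zpow_two, hu]
  rcases Int.even_or_odd' k with ⟨j, rfl | rfl⟩
  · left; simp only [zpow_mul, h2, one_zpow]
  · right; simp only [zpow_add, zpow_mul, h2, one_zpow, zpow_one, one_mul]

/-- `S = D ∘ ⟨y, u⟩`. -/
structure Beta (S : Subgroup G) (f : ℕ) (y u : G) (D : Subgroup G) : Prop extends Pr S y u where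
  DS : D ≤ S
  Dy : ∀ w ∈ D, Commute w y
  Du : ∀ w ∈ D, Commute w u
  dec : ∀ s ∈ S, Commute s y → ∃ k : ℕ, ∃ w ∈ D, s = y ^ k * w
  iD : y ^ 2 ^ (f + 1) ∉ D
  cD : ∀ k : ℕ, cc y u ^ k ∈ D → cc y u ^ k = 1
  d1 : cc y u ^ 2 ^ f ≠ 1
  dd : cc y u ^ 2 ^ f * cc y u ^ 2 ^ f = 1
  idD : y ^ 2 ^ (f + 1) * cc y u ^ 2 ^ f ∈ D
  fus : ∃ n : G, n * cc y u ^ 2 ^ f * n⁻¹ ∈ S ∧ Commute (n * cc y u ^ 2 ^ f * n⁻¹) u ∧
    ¬ Commute (n * cc y u ^ 2 ^ f * n⁻¹) y
  fixD : ∀ n ∈ normalizer ((S ⊓ centralizer ({u} : Set G) : Subgroup G) : Set G), ∀ s ∈ S,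
    s ∈ normalizer ((S ⊓ centralizer ({u} : Set G) : Subgroup G) : Set G) → ∀ z ∈ D,
      (∀ w ∈ S, Commute w z) → Commute (n * s * n⁻¹) z

variable [Finite G]

omit [Finite G] in
theorem ess_cen {S E : Subgroup G} (hE : Ess 2 S E) {z : G} (hz : z ∈ S)
    (h : ∀ s ∈ E, Commute s z) : z ∈ E := hE.cent ⟨hz, h⟩

theorem beta0 (S : Sylow 2 G) {f : ℕ} (he : ∀ s ∈ (S : Subgroup G), s ^ 2 ^ (f + 2) = 1)
    {E : Subgroup G} {x : G} (hx : EssStep 2 (S : Subgroup G) E x) {y : G} (hy : Br S y)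
    (hn : ¬ Commute x (y ^ 2 ^ (f + 1))) :
    ∃ u ∈ E, (∀ w ∈ E, Commute w u) ∧ Pr S y u ∧ Tr E (y ^ 2 ^ f) (cc y u ^ 2 ^ f) ∧
      ¬ Commute (y ^ 2 ^ f) u ∧
      ∃ m ∈ normalizer (E : Set G), ¬ Commute (m * y ^ 2 ^ f * m⁻¹) (y ^ 2 ^ (f + 1)) := by
  classical
  have hE := hx.1
  have hiZ : ∀ s ∈ (S : Subgroup G), Commute s (y ^ 2 ^ (f + 1)) := fun s hs => hy.top he hs
  have hiE : y ^ 2 ^ (f + 1) ∈ E := ess_cen hE (pow_mem hy.1 _) fun s hs => hiZ s (hE.le hs)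
  set X : Set G := {v | ∃ n ∈ normalizer (E : Set G), v = n * y ^ 2 ^ (f + 1) * n⁻¹} with hX
  have hK : normalizer (E : Set G) ≤ normalizer ((centralizer X : Subgroup G) : Set G) :=
    mem_norm_cent (by
      rintro n hn _ ⟨m, hm, rfl⟩
      exact ⟨n⁻¹ * m, mul_mem (inv_mem hn) hm, by group⟩)
  have hEX : E ≤ centralizer X := by
    rintro w hw _ ⟨n, hn, rfl⟩
    exact (comm_cj' n).2 (hiZ _ (hE.le (H83.conj_mem' le_rfl hn hw))).symm
  have h1 : ∀ a ∈ (S : Subgroup G), a ∈ normalizer (E : Set G) → a ∈ centralizer X → a ∈ E := by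
    intro a haS haN haK
    by_contra haE
    obtain ⟨s, hs, γ, hγ, rfl⟩ := step_decomp hx hK haS haN haK haE
    exact hn ((hiZ s (hE.le hs)).mul_left
      (show Commute _ γ from hγ _ ⟨1, one_mem _, by simp⟩).symm)
  have hyE : y ∉ E := by
    intro hyE
    obtain ⟨a, ha, haE, ha2⟩ := H51.exists_not_mem_sq_mem (S.2.to_inf_left)
      (hE.lt_inf_normalizer S.2)
    refine haE (h1 a ha.1 ha.2 ?_)
    rintro _ ⟨n, hn, rfl⟩
    refine (comm_cj' n).2 (alpha S he hE hy hyE (mul_mem (mul_mem (inv_mem hn) ha.2) hn) ?_).symm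
    rw [← pow_two, cpow]
    exact H83.conj_mem' le_rfl hn ha2
  have h2 : y ∉ centralizer X := by
    intro h2
    obtain ⟨a, ha, haE⟩ := SetLike.exists_of_lt (lt_inf_normalizer_of_lt (S.2.to_inf_left)
      (lt_of_le_of_ne (le_inf hE.le hEX) fun e => hyE (e.ge ⟨hy.1, h2⟩)))
    exact haE (h1 a ha.1.1 ha.2 ha.1.2)
  rw [mem_centralizer_iff] at h2
  push Not at h2
  obtain ⟨_, ⟨n, hnN, rfl⟩, h2⟩ := h2
  set u := n * y ^ 2 ^ (f + 1) * n⁻¹ with hu
  have huE : u ∈ E := H83.conj_mem le_rfl hnN hiE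
  have huZ : ∀ w ∈ E, Commute w u := fun w hw => (show Commute u w from hEX hw u ⟨n, hnN, rfl⟩).symm
  have hP : Pr S y u := ⟨hy, hE.le huE, by
    rw [hu, conj_mul, ← pow_two, ← pow_mul, ← pow_succ, he y hy.1]; simp, h2⟩
  have hex : ∃ j, y ^ 2 ^ j ∈ E := ⟨_, hiE⟩
  obtain ⟨j, hj⟩ := Nat.exists_eq_succ_of_ne_zero
    (show Nat.find hex ≠ 0 from fun h0 => hyE (by simpa [h0] using Nat.find_spec hex))
  have h3 : y ^ 2 ^ (j + 1) ∈ E := by simpa [hj] using Nat.find_spec hex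
  have h4 : y ^ 2 ^ j ∉ E := Nat.find_min hex (by omega)
  have h5 : j ≤ f := by have := Nat.find_min' hex hiE; omega
  have h6 : cc y u ^ 2 ^ j * cc y u ^ 2 ^ j = 1 := by
    have := hP.uyk (2 ^ (j + 1))
    rwa [cj_iff.2 (huZ _ h3).symm, left_eq_mul, pow_succ, pow_mul, pow_two] at this
  have hT : Tr E (y ^ 2 ^ j) (cc y u ^ 2 ^ j) :=
    ⟨ess_cen hE (pow_mem hP.cS _) fun s hs => hP.cen_c h6 (hE.le hs),
      fun s hs => hP.cen_c h6 (hE.le hs), h6, (hP.yc.pow_left _).pow_right _, fun v hv => by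
        by_cases h7 : Commute v y
        · exact Or.inl (cj_iff.2 (h7.pow_right _).symm)
        · exact Or.inr (hP.act h6 (hE.le hv) h7)⟩
  have h7 : ¬ Commute (y ^ 2 ^ j) u := fun h7 => h4 (ess_cen hE (pow_mem hy.1 _) fun s hs => by
    by_cases h8 : Commute s y
    · exact h8.pow_right _
    · simpa using ((hP.spl (hE.le hs) h8).pow_right _).mul_left h7.symm.inv_left)
  have h8 : ¬ Commute (n⁻¹ * y ^ 2 ^ j * n⁻¹⁻¹) (y ^ 2 ^ (f + 1)) := by
    rw [comm_cj', inv_inv]; exact h7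
  rcases h5.eq_or_lt with rfl | h5
  · exact ⟨u, huE, huZ, hP, hT, h7, n⁻¹, inv_mem hnN, h8⟩
  · obtain ⟨b, rfl⟩ := Nat.exists_eq_add_of_lt h5
    refine absurd ?_ h8
    have := (hT.conj (inv_mem hnN)).sq_comm (pow_mem h3 (2 ^ b))
    rwa [← pow_two, ← pow_mul, ← pow_mul, show 2 ^ (j + 1) * (2 ^ b * 2) = 2 ^ (j + b + 1 + 1) by
      ring] at this

theorem gen_aux (S : Sylow 2 G) {f : ℕ} (he : ∀ s ∈ (S : Subgroup G), s ^ 2 ^ (f + 2) = 1)
    {E : Subgroup G} (hE : Ess 2 S E) {y u : G} (hP : Pr S y u) (huE : u ∈ E)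
    (huZ : ∀ w ∈ E, Commute w u) (hCu : ∀ s ∈ (S : Subgroup G), Commute s u → s ∈ E)
    (hT : ∀ s ∈ (S : Subgroup G), s ∈ normalizer (E : Set G) → s ∈ E ∨ s⁻¹ * y ^ 2 ^ f ∈ E)
    (hc0 : ∀ k : ℕ, ∀ v ∈ E, ∀ w ∈ E, cc y u ^ k = v * w * v⁻¹ * w⁻¹ → cc y u ^ k = 1)
    (hd1 : cc y u ^ 2 ^ f ≠ 1) {s : G} (hs : s ∈ (S : Subgroup G)) (hsy : Commute s y) :
    ∃ k : ℕ, ∃ w ∈ E, Commute w y ∧ s = y ^ k * w := by
  set E0 := E ⊓ centralizer ({y} : Set G) with hE0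
  have m0 : ∀ {w}, w ∈ E0 ↔ w ∈ E ∧ Commute w y := by
    intro w; rw [hE0, mem_inf, mem_centralizer_singleton_iff]; rfl
  set M1 := zpowers y ⊔ E0 with hM1
  have m1 : ∀ {s}, s ∈ M1 → ∃ k : ℕ, ∃ w ∈ E, Commute w y ∧ s = y ^ k * w := by
    intro s hs
    obtain ⟨a, ha, w, hw, rfl⟩ := (H83.mem_sup_right_norm (H83.le_norm_of_le_cent (by
      rw [zpowers_le]; exact fun w hw => (m0.1 hw).2))).1 hs
    obtain ⟨k, rfl⟩ := mem_powers_iff_mem_zpowers.2 ha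
    exact ⟨k, w, (m0.1 hw).1, (m0.1 hw).2, rfl⟩
  have yM : y ∈ M1 := mem_sup_left (mem_zpowers y)
  have eM : ∀ w ∈ E, Commute w y → w ∈ M1 := fun w hw h => mem_sup_right (m0.2 ⟨hw, h⟩)
  have My : ∀ s ∈ M1, Commute s y := fun s hs => by
    obtain ⟨k, w, -, hw, rfl⟩ := m1 hs
    exact ((Commute.refl y).pow_left k).mul_left hw
  have zS : y * y * cc y u ∈ (S : Subgroup G) := mul_mem (mul_mem hP.br.1 hP.br.1) hP.cS
  have zE : y * y * cc y u ∈ E := ess_cen hE zS fun s hs => hP.zeta (hE.le hs)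
  have zy : Commute (y * y * cc y u) y := (hP.zeta hP.br.1).symm
  have uN : zpowers u ≤ normalizer (M1 : Set G) := by
    rw [zpowers_le]
    refine mem_normalizer_fintype fun s hs => ?_
    obtain ⟨k, w, hw, hwy, rfl⟩ := m1 hs
    rw [← conj_mul, hP.uyk, cj_iff.2 (huZ w hw).symm]
    refine mul_mem (mul_mem (pow_mem yM _) (pow_mem ?_ _)) (eM w hw hwy)
    simpa only [inv_mul_cancel_left] using mul_mem (inv_mem (mul_mem yM yM)) (eM _ zE zy)
  set S1 := M1 ⊔ zpowers u with hS1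
  have s1 : ∀ s ∈ S1, s ∈ M1 ∨ s * u ∈ M1 := by
    intro s hs
    obtain ⟨m, hm, a, ha, rfl⟩ := (H83.mem_sup_left_norm uN).1 hs
    rcases zp_two hP.uu ha with rfl | rfl
    · left; simpa using hm
    · right; rwa [mul_assoc, hP.uu, mul_one]
  have s2 : ∀ s ∈ S1, Commute s y → s ∈ M1 := fun s hs h => (s1 s hs).resolve_right fun h1 =>
    hP.nc (by simpa using h.inv_left.mul_left (My _ h1))
  have uS1 : u ∈ S1 := mem_sup_right (mem_zpowers u)
  have hM1S : M1 ≤ S := sup_le (zpowers_le.2 hP.br.1) (inf_le_left.trans hE.le)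
  refine m1 ?_
  by_contra hsM
  obtain ⟨a, ha, haS⟩ := SetLike.exists_of_lt (lt_inf_normalizer_of_lt S.2 (lt_of_le_of_ne
    (sup_le hM1S (zpowers_le.2 hP.uS)) fun e : S1 = S => hsM (s2 s (e.ge hs) hsy)))
  have hlt : M1 < (S : Subgroup G) ⊓ centralizer ({y} : Set G) ⊓ normalizer (S1 : Set G) := by
    refine lt_of_le_of_ne (le_inf (le_inf hM1S fun s hs => mem_centralizer_singleton_iff.2
      (My s hs)) (le_sup_left.trans le_normalizer)) fun e => haS ?_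
    by_cases h1 : Commute a y
    · exact mem_sup_left (e.ge ⟨⟨ha.1, mem_centralizer_singleton_iff.2 h1⟩, ha.2⟩)
    · have := e.ge (show a * u ∈ _ from ⟨⟨mul_mem ha.1 hP.uS, mem_centralizer_singleton_iff.2
        (hP.spl ha.1 h1)⟩, mul_mem ha.2 (le_normalizer uS1)⟩)
      simpa using mul_mem (mem_sup_left this : a * u ∈ S1) (inv_mem uS1)
  obtain ⟨m, hm, hmM, hm2⟩ := H51.exists_not_mem_sq_mem (S.2.to_inf_left.to_inf_left) hlt
  have hmy : Commute m y := mem_centralizer_singleton_iff.1 hm.1.2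
  obtain ⟨k, ε, hε, hεy, hk⟩ := m1 ((s1 _ (H83.conj_mem' le_rfl hm.2 uS1)).resolve_left fun h =>
    hP.nc (by
      have := (comm_cj m).2 (My _ h)
      rwa [cj_iff.2 hmy, show m * (m⁻¹ * u * m) * m⁻¹ = u by group] at this))
  have hmS : m ∈ (S : Subgroup G) := hm.1.1
  have hmN : m ∈ normalizer (S1 : Set G) := hm.2
  clear hm
  induction k using Nat.strong_induction_on generalizing m ε with
  | _ k ih =>
  have hum : m⁻¹ * u * m = y ^ k * ε * u := by rw [← hk, mul_assoc _ u u, hP.uu, mul_one]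
  have A : ∀ v ∈ E0, m⁻¹ * v * m ∈ E0 := by
    intro v hv
    have h1 : Commute (m⁻¹ * v * m) y := (hmy.inv_left.mul_left (m0.1 hv).2).mul_left hmy
    obtain ⟨l, w, hw, hwy, hl⟩ := m1 (s2 _ (H83.conj_mem' le_rfl hmN
      (mem_sup_left (mem_sup_right hv))) h1)
    have h2 : Commute (m⁻¹ * u * m) (m⁻¹ * v * m) := by
      simpa using (comm_cj m⁻¹).2 (huZ v (m0.1 hv).1).symm
    rw [hum, mul_assoc] at h2
    have h3 : Commute (ε * u) (y ^ l * w) := by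
      simpa [← hl] using (h1.symm.pow_left k).inv_left.mul_left h2
    rw [← cj_iff, show ε * u * (y ^ l * w) * (ε * u)⁻¹ =
      ε * ((u * y ^ l * u⁻¹) * (u * w * u⁻¹)) * ε⁻¹ by group, hP.uyk, cj_iff.2 (huZ w hw).symm,
      ← conj_mul, ← conj_mul, cj_iff.2 (hεy.pow_right l),
      cj_iff.2 ((hP.cM (hE.le hε) hεy).pow_right l), mul_assoc, mul_left_cancel_iff] at h3
    have h4 := hc0 l w hw ε hε (by rw [eq_mul_inv_of_mul_eq h3]; group)
    have h5 := hP.uyk l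
    rw [h4, mul_one] at h5
    rw [hl]
    exact m0.2 ⟨mul_mem (hCu _ (pow_mem hP.br.1 _) (cj_iff.1 h5).symm) hw, hl ▸ h1⟩
  match k, ih, hk, hum with
  | 0, _, _, hum =>
    rw [pow_zero, one_mul] at hum
    have h1 : m ∈ normalizer (E : Set G) := by
      rw [← inv_mem_iff]
      refine mem_normalizer_fintype fun v hv => ?_
      rw [inv_inv]
      by_cases h1 : Commute v y
      · exact (A v (m0.2 ⟨hv, h1⟩)).1
      · have := mul_mem (m0.1 (A _ (m0.2 ⟨mul_mem hv huE, hP.spl (hE.le hv) h1⟩))).1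
          (inv_mem (mul_mem hε huE))
        rwa [← hum, show m⁻¹ * (v * u) * m * (m⁻¹ * u * m)⁻¹ = m⁻¹ * v * m by group] at this
    rcases hT m hmS h1 with h2 | h2
    · exact hmM (eM m h2 hmy)
    · have := mul_mem (pow_mem yM (2 ^ f)) (inv_mem (eM _ h2
        (hmy.inv_left.mul_left ((Commute.refl y).pow_left _))))
      exact hmM (by simpa using this)
  | 1, _, hk, hum =>
    rw [pow_one] at hum hk
    have hN : m ∈ normalizer (E0 : Set G) := by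
      rw [← inv_mem_iff]
      exact mem_normalizer_fintype fun v hv => by rw [inv_inv]; exact A v hv
    have h1 : Commute (m ^ 2) (y * ε) := by
      obtain ⟨l, w, hw, hwy, hl⟩ := m1 hm2
      have h2 : Commute w (m⁻¹ * u * m) :=
        (comm_cj' m).1 (huZ _ (H83.conj_mem le_rfl hN (m0.2 ⟨hw, hwy⟩)).1)
      rw [hl]
      refine (((Commute.refl y).mul_right hεy.symm).pow_left l).mul_left ?_
      rw [← hk]
      exact h2.mul_right (huZ w hw)
    have h2 : (m * u) ^ 2 = m ^ 2 * (y * ε) := by rw [← hk, pow_two, pow_two]; group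
    have h3 := he _ (mul_mem hmS hP.uS)
    have h4 := he _ hmS
    rw [pow_succ', pow_mul] at h3 h4
    rw [h2, h1.mul_pow, h4, one_mul, hεy.symm.mul_pow] at h3
    have h5 : y * y * cc y u * (ε * ε) = 1 := by
      have h6 : (m⁻¹ * u * m) * (m⁻¹ * u * m) = 1 := by
        rw [show (m⁻¹ * u * m) * (m⁻¹ * u * m) = m⁻¹ * (u * u) * m by group, hP.uu]; simp
      rw [hum, show y * ε * u * (y * ε * u) =
        y * (ε * (u * y * u⁻¹)) * (u * ε * u⁻¹) * (u * u) by group, hP.uu, hP.uy,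
        cj_iff.2 (huZ ε hε).symm, (hεy.mul_right (hP.cM (hE.le hε) hεy)).eq] at h6
      rw [← h6]; group
    rw [pow_succ' 2 f, pow_mul ε, pow_two ε, eq_inv_of_mul_eq_one_right h5, inv_pow, hP.zeta_pow,
      pow_succ' 2 f] at h3
    exact hd1 (mul_eq_left.1 (mul_inv_eq_one.1 h3).symm)
  | k + 2, ih, _, hum =>
    refine ih k (by omega) (m * y) (fun h => hmM (by simpa using mul_mem h (inv_mem yM))) ?_
      (hmy.mul_left (Commute.refl y)) (ε * (y * y * cc y u)) (mul_mem hε zE) (hεy.mul_left zy) ?_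
      (mul_mem hmS hP.br.1) (mul_mem hmN (le_normalizer (mem_sup_left yM)))
    · rw [hmy.mul_pow]; exact mul_mem hm2 (pow_mem yM _)
    · rw [show (m * y)⁻¹ * u * (m * y) * u = y⁻¹ * (m⁻¹ * u * m) * y * u by group, hum,
        show y⁻¹ * (y ^ (k + 2) * ε * u) * y * u = y ^ k * (y * ε) * (u * y * u⁻¹) * (u * u) by
          group, hP.uu, hP.uy, ← hεy.eq]
      group

theorem beta (S : Sylow 2 G) {f : ℕ} (he : ∀ s ∈ (S : Subgroup G), s ^ 2 ^ (f + 2) = 1)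
    {E : Subgroup G} {x : G} (hx : EssStep 2 (S : Subgroup G) E x) {y : G} (hy : Br S y)
    (hn : ¬ Commute x (y ^ 2 ^ (f + 1))) : ∃ u D, Beta S f y u D := by
  obtain ⟨u, huE, huZ, hP, ht, htu, m, hm, hmi⟩ := beta0 S he hx hy hn
  have hE := hx.1
  obtain ⟨hT, n, hn, hn1, hn2, hall⟩ := tv S.2 hE (pow_mem hy.1 _) ht huE huZ htu
  have ht' := ht.conj hn
  have hiZ : ∀ s ∈ (S : Subgroup G), Commute s (y ^ 2 ^ (f + 1)) := fun s hs => hy.top he hs
  have hiE : y ^ 2 ^ (f + 1) ∈ E := ess_cen hE (pow_mem hy.1 _) fun s hs => hiZ s (hE.le hs)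
  have hii : y ^ 2 ^ (f + 1) * y ^ 2 ^ (f + 1) = 1 := by
    rw [← pow_two, ← pow_mul, ← pow_succ, he y hy.1]
  have hti : ¬ Commute (n * y ^ 2 ^ f * n⁻¹) (y ^ 2 ^ (f + 1)) := fun h =>
    hmi (hall m hm _ hiE (fun w hw => hiZ w (hE.le hw)) (hiZ _ (pow_mem hy.1 _)) h)
  have hCu : ∀ s ∈ (S : Subgroup G), Commute s u → s ∈ E := by
    intro s hs h
    by_contra hsE
    obtain ⟨a, ha, haE⟩ := SetLike.exists_of_lt (lt_inf_normalizer_of_lt
      (S.2.to_inf_left (K := centralizer ({u} : Set G))) (lt_of_le_of_ne (le_inf hE.le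
        fun w hw => mem_centralizer_singleton_iff.2 (huZ w hw))
        fun e => hsE (e.ge ⟨hs, mem_centralizer_singleton_iff.2 h⟩)))
    have h1 : Commute a u := mem_centralizer_singleton_iff.1 ha.1.2
    exact htu (by simpa using h1.mul_left (huZ _ ((hT a ha.1.1 ha.2).resolve_left haE)))
  have hc0 : ∀ k : ℕ, Commute (n * y ^ 2 ^ f * n⁻¹) (cc y u ^ k) → cc y u ^ k = 1 := by
    intro k h
    by_contra h1
    obtain ⟨l, hl⟩ := pow_reach ht.sq h1
    exact hn1 (hl ▸ h.pow_right l)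
  have hd1 : cc y u ^ 2 ^ f ≠ 1 := fun e => hn1 (e ▸ Commute.one_right _)
  set D := E ⊓ centralizer ({y} : Set G) ⊓ centralizer ({n * y ^ 2 ^ f * n⁻¹} : Set G) with hD
  have mD : ∀ {w}, w ∈ D ↔ w ∈ E ∧ Commute w y ∧ Commute (n * y ^ 2 ^ f * n⁻¹) w := by
    intro w
    rw [hD, mem_inf, mem_inf, mem_centralizer_singleton_iff, mem_centralizer_singleton_iff,
      and_assoc, eq_comm (a := w * (n * y ^ 2 ^ f * n⁻¹))]
    rfl
  have hEq : (S : Subgroup G) ⊓ centralizer ({u} : Set G) = E :=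
    le_antisymm (fun s hs => hCu s hs.1 (mem_centralizer_singleton_iff.1 hs.2))
      (le_inf hE.le fun w hw => mem_centralizer_singleton_iff.2 (huZ w hw))
  refine ⟨u, D, hP, fun w hw => hE.le (mD.1 hw).1, fun w hw => (mD.1 hw).2.1,
    fun w hw => huZ w (mD.1 hw).1, fun s hs hsy => ?_, fun h => hti (mD.1 h).2.2,
    fun k h => hc0 k (mD.1 h).2.2, hd1, ht.sq, mD.2 ⟨mul_mem hiE ht.mem,
      ((Commute.refl y).pow_left _).mul_left (hP.yc.symm.pow_left _), ht'.mul hiE ht.mem hti hn1⟩,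
    ⟨n, hE.le ht'.mem, huZ _ ht'.mem, fun h => hn2 (h.symm.pow_left _)⟩, ?_⟩
  · obtain ⟨k, w, hw, hwy, rfl⟩ := gen_aux S he hE hP huE huZ hCu hT
      (fun k v hv w hw e => hc0 k (e ▸ ht'.comm_comm hv hw)) hd1 hs hsy
    by_cases h1 : Commute (n * y ^ 2 ^ f * n⁻¹) w
    · exact ⟨k, w, mD.2 ⟨hw, hwy, h1⟩, rfl⟩
    · refine ⟨k + 2 ^ (f + 1), y ^ 2 ^ (f + 1) * w, mD.2 ⟨mul_mem hiE hw,
        ((Commute.refl y).pow_left _).mul_left hwy, ht'.mul hiE hw hti h1⟩, ?_⟩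
      rw [pow_add, mul_assoc, ← mul_assoc _ _ w, hii, one_mul]
  · rw [hEq]
    intro k hk s hs hsN z hz hzS
    rcases hT s hs hsN with h1 | h1
    · exact hzS _ (hE.le (H83.conj_mem le_rfl hk h1))
    · have := (hall k hk z (mD.1 hz).1 (fun w hw => hzS w (hE.le hw)) (hzS _ (pow_mem hy.1 _))
        (mD.1 hz).2.2).mul_left (hzS _ (hE.le (H83.conj_mem le_rfl hk h1))).inv_left
      rwa [show k * y ^ 2 ^ f * k⁻¹ * (k * (s⁻¹ * y ^ 2 ^ f) * k⁻¹)⁻¹ = k * s * k⁻¹ by group] at this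

end Cfsg.Agent.H81.Sq
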