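import Cfsg.Agent.H81.SqC

/-! `D` is abelian. -/

set_option autoImplicit false

namespace Cfsg.Agent.H81.Sq

open Subgroup H8 H7
open scoped Pointwise

variable {G : Type*} [Group G]

theorem pow_invol {i : G} (h : i * i = 1) (k : ℕ) :
    (Even k ∧ i ^ k = 1) ∨ (Odd k ∧ i ^ k = i) := by
  rcases Nat.even_or_odd' k with ⟨j, rfl | rfl⟩
  · left; exact ⟨even_two_mul j, by rw [pow_mul, pow_two, h, one_pow]⟩
  · right; exact ⟨odd_two_mul_add_one j, by rw [pow_succ, pow_mul, pow_two, h, one_pow, one_mul]⟩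

namespace Beta

variable {S D : Subgroup G} {f : ℕ} {y u : G}

theorem form (h : Beta S f y u D) {s : G} (hs : s ∈ S) (hn : ¬ Commute s y) :
    ∃ k : ℕ, ∃ w ∈ D, s = y ^ k * w * u := by
  obtain ⟨k, w, hw, e⟩ := h.dec _ (mul_mem hs h.uS) (h.spl hs hn)
  exact ⟨k, w, hw, by rw [← e, mul_assoc, h.uu, mul_one]⟩

theorem powM (h : Beta S f y u D) (k n : ℕ) {w : G} (hw : w ∈ D) :
    (y ^ k * w) ^ n = (y ^ n) ^ k * w ^ n := by
  rw [((h.Dy w hw).symm.pow_left k).mul_pow, ← pow_mul, ← pow_mul, mul_comm]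

theorem powU (h : Beta S f y u D) (k : ℕ) {w : G} (hw : w ∈ D) :
    (y ^ k * w * u) ^ 2 ^ (f + 1) =
      (y ^ 2 ^ (f + 1) * cc y u ^ 2 ^ f) ^ k * w ^ 2 ^ (f + 1) := by
  have h1 := h.Dy w hw
  have h2 := h.cM (h.DS hw) h1
  have h3 : (y ^ k * w * u) ^ 2 = (y * y * cc y u) ^ k * w ^ 2 := by
    rw [pow_two, show y ^ k * w * u * (y ^ k * w * u) =
      y ^ k * (w * (u * y ^ k * u⁻¹)) * (u * w * u⁻¹) * (u * u) by group, h.uu, h.uyk,
      cj_iff.2 (h.Du w hw).symm, ((h1.pow_right k).mul_right (h2.pow_right k)).eq,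
      (h.yc.mul_left h.yc).mul_pow, (Commute.refl y).mul_pow, pow_two]
    group
  rw [pow_succ' 2 f, pow_mul, h3, (((h.zeta (h.DS hw)).symm.pow_left k).pow_right 2).mul_pow,
    ← pow_mul _ k, mul_comm k, pow_mul _ _ k, h.zeta_pow, ← pow_mul w, pow_succ' 2 f]

theorem odd_ne (h : Beta S f y u D) {k : ℕ} (hk : Odd k) : cc y u ^ k ≠ 1 := fun e => h.d1 (by
  have : cc y u ∈ (⊥ : Subgroup G) := mem_of_coprime (j := f + 1) hk (mem_bot.2 e)
    (mem_bot.2 (by rw [pow_succ, pow_mul, pow_two, h.dd]))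
  rw [mem_bot.1 this, one_pow])

theorem cenD (h : Beta S f y u D) {w : G} (hw : w ∈ D) (hc : ∀ v ∈ D, Commute v w) {s : G}
    (hs : s ∈ S) : Commute s w := by
  refine h.cen (fun m hm hmy => ?_) (h.Du w hw).symm hs
  obtain ⟨k, v, hv, rfl⟩ := h.dec m hm hmy
  exact ((h.Dy w hw).symm.pow_left k).mul_left (hc v hv)

theorem br_odd (h : Beta S f y u D) {k : ℕ} (hk : Odd k) {w : G} (hw : w ∈ D)
    (hb : Br S (y ^ k * w)) : ∀ v ∈ D, Commute v w := by
  have key : ∀ v ∈ D, ¬ Commute (u * v) (y ^ k * w) := by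
    intro v hv h1
    have h2 : v * w * v⁻¹ ∈ D := mul_mem (mul_mem hv hw) (inv_mem hv)
    rw [← cj_iff, show u * v * (y ^ k * w) * (u * v)⁻¹ =
      u * (v * y ^ k * v⁻¹) * u⁻¹ * (u * (v * w * v⁻¹) * u⁻¹) by group,
      cj_iff.2 ((h.Dy v hv).pow_right k), h.uyk, cj_iff.2 (h.Du _ h2).symm, mul_assoc,
      mul_left_cancel_iff] at h1
    exact h.odd_ne hk (h.cD k (by rw [eq_mul_inv_of_mul_eq h1]; exact mul_mem hw (inv_mem h2)))
  intro v hv
  have h1 : Commute v (y ^ k * w) := by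
    by_contra h1
    exact key v hv (hb.2 u h.uS v (h.DS hv) (by simpa using key 1 (one_mem _)) h1)
  simpa using ((h.Dy v hv).pow_right k).inv_right.mul_right h1

theorem ii (h : Beta S f y u D) (he : ∀ s ∈ S, s ^ 2 ^ (f + 2) = 1) :
    y ^ 2 ^ (f + 1) * y ^ 2 ^ (f + 1) = 1 := by
  rw [← pow_two, ← pow_mul, ← pow_succ, he y h.br.1]

theorem i1 (h : Beta S f y u D) : y ^ 2 ^ (f + 1) ≠ 1 := fun e => h.iD (e ▸ one_mem _)

end Beta

variable [Finite G]

theorem top_inv (S : Sylow 2 G) {f : ℕ} (he : ∀ s ∈ (S : Subgroup G), s ^ 2 ^ (f + 2) = 1)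
    (hA : ∀ g ∈ (S : Subgroup G), ∃ h : G, Br S (h⁻¹ * g * h)) {g : G}
    (hg : g ∈ (S : Subgroup G)) : ∃ a, Br S a ∧ g ^ 2 ^ (f + 1) = a ^ 2 ^ (f + 1) := by
  obtain ⟨h, hh⟩ := hA g hg
  have := invariant_of_ess S (fun g => ∃ a, Br S a ∧ g ^ 2 ^ (f + 1) = a ^ 2 ^ (f + 1)) ?_ ?_ hg hh.1
  · exact this.to_iff.1 ⟨_, hh, rfl⟩
  · intro n hn a _
    refine propext ⟨?_, ?_⟩
    · rintro ⟨b, hb, e⟩
      refine ⟨_, hb.conj (inv_mem hn), ?_⟩
      rw [cpow] at e ⊢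
      rw [← e]; group
    · rintro ⟨b, hb, e⟩
      exact ⟨_, hb.conj hn, by rw [cpow, cpow, e]⟩
  · intro E x hx a ha
    have fin : ∀ s : G, (∀ b, Br S b → Commute s (b ^ 2 ^ (f + 1))) →
        x⁻¹ * a ^ 2 ^ (f + 1) * x = s⁻¹ * a ^ 2 ^ (f + 1) * s →
        ((∃ b, Br S b ∧ (x⁻¹ * a * x) ^ 2 ^ (f + 1) = b ^ 2 ^ (f + 1)) =
          ∃ b, Br S b ∧ a ^ 2 ^ (f + 1) = b ^ 2 ^ (f + 1)) := by
      intro s hs e
      rw [cpow, e]
      refine propext ⟨?_, ?_⟩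
      · rintro ⟨b, hb, e⟩
        exact ⟨b, hb, by rw [← cj_iff.2 (hs b hb), ← e]; group⟩
      · rintro ⟨b, hb, e⟩
        exact ⟨b, hb, by rw [e, mul_assoc, ← (hs b hb).eq]; group⟩
    by_cases h1 : ∀ b, Br S b → Commute x (b ^ 2 ^ (f + 1))
    · exact fin x h1 rfl
    push Not at h1
    obtain ⟨y, hy, h1⟩ := h1
    obtain ⟨u, -, huZ, -, ht, htu, -⟩ := beta0 S he hx hy h1
    obtain ⟨s, hs, γ, hγ, rfl⟩ := step_decomp (K := centralizer {v | ∃ w ∈ E, v = w * w}) hx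
      (mem_norm_cent (by
        rintro n hn _ ⟨w, hw, rfl⟩
        exact ⟨_, H83.conj_mem' le_rfl hn hw, by group⟩)) (pow_mem hy.1 (2 ^ f)) ht.mem_norm
      (by rintro _ ⟨w, hw, rfl⟩; exact (ht.sq_comm hw).symm) (fun h => htu (huZ _ h))
    refine fin s (fun b hb => hb.top he (hx.1.le hs)) ?_
    have h2 : Commute (s⁻¹ * a ^ 2 ^ (f + 1) * s) γ :=
      hγ _ ⟨_, H83.conj_mem' le_rfl (le_normalizer hs) (pow_mem ha (2 ^ f)), by
        rw [pow_succ, pow_mul, pow_two]; group⟩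
    rw [show (s * γ)⁻¹ * a ^ 2 ^ (f + 1) * (s * γ) = γ⁻¹ * (s⁻¹ * a ^ 2 ^ (f + 1) * s * γ) by group,
      h2.eq]
    group

namespace Beta

variable {S : Sylow 2 G} {D : Subgroup G} {f : ℕ} {y u : G}

theorem expD (h : Beta (S : Subgroup G) f y u D)
    (he : ∀ s ∈ (S : Subgroup G), s ^ 2 ^ (f + 2) = 1)
    (hA : ∀ g ∈ (S : Subgroup G), ∃ h : G, Br S (h⁻¹ * g * h))
    (hZ : ∀ z ∈ (S : Subgroup G), (∀ s ∈ (S : Subgroup G), Commute s z) → z ^ 2 ^ (f + 1) = 1)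
    {w : G} (hw : w ∈ D) : w ^ 2 ^ (f + 1) = 1 := by
  obtain ⟨a, ha, e⟩ := top_inv S he hA (mul_mem h.br.1 (h.DS hw))
  rw [(h.Dy w hw).symm.mul_pow] at e
  have h1 : a ^ 2 ^ (f + 1) ∉ D := fun h1 =>
    h.iD (by simpa [← e] using mul_mem h1 (inv_mem (pow_mem hw (2 ^ (f + 1)))))
  by_cases h2 : Commute a y
  · obtain ⟨k, v, hv, rfl⟩ := h.dec a ha.1 h2
    rw [h.powM k _ hv] at e h1
    rcases pow_invol (h.ii he) k with ⟨-, h3⟩ | ⟨hk, h3⟩
    · exact absurd (by rw [h3, one_mul]; exact pow_mem hv _) h1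
    · rw [h3, hZ v (h.DS hv) fun s hs => h.cenD hv (h.br_odd hk hv ha) hs] at e
      simpa using e
  · obtain ⟨k, v, hv, rfl⟩ := h.form ha.1 h2
    exact absurd (by rw [h.powU k hv]; exact mul_mem (pow_mem h.idD _) (pow_mem hv _)) h1

theorem delta (h : Beta (S : Subgroup G) (f + 1) y u D)
    (he : ∀ s ∈ (S : Subgroup G), s ^ 2 ^ (f + 1 + 2) = 1)
    (hA : ∀ g ∈ (S : Subgroup G), ∃ h : G, Br S (h⁻¹ * g * h))
    (hD : ∀ w ∈ D, w ^ 2 ^ (f + 1 + 1) = 1) :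
    y ^ 2 ^ (f + 1 + 1) * cc y u ^ 2 ^ (f + 1) = 1 := by
  obtain ⟨a, ha, e⟩ := top_inv S he hA (mul_mem h.br.1 h.uS)
  have h1 := h.powU 1 (one_mem D)
  simp only [pow_one, mul_one, one_pow] at h1
  rw [h1] at e
  by_cases h2 : Commute a y
  · obtain ⟨k, v, hv, rfl⟩ := h.dec a ha.1 h2
    rw [h.powM k _ hv, hD v hv, mul_one] at e
    rcases pow_invol (h.ii he) k with ⟨-, h3⟩ | ⟨hk, h3⟩
    · rw [e, h3]
    · rw [h3, mul_eq_left] at e
      exact absurd e h.d1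
  · have h3 := ha.sq h.br.1
    obtain ⟨k, v, hv, rfl⟩ := h.form ha.1 h2
    have h4 : Commute (y ^ 2) u := by
      have h5 : Commute (y * y) (y ^ k * v) := by
        have := ((Commute.refl y).pow_right k).mul_right (h.Dy v hv).symm
        exact this.mul_left this
      simpa only [pow_two, inv_mul_cancel_left] using h5.inv_right.mul_right h3
    have h5 := h.uyk 2
    rw [cj_iff.2 h4.symm, left_eq_mul] at h5
    exact absurd (by rw [pow_succ', pow_mul, h5, one_pow]) h.d1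

section

variable (h : Beta (S : Subgroup G) f y u D) (hD : ∀ w ∈ D, w ^ 2 ^ (f + 1) = 1)
  (hδ : y ^ 2 ^ (f + 1) * cc y u ^ 2 ^ f = 1)
include h hD

omit [Finite G] in
theorem mulM {s s' : G} (hs : s ∈ (S : Subgroup G)) (hs' : s' ∈ (S : Subgroup G))
    (h1 : Commute s y) (h2 : Commute s' y) :
    (s * s') ^ 2 ^ (f + 1) = s ^ 2 ^ (f + 1) * s' ^ 2 ^ (f + 1) := by
  obtain ⟨k, w, hw, rfl⟩ := h.dec s hs h1
  obtain ⟨l, v, hv, rfl⟩ := h.dec s' hs' h2
  rw [show y ^ k * w * (y ^ l * v) = y ^ k * (w * y ^ l) * v by group,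
    ((h.Dy w hw).pow_right l).eq, show y ^ k * (y ^ l * w) * v = y ^ (k + l) * (w * v) by group,
    h.powM _ _ hw, h.powM _ _ hv, h.powM _ _ (mul_mem hw hv), hD _ hw, hD _ hv,
    hD _ (mul_mem hw hv), pow_add _ k]
  simp

include hδ

omit [Finite G] in
theorem powS {s : G} (hs : s ∈ (S : Subgroup G)) (h1 : s ^ 2 ^ (f + 1) ≠ 1) : Commute s y := by
  by_contra h2
  obtain ⟨k, w, hw, rfl⟩ := h.form hs h2
  exact h1 (by rw [h.powU k hw, hδ, hD w hw]; simp)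

omit [Finite G] in
theorem normP {H : Subgroup G} (hH : H ≤ S) {g : G} (hg : g ∈ H) (h1 : g ^ 2 ^ (f + 1) ≠ 1) :
    normalizer (H : Set G) ≤ normalizer ((H ⊓ centralizer ({y} : Set G) : Subgroup G) : Set G) := by
  rw [le_normalizer_iff]
  intro n hn v hv
  have key : ∀ v ∈ H, v ^ 2 ^ (f + 1) ≠ 1 → Commute (n * v * n⁻¹) y := fun v hv h2 =>
    h.powS hD hδ (hH (H83.conj_mem le_rfl hn hv)) (by rw [conj_pow]; simpa using h2)
  refine ⟨H83.conj_mem le_rfl hn hv.1, mem_centralizer_singleton_iff.2 ?_⟩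
  by_cases h2 : v ^ 2 ^ (f + 1) = 1
  · have := (key _ (mul_mem hv.1 hg) (by
      rwa [h.mulM hD (hH hv.1) (hH hg) (mem_centralizer_singleton_iff.1 hv.2)
        (h.powS hD hδ (hH hg) h1), h2, one_mul])).mul_left (key g hg h1).inv_left
    rwa [show n * (v * g) * n⁻¹ * (n * g * n⁻¹)⁻¹ = n * v * n⁻¹ by group] at this
  · exact key v hv.1 h2

theorem stepW (he : ∀ s ∈ (S : Subgroup G), s ^ 2 ^ (f + 2) = 1) {E : Subgroup G} {x : G}
    (hx : EssStep 2 (S : Subgroup G) E x) {g : G} (hg : g ∈ E) (h1 : g ^ 2 ^ (f + 1) ≠ 1) :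
    x ∈ normalizer
      (H51.mhoZ (2 ^ f) ((S : Subgroup G) ⊓ centralizer ({y} : Set G)) : Set G) := by
  have hE := hx.1
  have hNP := h.normP hD hδ hE.le hg h1
  have hNM := h.normP hD hδ le_rfl h.br.1 h.i1
  set M := (S : Subgroup G) ⊓ centralizer ({y} : Set G) with hM
  set P := E ⊓ centralizer ({y} : Set G) with hP
  have mP : ∀ {w}, w ∈ P ↔ w ∈ E ∧ Commute w y := by
    intro w; rw [hP, mem_inf, mem_centralizer_singleton_iff]; rfl
  have hPM : P ≤ M := inf_le_inf_right _ hE.le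
  have hB : M ⊓ centralizer (M : Set G) ≤ E := by
    have h2 : (S : Subgroup G) ⊓ (normalizer (E : Set G) ⊓ centralizer (P : Set G)) ≤ E := by
      refine hE.inf_le_of_coprime S.2 inf_le_left
        (H83.le_norm_inf le_normalizer (H83.le_norm_cent hNP)) ?_
      intro n hn hc v hv
      by_cases h3 : Commute v y
      · exact hn.2 v (mP.2 ⟨hv, h3⟩)
      have h4 : n * v * n⁻¹ ∈ E := H83.conj_mem le_rfl hn.1 hv
      have h5 : n * v * n⁻¹ * v⁻¹ ∈ P := mP.2 ⟨mul_mem h4 (inv_mem hv), h.br.2 _ (hE.le h4) _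
        (inv_mem (hE.le hv)) (fun h5 => h3 (mP.1 ((mem_normalizer_iff.1 (hNP hn.1) v).2
          (mP.2 ⟨h4, h5⟩))).2) fun h5 => h3 (by simpa using h5.inv_left)⟩
      set p := n * v * n⁻¹ * v⁻¹ with hp
      have h6 : Commute n p := (show Commute p n from hn.2 p h5).symm
      have h7 : ∀ k : ℕ, n ^ k * v * (n ^ k)⁻¹ = p ^ k * v := by
        intro k
        induction k with
        | zero => simp
        | succ k ih =>
          rw [show n ^ (k + 1) * v * (n ^ (k + 1))⁻¹ = n * (n ^ k * v * (n ^ k)⁻¹) * n⁻¹ by group,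
            ih, ← conj_mul, cj_iff.2 (h6.pow_right k), pow_succ p, mul_assoc (p ^ k), hp]
          group
      have h8 := h7 (orderOf n)
      rw [pow_orderOf_eq_one, one_mul, inv_one, mul_one, right_eq_mul] at h8
      have h9 : p = 1 := mem_bot.1 (mem_of_coprime (j := f + 2) (Nat.coprime_two_right.1 hc)
        (mem_bot.2 h8) (mem_bot.2 (he p (hE.le (mP.1 h5).1))))
      exact (cj_iff.1 (mul_inv_eq_one.1 h9)).symm
    have h3 : M ⊓ centralizer (M : Set G) ⊓ normalizer (E : Set G) ≤ E := fun b hb =>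
      h2 ⟨hb.1.1.1, hb.2, H83.cent_anti hPM hb.1.2⟩
    have hN : E ≤ normalizer ((M ⊓ centralizer (M : Set G) : Subgroup G) : Set G) :=
      hE.le.trans (le_normalizer.trans
        (hNM.trans (H51.normalizer_le_normalizer_inf_centralizer M)))
    by_contra hAH
    have hlt : E < M ⊓ centralizer (M : Set G) ⊔ E :=
      lt_of_le_of_ne le_sup_right fun e => hAH (le_sup_left.trans e.ge)
    have h4 := lt_inf_normalizer_of_lt
      (S.2.to_le (sup_le (inf_le_left.trans inf_le_left) hE.le)) hlt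
    rw [sup_comm, H83.dedekind hN le_normalizer] at h4
    exact not_le_of_gt h4 (sup_le le_rfl h3)
  have yE : y ∈ E := hB ⟨⟨h.br.1, mem_centralizer_singleton_iff.2 rfl⟩,
    fun m hm => mem_centralizer_singleton_iff.1 hm.2⟩
  have cE : cc y u ∈ E := hB ⟨⟨h.cS, mem_centralizer_singleton_iff.2 h.yc.symm⟩,
    fun m hm => h.cM hm.1 (mem_centralizer_singleton_iff.1 hm.2)⟩
  by_cases hcase : D ⊓ normalizer (E : Set G) ≤ E
  · have uN : u ∈ normalizer (E : Set G) := by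
      refine mem_normalizer_fintype fun v hv => ?_
      by_cases h2 : Commute v y
      · obtain ⟨k, w, hw, rfl⟩ := h.dec v (hE.le hv) h2
        rw [← conj_mul, h.uyk, cj_iff.2 (h.Du w hw).symm, ((h.yc.pow_left k).pow_right k).eq,
          mul_assoc]
        exact mul_mem (pow_mem cE k) hv
      · obtain ⟨k, w, hw, rfl⟩ := h.form (hE.le hv) h2
        rw [← conj_mul, ← conj_mul, h.uyk, cj_iff.2 (h.Du w hw).symm,
          ((h.yc.pow_left k).pow_right k).eq, mul_inv_cancel_right, mul_assoc, mul_assoc,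
          ← mul_assoc (y ^ k)]
        exact mul_mem (pow_mem cE k) hv
    have hDE : D ≤ E := by
      by_contra h2
      obtain ⟨a, ha, haE⟩ := SetLike.exists_of_lt (lt_inf_normalizer_of_lt (S.2.to_le h.DS)
        (lt_of_le_of_ne (inf_le_right : E ⊓ D ≤ D) fun e => h2 (e.ge.trans inf_le_left)))
      refine haE ⟨hcase ⟨ha.1, mem_normalizer_fintype fun v hv => ?_⟩, ha.1⟩
      by_cases h3 : Commute v y
      · obtain ⟨k, w, hw, rfl⟩ := h.dec v (hE.le hv) h3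
        rw [← conj_mul, cj_iff.2 ((h.Dy a ha.1).pow_right k)]
        exact mul_mem (pow_mem yE k) (H83.conj_mem le_rfl ha.2 (show w ∈ E ⊓ D from
          ⟨by simpa using mul_mem (inv_mem (pow_mem yE k)) hv, hw⟩)).1
      · obtain ⟨k, w, hw, rfl⟩ := h.form (hE.le hv) h3
        have h4 : w ∈ E := hcase ⟨hw, by
          simpa [mul_assoc] using mul_mem (mul_mem (inv_mem (le_normalizer (pow_mem yE k)))
            (le_normalizer hv)) (inv_mem uN)⟩
        rw [← conj_mul, ← conj_mul, cj_iff.2 ((h.Dy a ha.1).pow_right k), cj_iff.2 (h.Du a ha.1)]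
        refine mul_mem (mul_mem (pow_mem yE k)
          (H83.conj_mem le_rfl ha.2 (show w ∈ E ⊓ D from ⟨h4, hw⟩)).1) ?_
        simpa only [inv_mul_cancel_left] using mul_mem (inv_mem (mul_mem (pow_mem yE k) h4)) hv
    have h2 : P = M := le_antisymm hPM fun s hs => by
      obtain ⟨k, w, hw, rfl⟩ := h.dec s hs.1 (mem_centralizer_singleton_iff.1 hs.2)
      exact ⟨mul_mem (pow_mem yE k) (hDE hw), hs.2⟩
    exact H51.normalizer_le_normalizer_mhoZ _ _ (h2 ▸ hNP (hx.mem_normalizer S.2))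
  · obtain ⟨a, ha, haE, ha2⟩ := H51.exists_not_mem_sq_mem ((S.2.to_le h.DS).to_inf_left)
      (lt_of_le_of_ne (le_inf inf_le_right (inf_le_left.trans le_normalizer) :
        E ⊓ D ≤ D ⊓ normalizer (E : Set G)) fun e => hcase (e.ge.trans inf_le_left))
    obtain ⟨s, hs, γ, hγ, rfl⟩ := step_decomp (K := centralizer (H51.mhoZ (2 ^ f) P : Set G)) hx
      (H83.le_norm_cent (hNP.trans (H51.normalizer_le_normalizer_mhoZ _ _))) (h.DS ha.1) ha.2
      (by
        rintro _ ⟨v, hv, rfl⟩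
        obtain ⟨k, w, hw, rfl⟩ := h.dec v (hE.le hv.1.1) (mP.1 hv.1).2
        have h2 : ∀ b ∈ P, Commute b w := fun b hb => by
          simpa using ((mP.1 hb).2.pow_right k).inv_right.mul_right (hv.2 b hb)
        have h3 : w ∈ P := mP.2 ⟨by simpa using mul_mem (inv_mem (pow_mem yE k)) hv.1.1, h.Dy w hw⟩
        have h4 := core (h2 _ (mP.2 ⟨pow_two a ▸ ha2.1, h.Dy _ (mul_mem ha.1 ha.1)⟩)) (hD a ha.1)
          (hD _ (mul_mem ha.1 hw))
        rw [(h2 _ (H83.conj_mem' le_rfl (hNP ha.2) h3)).mul_pow, cpow] at h4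
        have h5 := comm_of_mul_eq_one (by rw [← pow_two, ← pow_mul, ← pow_succ, hD w hw]) h4
        rw [h.powM k _ hw]
        exact ((((h.Dy a ha.1).pow_right _).pow_right k).mul_right h5).symm)
      fun h2 => haE ⟨h2, ha.1⟩
    refine mul_mem (H51.normalizer_le_normalizer_mhoZ _ _ (hNM (le_normalizer (hE.le hs))))
      (centralizer_le_normalizer _ ?_)
    rintro _ ⟨z, hz, rfl⟩
    exact hγ _ ⟨z, ⟨⟨hB hz, hz.1.2⟩, H83.cent_anti hPM hz.2⟩, rfl⟩

theorem commD (he : ∀ s ∈ (S : Subgroup G), s ^ 2 ^ (f + 2) = 1)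
    (hA : ∀ g ∈ (S : Subgroup G), ∃ h : G, Br S (h⁻¹ * g * h)) : ∀ w ∈ D, ∀ v ∈ D, Commute w v := by
  have hNM := h.normP hD hδ le_rfl h.br.1 h.i1
  set M := (S : Subgroup G) ⊓ centralizer ({y} : Set G) with hM
  set W := H51.mhoZ (2 ^ f) M with hW
  have hNW : normalizer ((S : Subgroup G) : Set G) ≤ normalizer (W : Set G) :=
    hNM.trans (H51.normalizer_le_normalizer_mhoZ _ _)
  have ctl : ∀ {A : Set G} (_ : A ⊆ (S : Set G)) {g : G}
      (_ : (fun a => g⁻¹ * a * g) '' A ⊆ (S : Set G)), (∃ a ∈ A, a ^ 2 ^ (f + 1) ≠ 1) →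
      ∃ k ∈ normalizer (W : Set G), ∀ a ∈ A, k⁻¹ * a * k = g⁻¹ * a * g := by
    intro A hA g hg
    refine alperin_induction S (fun A g => (∃ a ∈ A, a ^ 2 ^ (f + 1) ≠ 1) →
      ∃ k ∈ normalizer (W : Set G), ∀ a ∈ A, k⁻¹ * a * k = g⁻¹ * a * g) ?_ ?_ ?_ ?_ hA hg
    · intro A _ c hc _
      exact ⟨1, one_mem _, fun a ha => by rw [mul_assoc c⁻¹, hc a ha]; group⟩
    · exact fun A _ n hn _ => ⟨n, hNW hn, fun _ _ => rfl⟩
    · rintro E x hx A hA ⟨a, ha, h1⟩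
      exact ⟨x, h.stepW hD hδ he hx (hA ha) h1, fun _ _ => rfl⟩
    · rintro A g k h1 h2 ⟨a, ha, h3⟩
      obtain ⟨k1, hk1, h1⟩ := h1 ⟨a, ha, h3⟩
      obtain ⟨k2, hk2, h2⟩ := h2 ⟨_, ⟨a, ha, rfl⟩, by
        rw [cpow]; intro e; exact h3 (by simpa [mul_assoc] using congrArg (fun b => g * b * g⁻¹) e)⟩
      refine ⟨k1 * k2, mul_mem hk1 hk2, fun a ha => ?_⟩
      calc (k1 * k2)⁻¹ * a * (k1 * k2) = k2⁻¹ * (k1⁻¹ * a * k1) * k2 := by group
        _ = k⁻¹ * (g⁻¹ * a * g) * k := by rw [h1 a ha]; exact h2 _ ⟨a, ha, rfl⟩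
        _ = _ := by group
  have yZ : y ∈ M ⊓ centralizer (M : Set G) := ⟨⟨h.br.1, mem_centralizer_singleton_iff.2 rfl⟩,
    fun m hm => mem_centralizer_singleton_iff.1 hm.2⟩
  have hSyl : IsSylowIn 2 M (centralizer (W : Set G)) := by
    have h1 := (isSylowIn_of_le S (le_normalizer.trans hNW)).inf_of_le_normalizer
      (H83.le_norm_cent le_rfl)
    rw [inf_eq_right.2 (centralizer_le_normalizer _)] at h1
    convert h1 using 1
    refine le_antisymm (le_inf inf_le_left fun m hm w hw => ((H51.mhoZ_le _ _ hw).2 m hm).symm)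
      fun s hs => ⟨hs.1, mem_centralizer_singleton_iff.2 ?_⟩
    by_contra h2
    have h3 := h.act h.dd hs.1 h2
    rw [cj_iff.2 (show Commute (y ^ 2 ^ f) s from hs.2 _ ⟨y, yZ, rfl⟩), left_eq_mul] at h3
    exact h.d1 h3
  let P : Subgroup G :=
    { carrier := {s | s ∈ M ∧ s ^ 2 ^ (f + 1) = 1}
      one_mem' := ⟨one_mem _, one_pow _⟩
      mul_mem' := fun {a b} ha hb => ⟨mul_mem ha.1 hb.1, by
        rw [h.mulM hD ha.1.1 hb.1.1 (mem_centralizer_singleton_iff.1 ha.1.2)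
          (mem_centralizer_singleton_iff.1 hb.1.2), ha.2, hb.2, one_mul]⟩
      inv_mem' := fun {a} ha => ⟨inv_mem ha.1, by rw [inv_pow, ha.2, inv_one]⟩ }
  have hz : ∀ z : centralizer (W : Set G), (z : G) ∈ M ⊓ centralizer (M : Set G) →
      z ∈ (hSyl.toSylow : Subgroup _) ⊓ centralizer
        ((hSyl.toSylow : Subgroup (centralizer (W : Set G))) : Set (centralizer (W : Set G))) :=
    fun z hz => ⟨hz.1, fun s hs => Subtype.ext (hz.2 s hs)⟩
  have h3 := chp _ _ rfl hSyl.toSylow (P.subgroupOf _) ⟨y, hSyl.le yZ.1⟩ (hz _ yZ)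
    (fun h3 => h.i1 h3.2) (fun s hs => ⟨mul_mem hs hs, by
      have := he s hs.1
      rwa [pow_succ', pow_mul, pow_two] at this⟩) (by
      intro s hs hsP
      have h1 : (s : G) ^ 2 ^ (f + 1) ≠ 1 := fun e => hsP ⟨hs, e⟩
      obtain ⟨g, hg⟩ := hA s hs.1
      obtain ⟨k, hk, hk'⟩ := ctl (A := {(s : G)}) (Set.singleton_subset_iff.2 hs.1) (g := g)
        (by rw [Set.image_singleton]; exact Set.singleton_subset_iff.2 hg.1) ⟨_, rfl, h1⟩
      have h2 : (g⁻¹ * s * g) ^ 2 ^ (f + 1) ≠ 1 := by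
        rw [cpow]; intro e; exact h1 (by simpa [mul_assoc] using congrArg (fun b => g * b * g⁻¹) e)
      have h4 := h.powS hD hδ hg.1 h2
      have h5 : g⁻¹ * s * g ∈ M ⊓ centralizer (M : Set G) := by
        refine ⟨⟨hg.1, mem_centralizer_singleton_iff.2 h4⟩, fun m hm => ?_⟩
        obtain ⟨l, w, hw, e⟩ := h.dec _ hg.1 h4
        rw [e] at h2 hg ⊢
        rw [h.powM l _ hw, hD w hw, mul_one] at h2
        rcases pow_invol (h.ii he) l with ⟨-, h3⟩ | ⟨hl, -⟩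
        · exact absurd h3 h2
        · exact ((show Commute m y from mem_centralizer_singleton_iff.1 hm.2).pow_right l).mul_right
            (h.cenD hw (h.br_odd hl hw hg) hm.1)
      obtain ⟨n, hn, m, hm, rfl⟩ := hSyl.frattini (H83.le_norm_cent le_rfl hk)
      refine ⟨⟨n, hn⟩, hz _ ?_⟩
      have := H83.conj_mem le_rfl (H51.normalizer_le_normalizer_inf_centralizer M hm) h5
      rw [← hk' _ rfl] at this
      simpa [mul_assoc] using this)
  intro w hw v hv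
  have m : ∀ w ∈ D, w ∈ M := fun w hw => ⟨h.DS hw, mem_centralizer_singleton_iff.2 (h.Dy w hw)⟩
  exact congrArg Subtype.val
    (h3 (x := ⟨v, hSyl.le (m v hv)⟩) (m v hv) ⟨w, hSyl.le (m w hw)⟩ (m w hw))

end

theorem abelian (h : Beta (S : Subgroup G) f y u D)
    (he : ∀ s ∈ (S : Subgroup G), s ^ 2 ^ (f + 2) = 1)
    (hA : ∀ g ∈ (S : Subgroup G), ∃ h : G, Br S (h⁻¹ * g * h))
    (hD : ∀ w ∈ D, w ^ 2 ^ (f + 1) = 1) : ∀ w ∈ D, ∀ v ∈ D, Commute w v := by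
  rcases f with _ | f
  · intro w hw v hv
    have i : ∀ b ∈ D, b⁻¹ = b := fun b hb =>
      inv_eq_of_mul_eq_one_right (by rw [← pow_two]; simpa using hD b hb)
    change w * v = v * w
    rw [← i _ (mul_mem hw hv), mul_inv_rev, i w hw, i v hv]
  · exact h.commD hD (h.delta he hA hD) he hA

end Beta

end Cfsg.Agent.H81.Sq
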