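import Cfsg.Agent.H81.SqD
import Cfsg.Agent.H87.Transfer

/-! Groups whose 2-elements have class size not divisible by four. -/

set_option autoImplicit false

namespace Cfsg.Agent.H81.Sq

open Subgroup H8 H7
open scoped Pointwise

variable {G : Type*} [Group G]

/-- The centralizer in `S` of `y ^ k * u`. -/
def Ek (S : Subgroup G) (y u : G) (k : ℕ) : Subgroup G := S ⊓ centralizer ({y ^ k * u} : Set G)

theorem mem_Ek {S : Subgroup G} {y u s : G} {k : ℕ} :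
    s ∈ Ek S y u k ↔ s ∈ S ∧ Commute s (y ^ k * u) := by
  rw [Ek, mem_inf, mem_centralizer_singleton_iff]; rfl

/-- `z` is moved by the essential subgroup `E`. -/
def Mov (S E : Subgroup G) (z : G) : Prop :=
  Ess 2 S E ∧ ∃ n ∈ normalizer (E : Set G), ∃ s ∈ S, s ∈ normalizer (E : Set G) ∧
    ¬ Commute (n * s * n⁻¹) z

theorem Mov.conj {S E : Subgroup G} {z g : G} (h : Mov S E z) (hg : g ∈ normalizer (S : Set G)) :
    Mov S (MulAut.conj g • E) (g * z * g⁻¹) := by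
  obtain ⟨hE, n, hn, s, hs, hsN, h⟩ := h
  refine ⟨hE.conj hg, g * n * g⁻¹, ?_, g * s * g⁻¹, H83.conj_mem le_rfl hg hs, ?_, fun h1 => h ?_⟩
  · rw [normalizer_conj_smul]; exact conj_mem_conj_smul.2 hn
  · rw [normalizer_conj_smul]; exact conj_mem_conj_smul.2 hsN
  · rw [← comm_cj g]
    simpa [mul_assoc] using h1

theorem dvd_of_pow {c : G} {j k : ℕ} (h1 : c ^ 2 ^ j ≠ 1) (h2 : c ^ 2 ^ j * c ^ 2 ^ j = 1)
    (h : c ^ k = 1) : 2 ^ (j + 1) ∣ k := by
  rw [← orderOf_eq_prime_pow (p := 2) h1 (by rw [pow_succ, pow_mul, pow_two, h2])]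
  exact orderOf_dvd_of_pow_eq_one h

namespace Beta

variable {S D : Subgroup G} {f : ℕ} {y u : G}

theorem cenZ (h : Beta S f y u D) {z v : G} (hM : ∀ m ∈ S, Commute m y → Commute m z) (hv : v ∈ S)
    (hvy : ¬ Commute v y) (h1 : Commute v z) {s : G} (hs : s ∈ S) : Commute s z :=
  h.cen hM (by simpa using h1.inv_left.mul_left (hM _ (mul_mem hv h.uS) (h.spl hv hvy))) hs

theorem Zform (h : Beta S f y u D) (he : ∀ s ∈ S, s ^ 2 ^ (f + 2) = 1) {z : G} (hz : z ∈ S)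
    (h1 : Commute z y) (h2 : Commute u z) : z ∈ D ∨ y ^ 2 ^ (f + 1) * z ∈ D := by
  obtain ⟨k, w, hw, rfl⟩ := h.dec z hz h1
  have h3 := h.uyk k
  rw [cj_iff.2 (by simpa using h2.mul_right (h.Du w hw).symm.inv_right), left_eq_mul] at h3
  obtain ⟨l, rfl⟩ := dvd_of_pow h.d1 h.dd h3
  rw [pow_mul]
  rcases pow_invol (h.ii he) l with ⟨-, e⟩ | ⟨-, e⟩
  · left; rwa [e, one_mul]
  · right; rwa [e, ← mul_assoc, h.ii he, one_mul]

theorem nck (h : Beta S f y u D) (k : ℕ) : ¬ Commute (y ^ k * u) y := fun e =>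
  h.nc (by simpa using ((Commute.refl y).pow_left k).inv_left.mul_left e)

theorem Ek_conj (h : Beta S f y u D) (k : ℕ) :
    MulAut.conj y⁻¹ • Ek S y u (k + 2) = Ek S y u k := by
  ext s
  rw [mem_conj_smul, inv_inv, mem_Ek, mem_Ek, comm_cj', ← mem_normalizer_iff.1 (le_normalizer h.br.1),
    show y⁻¹ * (y ^ (k + 2) * u) * y = y ^ k * (y * (u * y * u⁻¹)) * u by group, h.uy,
    ← mul_assoc y y, mul_assoc, ← (h.zeta h.uS).eq, ← mul_assoc]
  refine and_congr_right fun hs => ⟨fun h1 => ?_, fun h1 => h1.mul_right (h.zeta hs)⟩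
  simpa only [mul_inv_cancel_right] using h1.mul_right (h.zeta hs).inv_right

theorem mov_red (h : Beta S f y u D) {z : G} (hz : ∀ s ∈ S, Commute s z) (k : ℕ)
    (hk : Mov S (Ek S y u k) z) : Mov S (Ek S y u 0) z ∨ Mov S (Ek S y u 1) z := by
  induction k using Nat.strong_induction_on with
  | _ k ih =>
  match k, ih, hk with
  | 0, _, hk => exact Or.inl hk
  | 1, _, hk => exact Or.inr hk
  | k + 2, ih, hk =>
    have := hk.conj (le_normalizer (inv_mem h.br.1))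
    rw [h.Ek_conj, cj_iff.2 (hz _ (inv_mem h.br.1))] at this
    exact ih k (by omega) this

section

variable (h : Beta S f y u D) (he : ∀ s ∈ S, s ^ 2 ^ (f + 2) = 1)
  (hab : ∀ w ∈ D, ∀ v ∈ D, Commute w v)
include h hab

theorem Dc {w : G} (hw : w ∈ D) {s : G} (hs : s ∈ S) : Commute s w :=
  h.cenD hw (fun v hv => hab v hv w hw) hs

theorem Mab {z : G} (hz : z ∈ S) (h1 : Commute z y) : ∀ m ∈ S, Commute m y → Commute m z := by
  intro m hm h2
  obtain ⟨k, w, hw, rfl⟩ := h.dec z hz h1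
  exact (h2.pow_right k).mul_right (h.Dc hab hw hm)

include he

theorem invM {z : G} (hz : z ∈ S) (h1 : Commute z y) (h2 : z * z = 1) {s : G} (hs : s ∈ S) :
    Commute s z := by
  obtain ⟨k, w, hw, rfl⟩ := h.dec z hz h1
  rw [← pow_two, h.powM k 2 hw, ← pow_mul] at h2
  have h3 : y ^ (2 * k) = 1 := by
    by_contra h3
    obtain ⟨l, hl⟩ := pow_reach (h.ii he) h3
    exact h.iD (hl ▸ pow_mem (eq_inv_of_mul_eq_one_left h2 ▸ inv_mem (pow_mem hw 2)) l)
  have h4 := dvd_of_pow h.i1 (h.ii he) h3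
  rw [pow_succ'] at h4
  obtain ⟨l, rfl⟩ := Nat.dvd_of_mul_dvd_mul_left two_pos h4
  rw [pow_mul]
  exact ((h.br.top he hs).pow_right l).mul_right (h.Dc hab hw hs)

theorem mov_elt {E : Subgroup G} {z : G} (hzS : z ∈ S) (hz : ∀ s ∈ S, Commute s z) (hz2 : z * z = 1)
    (hm : Mov S E z) : ∃ v ∈ E, (∀ w ∈ E, Commute w v) ∧ ¬ Commute v y := by
  obtain ⟨hE, n, hn, s, hs, -, h1⟩ := hm
  have hzE : z ∈ E := ess_cen hE hzS fun s hs => hz s (hE.le hs)
  have hv := H83.conj_mem' le_rfl hn hzE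
  refine ⟨_, hv, fun w hw => (comm_cj' n).1 (hz _ (hE.le (H83.conj_mem le_rfl hn hw))), fun h2 =>
    h1 ((comm_cj' n).2 (h.invM he hab (hE.le hv) h2 ?_ hs))⟩
  rw [← pow_two, cpow, pow_two, hz2]; simp

theorem mov_Ek {E : Subgroup G} {z : G} (hzS : z ∈ S) (hz : ∀ s ∈ S, Commute s z) (hz2 : z * z = 1)
    (hm : Mov S E z) : ∃ k, E = Ek S y u k := by
  obtain ⟨v, hv, hvE, hvy⟩ := h.mov_elt he hab hzS hz hz2 hm
  have hE := hm.1
  obtain ⟨k, w, hw, e⟩ := h.form (hE.le hv) hvy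
  have e' : v = w * (y ^ k * u) := by rw [e, ← mul_assoc, ((h.Dy w hw).pow_right k).eq]
  have hk : y ^ k * u ∈ S := mul_mem (pow_mem h.br.1 k) h.uS
  have cen : ∀ a ∈ S, Commute a y → Commute a (y ^ k * u) → a ∈ E := fun a ha h1 h2 =>
    ess_cen hE ha fun s hs => h.cenZ (h.Mab hab ha h1) hk (h.nck k) h2.symm (hE.le hs)
  refine ⟨k, le_antisymm (fun s hs => mem_Ek.2 ⟨hE.le hs, ?_⟩) fun s hs => ?_⟩
  · simpa [e'] using (h.Dc hab hw (hE.le hs)).inv_right.mul_right (hvE s hs)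
  · obtain ⟨h1, h2⟩ := mem_Ek.1 hs
    by_cases h3 : Commute s y
    · exact cen s h1 h3 h2
    · simpa using mul_mem (cen _ (mul_mem h1 (hE.le hv)) (h.br.2 s h1 v (hE.le hv) h3 hvy)
        (h2.mul_left (e' ▸ (h.Dc hab hw hk).symm.mul_left (Commute.refl _)))) (inv_mem hv)

end

end Beta

variable [Finite G]

theorem exists_mov (S : Sylow 2 G)
    (hN : ∀ A : Subgroup G, IsStronglyClosed A (S : Subgroup G) → IsMulCommutative A → A = ⊥)
    {z : G} (hzS : z ∈ (S : Subgroup G)) (hz : ∀ s ∈ (S : Subgroup G), Commute s z)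
    (hz2 : z * z = 1) (hz1 : z ≠ 1) : ∃ E, Mov (S : Subgroup G) E z := by
  let B : Subgroup G :=
    { carrier := {z | z ∈ (S : Subgroup G) ∧ (∀ s ∈ (S : Subgroup G), Commute s z) ∧ z * z = 1 ∧
        ∀ E, ¬ Mov (S : Subgroup G) E z}
      one_mem' := ⟨one_mem _, fun _ _ => Commute.one_right _, mul_one _,
        fun _ ⟨_, _, _, _, _, _, h⟩ => h (Commute.one_right _)⟩
      mul_mem' := fun {a b} ha hb => ⟨mul_mem ha.1 hb.1,
        fun s hs => (ha.2.1 s hs).mul_right (hb.2.1 s hs), by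
          rw [← pow_two, (hb.2.1 a ha.1).mul_pow, pow_two, pow_two, ha.2.2.1, hb.2.2.1, one_mul],
        fun E ⟨hE, n, hn, s, hs, hsN, h⟩ => h (Commute.mul_right
          (not_not.1 fun h1 => ha.2.2.2 E ⟨hE, n, hn, s, hs, hsN, h1⟩)
          (not_not.1 fun h1 => hb.2.2.2 E ⟨hE, n, hn, s, hs, hsN, h1⟩))⟩
      inv_mem' := fun {a} ha => by rwa [inv_eq_of_mul_eq_one_right ha.2.2.1] }
  have hB : B = ⊥ := by
    refine hN B (sc_of_control S (fun b hb => hb.1) ?_ fun E x hx => ?_)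
      ⟨⟨fun a b => Subtype.ext (b.2.2.1 a a.2.1)⟩⟩
    · rw [le_normalizer_iff]
      intro n hn b hb
      refine ⟨H83.conj_mem le_rfl hn hb.1,
        fun s hs => ((comm_cj' n).2 (hb.2.1 _ (H83.conj_mem' le_rfl hn hs)).symm).symm,
        by rw [conj_mul, hb.2.2.1]; simp, fun E hE => hb.2.2.2 (MulAut.conj n⁻¹ • E) ?_⟩
      simpa [mul_assoc] using hE.conj (inv_mem hn)
    · obtain ⟨a, ha, haE⟩ := SetLike.exists_of_lt (hx.1.lt_inf_normalizer S.2)
      obtain ⟨s, hs, γ, hγ, rfl⟩ := step_decomp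
        (K := centralizer {v | ∃ n ∈ normalizer (E : Set G), ∃ b ∈ B, v = n⁻¹ * b * n}) hx
        (mem_norm_cent (by
          rintro m hm _ ⟨n, hn, b, hb, rfl⟩
          exact ⟨n * m, mul_mem hn hm, b, hb, by group⟩)) ha.1 ha.2 (by
          rintro _ ⟨n, hn, b, hb, rfl⟩
          exact ((comm_cj' n).1
            (not_not.1 fun h1 => hb.2.2.2 E ⟨hx.1, n, hn, a, ha.1, ha.2, h1⟩)).symm) haE
      refine centralizer_le_normalizer _ (mul_mem (fun b hb => (hb.2.1 s (hx.1.le hs)).symm)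
        fun b hb => hγ b ⟨1, one_mem _, b, hb, by simp⟩)
  by_contra h
  push Not at h
  exact hz1 (mem_bot.1 (hB ▸ (show z ∈ B from ⟨hzS, hz, hz2, h⟩)))

theorem Beta.eq_bot {S : Sylow 2 G} {D : Subgroup G} {f : ℕ} {y u : G}
    (h : Beta (S : Subgroup G) f y u D) (he : ∀ s ∈ (S : Subgroup G), s ^ 2 ^ (f + 2) = 1)
    (hab : ∀ w ∈ D, ∀ v ∈ D, Commute w v) (hD : ∀ w ∈ D, w ^ 2 ^ (f + 1) = 1)
    (hZ : ∀ z ∈ (S : Subgroup G), (∀ s ∈ (S : Subgroup G), Commute s z) → z ^ 2 ^ (f + 1) = 1)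
    (hN : ∀ A : Subgroup G, IsStronglyClosed A (S : Subgroup G) → IsMulCommutative A → A = ⊥)
    (hT : ∀ K : Subgroup G, K.Normal → K.index ≠ 2) : D = ⊥ := by
  have hmov : ∀ z ∈ D, z * z = 1 → z ≠ 1 → Mov (S : Subgroup G) (Ek S y u 1) z := by
    intro z hz h1 h2
    obtain ⟨E, hE⟩ := exists_mov S hN (h.DS hz) (fun s hs => h.Dc hab hz hs) h1 h2
    obtain ⟨k, rfl⟩ := h.mov_Ek he hab (h.DS hz) (fun s hs => h.Dc hab hz hs) h1 hE
    refine (h.mov_red (fun s hs => h.Dc hab hz hs) k hE).resolve_left ?_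
    rintro ⟨-, n, hn, s, hs, hsN, h3⟩
    simp only [Ek, pow_zero, one_mul] at hn hsN
    exact h3 (h.fixD n hn s hs hsN z hz fun s hs => h.Dc hab hz hs)
  by_contra hne
  obtain ⟨b, hb, hb1, hb2⟩ := H51.exists_not_mem_sq_mem (S.2.to_le h.DS) (bot_lt_iff_ne_bot.2 hne)
  rw [mem_bot] at hb1 hb2
  rw [pow_two] at hb2
  have hE := (hmov b hb hb2 hb1).1
  obtain ⟨v, hv, hvE, hvy⟩ := h.mov_elt he hab (h.DS hb) (fun s hs => h.Dc hab hb hs) hb2
    (hmov b hb hb2 hb1)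
  have cE : ∀ z ∈ (S : Subgroup G), (∀ s ∈ (S : Subgroup G), Commute s z) → z ∈ Ek S y u 1 :=
    fun z hz h1 => ess_cen hE hz fun s hs => h1 s (hE.le hs)
  have ht : Tr (Ek S y u 1) (y ^ 2 ^ f) (cc y u ^ 2 ^ f) :=
    ⟨cE _ (pow_mem h.cS _) fun s hs => h.cen_c h.dd hs, fun s hs => h.cen_c h.dd (hE.le hs), h.dd,
      (h.yc.pow_left _).pow_right _, fun v hv => by
        by_cases h7 : Commute v y
        · exact Or.inl (cj_iff.2 (h7.pow_right _).symm)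
        · exact Or.inr (h.act h.dd (hE.le hv) h7)⟩
  obtain ⟨hTT, n, hn, -, hn2, hall⟩ := tv S.2 hE (pow_mem h.br.1 _) ht hv hvE (fun h1 => by
    have := h.act h.dd (hE.le hv) hvy
    rw [cj_iff.2 h1, left_eq_mul] at this
    exact h.d1 this)
  have ht' := ht.conj hn
  have DE : ∀ w ∈ D, w ∈ Ek S y u 1 := fun w hw => cE w (h.DS hw) fun s hs => h.Dc hab hw hs
  have hmv : ∀ z ∈ D, z * z = 1 → z ≠ 1 → ¬ Commute (n * y ^ 2 ^ f * n⁻¹) z := by
    intro z hz h1 h2 h3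
    obtain ⟨-, m, hm, s, hs, hsN, h4⟩ := hmov z hz h1 h2
    rcases hTT s hs hsN with h5 | h5
    · exact h4 (h.Dc hab hz (hE.le (H83.conj_mem le_rfl hm h5)))
    · have := (hall m hm z (DE z hz) (fun w hw => h.Dc hab hz (hE.le hw))
        (h.Dc hab hz (pow_mem h.br.1 _)) h3).mul_left
        (h.Dc hab hz (hE.le (H83.conj_mem le_rfl hm h5))).inv_left
      rw [show m * y ^ 2 ^ f * m⁻¹ * (m * (s⁻¹ * y ^ 2 ^ f) * m⁻¹)⁻¹ = m * s * m⁻¹ by group] at this
      exact h4 this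
  have hsq : ∀ j, ∀ w ∈ D, w ^ 2 ^ (j + 1) = 1 → w * w = 1 := by
    intro j
    induction j with
    | zero => intro w _ h1; simpa [pow_two] using h1
    | succ j ih =>
      intro w hw h1
      rw [pow_succ', pow_mul, pow_two] at h1
      by_contra h2
      exact hmv _ (mul_mem hw hw) (ih _ (mul_mem hw hw) h1) h2 (ht'.sq_comm (DE w hw))
  have hD2 : ∀ w ∈ D, w = 1 ∨ w * b = 1 := by
    intro w hw
    by_contra h1
    push Not at h1
    exact hmv _ (mul_mem hw hb) (hsq _ _ (mul_mem hw hb) (hD _ (mul_mem hw hb))) h1.2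
      (ht'.mul (DE w hw) (DE b hb) (hmv w hw (hsq _ w hw (hD w hw)) h1.1) (hmv b hb hb2 hb1))
  obtain ⟨m, hm1, hm2, hm3⟩ := h.fus
  obtain ⟨a, ha⟩ : ∃ a, a = m * cc y u ^ 2 ^ f * m⁻¹ := ⟨_, rfl⟩
  obtain ⟨a', ha'⟩ : ∃ a', a' = n * cc y u ^ 2 ^ f * n⁻¹ := ⟨_, rfl⟩
  rw [← ha] at hm1 hm2 hm3
  rw [← ha'] at ht' hn2
  have haa : a * a = 1 := by rw [ha, conj_mul, h.dd]; simp
  have hai : a⁻¹ = a := inv_eq_of_mul_eq_one_right haa
  obtain ⟨ha'S, ha'u⟩ := mem_Ek.1 ht'.mem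
  rw [pow_one] at ha'u
  have hyu : y * u ∈ (S : Subgroup G) := mul_mem h.br.1 h.uS
  have hyu' : ¬ Commute (y * u) y := by simpa using h.nck 1
  have z0 : ∀ s ∈ (S : Subgroup G), Commute s (a * u) := fun s hs =>
    h.cen (h.Mab hab (mul_mem hm1 h.uS) (h.spl hm1 hm3)) (hm2.symm.mul_right (Commute.refl u)) hs
  have z1 : ∀ s ∈ (S : Subgroup G), Commute s (a' * (y * u)⁻¹) := fun s hs =>
    h.cenZ (h.Mab hab (mul_mem ha'S (inv_mem hyu)) (h.br.2 _ ha'S _ (inv_mem hyu)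
      (fun h1 => hn2 (h1.symm.pow_left _)) fun h1 => hyu' (by simpa using h1.inv_left))) hyu hyu'
      (ha'u.symm.mul_right (Commute.refl _).inv_right) hs
  obtain ⟨z, hz⟩ : ∃ z, z = a' * (y * u)⁻¹ * (a * u) := ⟨_, rfl⟩
  have zc : ∀ s ∈ (S : Subgroup G), Commute s z := fun s hs => hz ▸ (z1 s hs).mul_right (z0 s hs)
  have zS : z ∈ (S : Subgroup G) := hz ▸ mul_mem (mul_mem ha'S (inv_mem hyu)) (mul_mem hm1 h.uS)
  obtain ⟨ρ, hρd⟩ : ∃ ρ, ρ = a' * a := ⟨_, rfl⟩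
  have hρ : ρ = y * z := by
    rw [hρd, hz, ← mul_assoc, (z1 y h.br.1).eq, hm2.eq]; group
  have hinv : a * ρ * a⁻¹ = ρ⁻¹ := by
    rw [hρd, mul_inv_rev, hai, inv_eq_of_mul_eq_one_right ht'.sq, mul_assoc, mul_assoc, haa, mul_one]
  have ρS : ρ ∈ (S : Subgroup G) := hρd ▸ mul_mem ha'S hm1
  have hρi : ρ ^ 2 ^ (f + 1) = y ^ 2 ^ (f + 1) := by
    rw [hρ, (zc y h.br.1).mul_pow, hZ z zS zc, mul_one]
  have hdi : cc y u ^ 2 ^ f = y ^ 2 ^ (f + 1) := by
    have h1 : a * ρ * a⁻¹ = ρ * cc y u := by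
      rw [show a * ρ * a⁻¹ = a * u * (u⁻¹ * ρ * u⁻¹⁻¹) * (a * u)⁻¹ by group, cj_iff.2 (z0 _
        (mul_mem (mul_mem (inv_mem h.uS) ρS) (inv_mem (inv_mem h.uS)))).symm,
        show u⁻¹ * ρ * u⁻¹⁻¹ = u * ρ * u⁻¹ by simp only [h.ui], hρ, ← conj_mul, h.uy,
        cj_iff.2 (zc u h.uS), mul_assoc, (zc _ h.cS).eq, mul_assoc]
    rw [hinv] at h1
    rw [show cc y u = (ρ ^ 2)⁻¹ by rw [eq_inv_mul_of_mul_eq h1.symm, pow_two]; group, inv_pow,
      ← pow_mul, ← pow_succ', hρi, inv_eq_of_mul_eq_one_right (h.ii he)]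
  have hzi : ∀ k : ℤ, a * ρ ^ k = ρ ^ (-k) * a := fun k => by
    rw [← mul_inv_eq_iff_eq_mul, ← conj_zpow, hinv]; group
  let K : Subgroup G :=
    { carrier := {s | ∃ k : ℤ, s = ρ ^ k ∨ s = ρ ^ k * a}
      one_mem' := ⟨0, Or.inl (by simp)⟩
      mul_mem' := by
        rintro _ _ ⟨k, rfl | rfl⟩ ⟨l, rfl | rfl⟩
        · exact ⟨k + l, Or.inl (by group)⟩
        · exact ⟨k + l, Or.inr (by group)⟩
        · exact ⟨k - l, Or.inr (by rw [mul_assoc, hzi]; group)⟩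
        · exact ⟨k - l, Or.inl (by
            rw [mul_assoc, ← mul_assoc a, hzi, mul_assoc, haa]; group)⟩
      inv_mem' := by
        rintro _ ⟨k, rfl | rfl⟩
        · exact ⟨-k, Or.inl (by group)⟩
        · exact ⟨k, Or.inr (by rw [mul_inv_rev, hai, ← zpow_neg, hzi, neg_neg])⟩ }
  have hnc : ∀ g : G, g * b * g⁻¹ ≠ y ^ 2 ^ (f + 1) := by
    intro g hg
    obtain ⟨ν, hν, e⟩ := S.conj_eq_normalizer_conj_of_mem_centralizer (y ^ 2 ^ (f + 1)) g
      (fun s hs => h.br.top he hs) (by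
        rw [← hg, show g⁻¹ * (g * b * g⁻¹) * g = b by group]
        exact fun s hs => h.Dc hab hb hs)
    rw [← hg, show g⁻¹ * (g * b * g⁻¹) * g = b by group, hg, ← cpow] at e
    have h1 := H83.conj_mem' le_rfl hν h.br.1
    obtain ⟨k, w, hw, e'⟩ := h.dec _ h1 (h.powS hD (by rw [hdi, h.ii he]) h1 (e ▸ hb1))
    rw [e', h.powM k _ hw, hD w hw, mul_one] at e
    rcases pow_invol (h.ii he) k with ⟨-, h3⟩ | ⟨-, h3⟩
    · exact hb1 (e.trans h3)
    · exact h.iD (h3 ▸ e ▸ hb)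
  have hbK : ∀ g : G, g * b * g⁻¹ ∉ K := by
    rintro g ⟨k, e | e⟩
    · obtain ⟨l, hl⟩ := mem_powers_iff_mem_zpowers.2 (zpow_mem (mem_zpowers ρ) k)
      have h1 : ρ ^ (2 * l) = 1 := by
        rw [pow_mul', pow_two, show ρ ^ l = _ from hl, ← e, conj_mul, hb2]; simp
      have h2 := dvd_of_pow (hρi ▸ h.i1) (hρi ▸ h.ii he) h1
      rw [pow_succ'] at h2
      obtain ⟨r, rfl⟩ := Nat.dvd_of_mul_dvd_mul_left two_pos h2
      rw [← show ρ ^ _ = _ from hl, pow_mul, hρi] at e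
      rcases pow_invol (h.ii he) r with ⟨-, h3⟩ | ⟨-, h3⟩
      · exact hb1 (by simpa [h3] using e)
      · exact hnc g (e.trans h3)
    · rcases Int.even_or_odd' k with ⟨j, rfl | rfl⟩
      · refine hnc (m⁻¹ * ρ ^ (-j) * g) ?_
        rw [show m⁻¹ * ρ ^ (-j) * g * b * (m⁻¹ * ρ ^ (-j) * g)⁻¹ =
          m⁻¹ * (ρ ^ (-j) * (g * b * g⁻¹) * ρ ^ j) * m by group, e, mul_assoc (ρ ^ (-j)),
          mul_assoc _ a, hzi, ← hdi, show ρ ^ (-j) * (ρ ^ (2 * j) * (ρ ^ (-j) * a)) = a by group, ha]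
        group
      · refine hnc (n⁻¹ * ρ ^ (-j) * g) ?_
        rw [show n⁻¹ * ρ ^ (-j) * g * b * (n⁻¹ * ρ ^ (-j) * g)⁻¹ =
          n⁻¹ * (ρ ^ (-j) * (g * b * g⁻¹) * ρ ^ j) * n by group, e, mul_assoc (ρ ^ (-j)),
          mul_assoc _ a, hzi, ← hdi,
          show ρ ^ (-j) * (ρ ^ (2 * j + 1) * (ρ ^ (-j) * a)) = ρ * a by group, hρd, mul_assoc a', haa,
          ha']
        group
  have bK : b ∉ K := by simpa using hbK 1
  have KS : ∀ s ∈ K, Commute s b := by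
    rintro _ ⟨k, rfl | rfl⟩
    · exact h.Dc hab hb (zpow_mem ρS k)
    · exact h.Dc hab hb (mul_mem (zpow_mem ρS k) hm1)
  have hle : (S : Subgroup G) ≤ K ⊔ zpowers b := by
    have h1 : D ≤ K ⊔ zpowers b := fun w hw => by
      rcases hD2 w hw with rfl | e
      · exact one_mem _
      · rw [eq_inv_of_mul_eq_one_left e]; exact inv_mem (mem_sup_right (mem_zpowers b))
    have h2 : ρ ∈ K ⊔ zpowers b := mem_sup_left ⟨1, Or.inl (by simp)⟩
    have h3 : ∀ z ∈ (S : Subgroup G), (∀ s ∈ (S : Subgroup G), Commute s z) → z ∈ K ⊔ zpowers b := by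
      intro z hz h3
      rcases h.Zform he hz (h3 y h.br.1).symm (h3 u h.uS) with h4 | h4
      · exact h1 h4
      · have h5 := pow_mem h2 (2 ^ (f + 1))
        rw [hρi] at h5
        exact (mul_mem_cancel_left h5).1 (h1 h4)
    have h4 : y ∈ K ⊔ zpowers b := by simpa [hρ] using mul_mem h2 (inv_mem (h3 z zS zc))
    have h5 : u ∈ K ⊔ zpowers b := by
      simpa using mul_mem (inv_mem (mem_sup_left (show a ∈ K from ⟨0, Or.inr (by simp)⟩)))
        (h3 _ (mul_mem hm1 h.uS) z0)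
    intro s hs
    by_cases h6 : Commute s y
    · obtain ⟨k, w, hw, rfl⟩ := h.dec s hs h6
      exact mul_mem (pow_mem h4 k) (h1 hw)
    · obtain ⟨k, w, hw, rfl⟩ := h.form hs h6
      exact mul_mem (mul_mem (pow_mem h4 k) (h1 hw)) h5
  obtain ⟨L, hL, hL2, -⟩ := H87.thompson_transfer_involution (H87.odd_index_sylow S) (M := K)
    (relIndex_eq_two_iff.2 ⟨b, h.DS hb, fun s hs => by
      obtain ⟨κ, hκ, β, hβ, rfl⟩ := (H83.mem_sup_left_norm (H83.le_norm_of_le_cent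
        (zpowers_le.2 KS))).1 (hle hs)
      rcases zp_two hb2 hβ with rfl | rfl
      · exact Or.inr ⟨by simpa using hκ, fun h1 => bK (by simpa using mul_mem (inv_mem hκ) h1)⟩
      · exact Or.inl ⟨by rwa [mul_assoc, hb2, mul_one],
          fun h1 => bK (by simpa using mul_mem (inv_mem hκ) h1)⟩⟩) (by rw [pow_two, hb2]) hbK
  exact hT L hL hL2

/-- If every 2-element is fused to an element of breadth at most one, there is no nontrivial
strongly closed abelian subgroup and no subgroup of index two, then `S` is elementary abelian or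
has a self-centralizing four-subgroup. -/
theorem fl (S : Sylow 2 G) (hA : ∀ g ∈ (S : Subgroup G), ∃ h : G, Br S (h⁻¹ * g * h))
    (hN : ∀ A : Subgroup G, IsStronglyClosed A (S : Subgroup G) → IsMulCommutative A → A = ⊥)
    (hT : ∀ K : Subgroup G, K.Normal → K.index ≠ 2) :
    (∀ s ∈ (S : Subgroup G), s ^ 2 = 1) ∨ ∃ x ∈ (S : Subgroup G), orderOf x = 2 ∧
      Nat.card ↥((S : Subgroup G) ⊓ centralizer ({x} : Set G)) = 4 := by
  classical
  refine or_iff_not_imp_left.2 fun h0 => ?_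
  obtain ⟨f, he, g, hg, hg1⟩ := exists_exp S.2 h0
  have hZ : ∀ z ∈ (S : Subgroup G), (∀ s ∈ (S : Subgroup G), Commute s z) →
      z ^ 2 ^ (f + 1) = 1 := by
    have h1 := hN (H51.mhoZ (2 ^ (f + 1)) S) ⟨(H51.mhoZ_le _ _).trans inf_le_left,
      fun x hx g hg => by
        obtain ⟨k, hk, h⟩ := H51.controls_fusion_mhoZ S he (A := {x})
          (Set.singleton_subset_iff.2 (H51.mhoZ_le _ _ hx).1) (g := g⁻¹)
          (by rw [Set.image_singleton, inv_inv]; exact Set.singleton_subset_iff.2 hg)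
        have := h x rfl
        rw [inv_inv] at this
        rw [← this]
        exact H83.conj_mem' le_rfl hk hx⟩
      ⟨⟨fun a b => Subtype.ext ((H51.mhoZ_le _ _ b.2).2 a (H51.mhoZ_le _ _ a.2).1)⟩⟩
    exact fun z hz h2 => mem_bot.1 (h1 ▸ (⟨z, ⟨hz, h2⟩, rfl⟩ : _ ∈ H51.mhoZ _ _))
  obtain ⟨E, x, hx, y, hy, hn⟩ : ∃ E x, EssStep 2 (S : Subgroup G) E x ∧ ∃ y, Br S y ∧
      ¬ Commute x (y ^ 2 ^ (f + 1)) := by
    by_contra h1
    push Not at h1
    set U := Subgroup.closure {v | ∃ y, Br (S : Subgroup G) y ∧ v = y ^ 2 ^ (f + 1)} with hU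
    have hUS : U ≤ (S : Subgroup G) ⊓ centralizer ((S : Subgroup G) : Set G) := by
      rw [closure_le]
      rintro _ ⟨y, hy, rfl⟩
      exact ⟨pow_mem hy.1 _, fun s hs => hy.top he hs⟩
    have h2 := hN U (sc_of_control S (hUS.trans inf_le_left) (by
      intro n hn
      rw [← inv_mem_iff]
      refine mem_normalizer_fintype fun v hv => ?_
      rw [inv_inv, SetLike.mem_coe, ← mem_conj_smul]
      refine (closure_le _).2 ?_ hv
      rintro _ ⟨y, hy, rfl⟩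
      exact mem_conj_smul.2 (subset_closure ⟨_, hy.conj hn, (cpow _ _ _).symm⟩)) fun E x hx => by
        refine centralizer_le_normalizer _ ?_
        rw [hU, centralizer_closure]
        rintro _ ⟨y, hy, rfl⟩
        exact (h1 E x hx y hy).symm) ⟨⟨fun a b => Subtype.ext ((hUS b.2).2 a (hUS a.2).1)⟩⟩
    obtain ⟨k, hk⟩ := hA g hg
    have h3 : (k⁻¹ * g * k) ^ 2 ^ (f + 1) ∈ U := subset_closure ⟨_, hk, rfl⟩
    rw [h2, mem_bot, cpow] at h3
    exact hg1 (by simpa [mul_assoc] using congrArg (fun b => k * b * k⁻¹) h3)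
  obtain ⟨u, D, h⟩ := beta S he hx hy hn
  have hD : ∀ w ∈ D, w ^ 2 ^ (f + 1) = 1 := fun w hw => h.expD he hA hZ hw
  obtain rfl := h.eq_bot he (h.abelian he hA hD) hD hZ hN hT
  have hu1 : u ≠ 1 := fun e => h.nc (e ▸ Commute.one_left y)
  refine ⟨u, h.uS, orderOf_eq_prime (by rw [pow_two, h.uu]) hu1, ?_⟩
  have hiy : Commute (y ^ 2 ^ (f + 1)) y := (Commute.refl y).pow_left _
  have hiu := hy.top he h.uS
  have h1 : ∀ s ∈ (S : Subgroup G), Commute s y → Commute u s → s = 1 ∨ s = y ^ 2 ^ (f + 1) :=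
    fun s hs h1 h2 => (h.Zform he hs h1 h2).imp mem_bot.1 fun h3 => by
      rw [eq_inv_of_mul_eq_one_right (mem_bot.1 h3), inv_eq_of_mul_eq_one_right (h.ii he)]
  have h2 : (((S : Subgroup G) ⊓ centralizer ({u} : Set G) : Subgroup G) : Set G) =
      ({1, y ^ 2 ^ (f + 1), u, y ^ 2 ^ (f + 1) * u} : Finset G) := by
    ext s
    simp only [SetLike.mem_coe, mem_inf, mem_centralizer_singleton_iff, Finset.coe_insert,
      Finset.coe_singleton, Set.mem_insert_iff, Set.mem_singleton_iff]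
    constructor
    · rintro ⟨hs, h2⟩
      have h2 : Commute u s := h2.symm
      by_cases h3 : Commute s y
      · rcases h1 s hs h3 h2 with e | e <;> simp [e]
      · rcases h1 _ (mul_mem hs h.uS) (h.spl hs h3) (h2.mul_right (Commute.refl u)) with e | e <;>
          simp [eq_mul_inv_of_mul_eq e, h.ui]
    · rintro (rfl | rfl | rfl | rfl)
      · exact ⟨one_mem _, by simp⟩
      · exact ⟨pow_mem hy.1 _, hiu.symm⟩
      · exact ⟨h.uS, rfl⟩
      · exact ⟨mul_mem (pow_mem hy.1 _) h.uS, hiu.symm.mul_left (Commute.refl _)⟩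
  have h3 : y ^ 2 ^ (f + 1) ≠ u := fun e => h.nc (e ▸ hiy)
  have h4 : 1 ≠ y ^ 2 ^ (f + 1) * u := fun e => h.nc (by
    rw [eq_inv_of_mul_eq_one_right e.symm]; exact hiy.inv_left)
  change Nat.card ↥(((S : Subgroup G) ⊓ centralizer ({u} : Set G) : Subgroup G) : Set G) = 4
  rw [h2, Nat.card_coe_set_eq, Set.ncard_coe_finset, Finset.card_insert_of_notMem
    (by simp [h.i1.symm, hu1.symm, h4]), Finset.card_insert_of_notMem (by simp [h3, hu1]),
    Finset.card_pair (by simp [h.i1])]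

end Cfsg.Agent.H81.Sq
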